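import Groth.Agent.Lib.ASBun21.EndSimple

/-!
# Invertible modules on a connected scheme are indecomposable
-/

set_option autoImplicit false
set_option linter.style.haveILetI false
set_option backward.isDefEq.respectTransparency false
set_option maxHeartbeats 1000000

universe u v w

open CategoryTheory CategoryTheory.Limits AlgebraicGeometry TopologicalSpace

noncomputable section

namespace GrothLib.ASBun21

open GrothLib.InvExt (IsGen mres fres)

/-- An object without a nontrivial idempotent is indecomposable. -/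
theorem indec_of_idem {C : Type w} [Category.{v} C] [Abelian C] {L : C} (hL : ¬ IsZero L)
    (h : ∀ φ : L ⟶ L, φ ≫ φ = φ → φ = 0 ∨ φ = 𝟙 L) : Indec L := by
  refine ⟨hL, fun A B ⟨e⟩ => ?_⟩
  rcases h (e.hom ≫ biprod.fst ≫ biprod.inl ≫ e.inv) (by simp) with hc | hc
  · refine Or.inl ((IsZero.iff_id_eq_zero A).2 ?_)
    have := congrArg (fun t => biprod.inl ≫ e.inv ≫ t ≫ e.hom ≫ biprod.fst) hc
    simpa using this
  · refine Or.inr ((IsZero.iff_id_eq_zero B).2 ?_)
    have := congrArg (fun t => biprod.inr ≫ e.inv ≫ t ≫ e.hom ≫ biprod.snd) hc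
    simpa using this.symm

variable {X : Scheme.{u}} {L : X.Modules}

theorem app_mres {φ : L ⟶ L} {V W : X.Opens} (h : W ≤ V) (m : Γ(L, V)) :
    φ.app W (mres L h m) = mres L h (φ.app V m) :=
  PresheafOfModules.naturality_apply φ.val (homOfLE h).op m

/-- The open locus where an endomorphism vanishes. -/
def vanishing (φ : L ⟶ L) : Set X := {x | ∃ V : X.Opens, x ∈ V ∧ ∀ T : X.Opens, T ≤ V → ∀ m, φ.app T m = 0}

theorem isOpen_vanishing (φ : L ⟶ L) : IsOpen (vanishing φ) :=
  isOpen_iff_forall_mem_open.2 fun _ ⟨V, hx, h⟩ => ⟨V, fun _ hy => ⟨V, hy, h⟩, V.2, hx⟩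

theorem eq_zero_of_vanishing {φ : L ⟶ L} (h : vanishing φ = Set.univ) : φ = 0 := by
  refine Scheme.Modules.hom_ext _ _ fun T => AddCommGrpCat.ext fun m => ?_
  show φ.app T m = 0
  refine QCoh.section_eq_zero_of_germ L _ fun y hy => ?_
  obtain ⟨V, hyV, hV⟩ := h.symm ▸ Set.mem_univ y
  rw [← QCoh.germ_map L (homOfLE (inf_le_left : T ⊓ V ≤ T)) (⟨hy, hyV⟩ : y ∈ T ⊓ V),
    show L.presheaf.map (homOfLE (inf_le_left : T ⊓ V ≤ T)).op (φ.app T m) = φ.app _ (mres L inf_le_left m)
      from (app_mres inf_le_left m).symm, hV _ inf_le_right, map_zero]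

/-- An idempotent endomorphism of an invertible module on a connected scheme is trivial. -/
theorem idem_eq_zero_or_id [PreconnectedSpace X] (hL : PicF.IsInvertible L) (φ : L ⟶ L) (hφ : φ ≫ φ = φ) :
    φ = 0 ∨ φ = 𝟙 L := by
  have hloc : ∀ x, x ∈ vanishing φ ∨ x ∈ vanishing (𝟙 L - φ) := fun x => by
    obtain ⟨V, e, hxV, he⟩ := InvExt.exists_gen_nhd hL x
    obtain ⟨c, hc⟩ := he.exists_smul_eq le_rfl (φ.app V e)
    simp only [InvExt.mres_self] at hc
    have hcc : c * c = c := he.smul_left_injective le_rfl (by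
      simp only [InvExt.mres_self]
      have := congrArg (fun t : L ⟶ L => t.app V e) hφ
      simp only [Scheme.Modules.Hom.comp_app, AddCommGrpCat.hom_comp, AddMonoidHom.coe_comp, Function.comp_apply] at this
      rw [hc, Scheme.Modules.Hom.app_smul, hc, smul_smul] at this
      exact this)
    have key : ∀ (ψ : L ⟶ L) (d : Γ(X, V)), ψ.app V e = d • e → X.presheaf.germ V x hxV d = 0 →
        x ∈ vanishing ψ := fun ψ d hd h0 => by
      obtain ⟨W, hxW, i, i', hW⟩ := X.presheaf.germ_eq x hxV hxV d 0 (h0.trans (map_zero _).symm)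
      refine ⟨W, hxW, fun T hT m => ?_⟩
      obtain ⟨a, ha⟩ := he.exists_smul_eq (hT.trans i.le) m
      rw [ha, Scheme.Modules.Hom.app_smul, app_mres, hd, InvExt.mres_smul]
      have : fres X (hT.trans i.le) d = 0 := by
        have hW' := congrArg (X.presheaf.map (homOfLE hT).op) hW
        rw [map_zero, map_zero, ← CategoryTheory.comp_apply, ← Functor.map_comp] at hW'
        exact hW'
      rw [this, zero_smul, smul_zero]
    have hidem : X.presheaf.germ V x hxV c * (1 - X.presheaf.germ V x hxV c) = 0 := by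
      rw [mul_sub, mul_one, ← map_mul, hcc, sub_self]
    rcases IsLocalRing.isUnit_or_isUnit_one_sub_self (X.presheaf.germ V x hxV c) with hu | hu
    · refine Or.inr (key _ (1 - c) ?_ ?_)
      · simp [hc, sub_smul]
      · rw [map_sub, map_one]
        exact hu.mul_right_eq_zero.1 hidem
    · exact Or.inl (key φ c hc (hu.mul_left_eq_zero.1 hidem))
  have hdisj : Disjoint (vanishing φ) (vanishing (𝟙 L - φ)) := Set.disjoint_left.2 fun x ⟨V, hx, h⟩ ⟨V', hx', h'⟩ => by
    obtain ⟨U, e, hxU, he⟩ := InvExt.exists_gen_nhd hL x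
    let T := U ⊓ (V ⊓ V')
    have h1 := h' T (inf_le_right.trans inf_le_right) (mres L inf_le_left e)
    simp only [Scheme.Modules.Hom.sub_app, AddCommGrpCat.hom_sub, AddMonoidHom.sub_apply,
      Scheme.Modules.Hom.id_app, h T (inf_le_right.trans inf_le_left), sub_zero] at h1
    have h2 : (1 : Γ(X, T)) = 0 := he.smul_left_injective inf_le_left (by simpa using h1)
    have h3 := congrArg (X.presheaf.germ T x (⟨hxU, hx, hx'⟩ : x ∈ T)) h2
    rw [map_one, map_zero] at h3
    exact one_ne_zero h3
  have hunion : vanishing φ ∪ vanishing (𝟙 L - φ) = Set.univ := Set.eq_univ_of_forall hloc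
  have hcl : IsClopen (vanishing φ) := by
    refine ⟨?_, isOpen_vanishing φ⟩
    rw [← isOpen_compl_iff, show (vanishing φ)ᶜ = vanishing (𝟙 L - φ) from
      (IsCompl.of_eq hdisj.eq_bot hunion).compl_eq]
    exact isOpen_vanishing _
  rcases isClopen_iff.1 hcl with h | h
  · refine Or.inr (sub_eq_zero.1 (eq_zero_of_vanishing (φ := 𝟙 L - φ) ?_)).symm
    simpa [h] using hunion
  · exact Or.inl (eq_zero_of_vanishing h)

/-- An invertible module on a connected scheme is indecomposable. -/
theorem indec_of_invertible [ConnectedSpace X] (hL : PicF.IsInvertible L) : Indec L := by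
  refine indec_of_idem (fun hz => ?_) fun φ hφ => idem_eq_zero_or_id hL φ hφ
  obtain ⟨x⟩ : Nonempty X := inferInstance
  obtain ⟨V, e, hxV, he⟩ := InvExt.exists_gen_nhd hL x
  have h1 : (1 : Γ(X, V)) = 0 := he.smul_left_injective le_rfl (by
    have := congrArg (fun t : L ⟶ L => t.app V e) (hz.eq_of_src (𝟙 L) 0)
    simpa [InvExt.mres_self] using this)
  have h3 := congrArg (X.presheaf.germ V x hxV) h1
  rw [map_one, map_zero] at h3
  exact one_ne_zero h3

end GrothLib.ASBun21
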