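import Groth.Agent.Lib.Euler.Scalar
import Groth.Agent.Lib.HomSh.Coherent
import Groth.Agent.Lib.HomSh.QCoh
import Groth.Prelude.Def_KLin

/-!
# Homomorphisms of coherent sheaves on a proper scheme form finite dimensional spaces
-/

set_option autoImplicit false
set_option linter.style.haveILetI false
set_option backward.isDefEq.respectTransparency false

universe u

open CategoryTheory CategoryTheory.Limits AlgebraicGeometry TopologicalSpace Opposite

noncomputable section

namespace GrothLib.ASBun21

variable (k : Type u) [Field k] {X : Scheme.{u}} [X.Over (Spec (CommRingCat.of k))]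
  [IsProper (X ↘ Spec (CommRingCat.of k))]

/-- Homomorphisms of coherent sheaves on a proper scheme form a finite dimensional space. -/
theorem finite_hom {E G : X.Modules} (hE : Coh.IsCoh E) (hG : Coh.IsCoh G) : Module.Finite k (E ⟶ G) := by
  haveI := Euler.isNoetherian_of_proper (X := X) k
  let S := RefHull.homSh E G
  haveI : FiniteDimensional k (Coh.HH X S 0) :=
    Euler.finiteDimensional_HH k (HomSh.isCoh_homSh (HomSh.hasRel_of_isCoh hE) hG) 0
  have hadd : ∀ ψ χ : E ⟶ G, RefHull.ofHom (ψ + χ) ⊤ = RefHull.ofHom ψ ⊤ + RefHull.ofHom χ ⊤ := by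
    intro ψ χ
    refine Subtype.ext (funext fun x => LinearMap.ext fun v => ?_)
    obtain ⟨U, hU, m, rfl⟩ := TopCat.Presheaf.exists_germ_eq E.presheaf v
    refine (RefHull.stalkMapₗ_germ _ _ _ _).trans ?_
    refine Eq.trans ?_ (congrArg₂ (· + ·) (RefHull.stalkMapₗ_germ ψ _ hU m).symm (RefHull.stalkMapₗ_germ χ _ hU m).symm)
    exact map_add (G.presheaf.germ U x.1 hU).hom (ψ.app U m) (χ.app U m)
  let Φ : (E ⟶ G) →ₗ[k] Coh.HH X S 0 :=
    { toFun := fun ψ => (ProjCoh.H0top S).symm (RefHull.ofHom ψ ⊤)
      map_add' := fun p q => by rw [hadd, map_add (ProjCoh.H0top S).symm]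
      map_smul' := fun c p => by
        refine (ProjCoh.H0top S).injective ?_
        rw [RingHom.id_apply, AddEquiv.apply_symm_apply, ProjCoh.H0top_smul, AddEquiv.apply_symm_apply]
        refine Subtype.ext (funext fun x => LinearMap.ext fun v => ?_)
        obtain ⟨U, hU, m, rfl⟩ := TopCat.Presheaf.exists_germ_eq E.presheaf v
        refine (RefHull.stalkMapₗ_germ _ _ _ _).trans ?_
        show G.presheaf.germ U x.1 hU ((c • p).app U m) =
          X.presheaf.germ ⊤ x.1 trivial _ • RefHull.stalkMapₗ p x.1 (E.presheaf.germ U x.1 hU m)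
        rw [RefHull.stalkMapₗ_germ, KLin.smul_app_apply, WeakAss.germ_smul, TopCat.Presheaf.germ_res_apply] }
  refine Module.Finite.of_injective Φ ((injective_iff_map_eq_zero Φ).2 fun ψ h => ?_)
  have h1 : RefHull.ofHom ψ ⊤ = 0 :=
    (ProjCoh.H0top S).symm.injective (h.trans (map_zero (ProjCoh.H0top S).symm).symm)
  refine Scheme.Modules.hom_ext _ _ fun U => ?_
  ext m
  refine QCoh.section_eq_zero_of_germ G _ fun x hx => ?_
  have h2 := congrArg (fun g : Γ(S, ⊤) => g.1 ⟨x, trivial⟩ (E.presheaf.germ U x hx m)) h1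
  exact (RefHull.stalkMapₗ_germ ψ x hx m).symm.trans h2

/-- A retract of a coherent sheaf on a proper scheme has finite dimensional endomorphisms. -/
theorem finite_end_of_retract {C : Type*} [Category C] [Preadditive C] [Linear k C] {E F : C} (i : E ⟶ F)
    (p : F ⟶ E) (h : i ≫ p = 𝟙 E) [Module.Finite k (F ⟶ F)] : Module.Finite k (E ⟶ E) := by
  let Ψ : (E ⟶ E) →ₗ[k] (F ⟶ F) :=
    { toFun := fun f => p ≫ f ≫ i
      map_add' := fun f g => by simp
      map_smul' := fun c f => by simp }
  refine Module.Finite.of_injective Ψ fun f g hfg => ?_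
  have := congrArg (fun t => i ≫ t ≫ p) (show p ≫ f ≫ i = p ≫ g ≫ i from hfg)
  simpa [h, reassoc_of% h] using this

end GrothLib.ASBun21
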