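import Mathlib.CategoryTheory.Abelian.Basic
import Mathlib.CategoryTheory.Preadditive.Biproducts
import Mathlib.CategoryTheory.Linear.Basic
import Mathlib.CategoryTheory.IsomorphismClasses
import Mathlib.RingTheory.Artinian.Module
import Mathlib.RingTheory.Adjoin.Basic
import Mathlib.RingTheory.Nilpotent.Basic
import Mathlib.Data.Multiset.Basic
import Mathlib.LinearAlgebra.Dimension.Constructions
import Mathlib.LinearAlgebra.FiniteDimensional.Basic
import Mathlib.Data.Fintype.EquivFin

/-!
# The Krull–Schmidt theorem in an abelian category with finite dimensional endomorphism rings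
-/

set_option autoImplicit false
set_option backward.isDefEq.respectTransparency false

universe v w x

open CategoryTheory CategoryTheory.Limits
open scoped ZeroObject

noncomputable section

namespace GrothLib.ASBun21

attribute [local instance] Abelian.hasFiniteBiproducts

variable {C : Type x} [Category.{v} C] [Abelian C]

/-- An indecomposable object. -/
def Indec (X : C) : Prop := ¬ IsZero X ∧ ∀ A B : C, Nonempty (X ≅ A ⊞ B) → IsZero A ∨ IsZero B

/-- An idempotent splits the object. -/
theorem nonempty_iso_of_idem {X : C} (e : X ⟶ X) (he : e ≫ e = e) :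
    Nonempty (X ≅ kernel e ⊞ kernel (𝟙 X - e)) := by
  have h1 : (𝟙 X - e) ≫ e = 0 := by rw [Preadditive.sub_comp, Category.id_comp, he, sub_self]
  have h2 : e ≫ (𝟙 X - e) = 0 := by rw [Preadditive.comp_sub, Category.comp_id, he, sub_self]
  have k1 : kernel.ι e ≫ e = 0 := kernel.condition e
  have k2 : kernel.ι (𝟙 X - e) ≫ e = kernel.ι (𝟙 X - e) := by
    have := kernel.condition (𝟙 X - e)
    rw [Preadditive.comp_sub, Category.comp_id, sub_eq_zero] at this
    exact this.symm
  refine ⟨⟨biprod.lift (kernel.lift e (𝟙 X - e) h1) (kernel.lift (𝟙 X - e) e h2),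
    biprod.desc (kernel.ι e) (kernel.ι (𝟙 X - e)), by simp, ?_⟩⟩
  apply biprod.hom_ext' <;> apply biprod.hom_ext <;> rw [← cancel_mono (kernel.ι _)] <;>
    simp [k1, k2]

/-- An indecomposable object has no nontrivial idempotent. -/
theorem Indec.idem {X : C} (hX : Indec X) (e : X ⟶ X) (he : e ≫ e = e) : e = 0 ∨ e = 𝟙 X := by
  rcases hX.2 _ _ (nonempty_iso_of_idem e he) with h | h
  · refine Or.inr ?_
    have h1 : (𝟙 X - e) ≫ e = 0 := by rw [Preadditive.sub_comp, Category.id_comp, he, sub_self]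
    have h2 : 𝟙 X - e = 0 := by rw [← kernel.lift_ι e _ h1, h.eq_of_tgt (kernel.lift e _ h1) 0, zero_comp]
    exact (sub_eq_zero.1 h2).symm
  · refine Or.inl ?_
    have h2 : e ≫ (𝟙 X - e) = 0 := by rw [Preadditive.comp_sub, Category.comp_id, he, sub_self]
    rw [← kernel.lift_ι (𝟙 X - e) e h2, h.eq_of_tgt (kernel.lift (𝟙 X - e) e h2) 0, zero_comp]

variable (k : Type w) [Field k] [Linear k C]

/-- In an indecomposable object with finite dimensional endomorphism ring every endomorphism is invertible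
or nilpotent. -/
theorem Indec.isUnit_or_isNilpotent {X : C} (hX : Indec X) [Module.Finite k (X ⟶ X)] (f : End X) :
    IsUnit f ∨ IsNilpotent f := by
  haveI : Module.Finite k (End X) := ‹Module.Finite k (X ⟶ X)›
  let A := Algebra.adjoin k ({f} : Set (End X))
  letI : CommRing A :=
    { (inferInstance : Ring A) with
      mul_comm := fun a b => Subtype.ext (Algebra.commute_of_mem_adjoin_singleton_of_commute (a := (a : End X)) b.2
        (Algebra.commute_of_mem_adjoin_self a.2).symm) }
  haveI : Module.Finite k A := inferInstanceAs (Module.Finite k (Subalgebra.toSubmodule A))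
  haveI : IsArtinianRing A := isArtinian_of_tower k inferInstance
  let a : A := ⟨f, Algebra.self_mem_adjoin_singleton k f⟩
  obtain ⟨n, y, hy⟩ := IsArtinian.exists_pow_succ_smul_dvd a (1 : A)
  have hy' : a ^ n = a ^ (n + 1) * y := by simpa using hy.symm
  have hm : ∀ m, a ^ n = a ^ (n + m) * y ^ m := fun m => by
    induction m with
    | zero => simp
    | succ m ih =>
      calc a ^ n = a ^ (n + m) * y ^ m := ih
        _ = a ^ m * a ^ n * y ^ m := by ring
        _ = a ^ m * (a ^ (n + 1) * y) * y ^ m := by rw [← hy']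
        _ = _ := by ring
  let e : A := a ^ n * y ^ n
  have hee : e * e = e := by
    show a ^ n * y ^ n * (a ^ n * y ^ n) = a ^ n * y ^ n
    conv_rhs => rw [hm n]
    ring
  have hfe : a ^ n * e = a ^ n := by
    show a ^ n * (a ^ n * y ^ n) = a ^ n
    conv_rhs => rw [hm n]
    ring
  rcases hX.idem (e : End X) (show ((e * e : A) : End X) = (e : End X) by rw [hee]) with h | h
  · refine Or.inr ⟨n, ?_⟩
    have h0 : e = 0 := Subtype.ext h
    rw [h0, mul_zero] at hfe
    exact (SubmonoidClass.coe_pow a n).symm.trans (congrArg Subtype.val hfe.symm)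
  · refine Or.inl ?_
    have h1 : e = 1 := Subtype.ext h
    rcases Nat.eq_zero_or_pos n with hn | hn
    · subst hn
      have : (1 : A) = a * y := by simpa using hy'
      exact (IsUnit.of_mul_eq_one y this.symm).map A.val
    · refine ((isUnit_pow_iff hn.ne').1 (IsUnit.of_mul_eq_one (y ^ n) h1)).map A.val

/-- The non-invertible endomorphisms of an indecomposable object are closed under sums. -/
theorem Indec.isUnit_of_add {X : C} (hX : Indec X) [Module.Finite k (X ⟶ X)] {f g : End X}
    (h : IsUnit (f + g)) : IsUnit f ∨ IsUnit g := by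
  obtain ⟨u, hu⟩ := h
  rcases hX.isUnit_or_isNilpotent k (↑u⁻¹ * f : End X) with h | h
  · exact Or.inl ((Units.isUnit_units_mul u⁻¹ f).1 h)
  · refine Or.inr ((Units.isUnit_units_mul u⁻¹ g).1 ?_)
    have : (↑u⁻¹ * g : End X) = 1 - ↑u⁻¹ * f := by
      rw [eq_sub_iff_add_eq, ← mul_add, add_comm g, ← hu, Units.inv_mul]
    rw [this]
    exact IsNilpotent.isUnit_one_sub h

/-- The sum of a list of objects. -/
def lsum : List C → C
  | [] => 0
  | a :: l => a ⊞ lsum l

theorem isZero_lsum_nil : IsZero (lsum ([] : List C)) := isZero_zero C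

theorem nonempty_lsum_perm {l l' : List C} (h : l.Perm l') : Nonempty (lsum l ≅ lsum l') := by
  induction h with
  | nil => exact ⟨Iso.refl _⟩
  | cons a _ ih => exact ⟨biprod.mapIso (Iso.refl a) ih.some⟩
  | swap a b l =>
    exact ⟨(biprod.associator b a (lsum l)).symm ≪≫ biprod.mapIso (biprod.braiding b a) (Iso.refl _) ≪≫
      biprod.associator a b (lsum l)⟩
  | trans _ _ ih ih' => exact ⟨ih.some ≪≫ ih'.some⟩

theorem nonempty_lsum_append (l l' : List C) : Nonempty (lsum (l ++ l') ≅ lsum l ⊞ lsum l') := by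
  induction l with
  | nil => exact ⟨isoZeroBiprod isZero_lsum_nil⟩
  | cons a l ih => exact ⟨biprod.mapIso (Iso.refl a) ih.some ≪≫ (biprod.associator a (lsum l) (lsum l')).symm⟩

/-- An indecomposable retract of a sum of indecomposables is one of them. -/
theorem exists_component {X : C} (hX : Indec X) [Module.Finite k (X ⟶ X)] :
    ∀ (l : List C), (∀ a ∈ l, Indec a) → ∀ (i : X ⟶ lsum l) (p : lsum l ⟶ X), IsUnit (M := End X) (i ≫ p) →
      ∃ (a : C) (l' : List C) (e : lsum l ≅ a ⊞ lsum l'), l.Perm (a :: l') ∧ IsIso (i ≫ e.hom ≫ biprod.fst) := by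
  intro l
  induction l with
  | nil =>
    intro _ i p h
    exfalso
    refine hX.1 ((IsZero.iff_id_eq_zero X).2 ?_)
    obtain ⟨u, hu⟩ := h
    have h0 : (i ≫ p : End X) = 0 := by
      show i ≫ p = 0
      rw [isZero_lsum_nil.eq_of_tgt i 0, zero_comp]
    have := u.inv_mul
    rw [hu, h0, mul_zero] at this
    exact this.symm
  | cons a l ih =>
    intro hl i p h
    change X ⟶ a ⊞ lsum l at i
    change a ⊞ lsum l ⟶ X at p
    change IsUnit (M := End X) (i ≫ p) at h
    have hd : (i ≫ p : End X) = ((i ≫ biprod.fst) ≫ biprod.inl ≫ p : End X) +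
        ((i ≫ biprod.snd) ≫ biprod.inr ≫ p : End X) := by
      show i ≫ p = (i ≫ biprod.fst) ≫ biprod.inl ≫ p + (i ≫ biprod.snd) ≫ biprod.inr ≫ p
      conv_lhs => rw [← Category.id_comp p, ← biprod.total]
      simp only [Category.assoc, Preadditive.add_comp, Preadditive.comp_add]
    rw [hd] at h
    rcases hX.isUnit_of_add k h with h | h
    · refine ⟨a, l, Iso.refl _, List.Perm.refl _, ?_⟩
      show IsIso (i ≫ 𝟙 (a ⊞ lsum l) ≫ biprod.fst)
      rw [Category.id_comp]
      obtain ⟨u, hu⟩ := h
      let j : X ⟶ a := i ≫ biprod.fst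
      let q : a ⟶ X := (biprod.inl ≫ p) ≫ (↑u⁻¹ : End X)
      have hjq : j ≫ q = 𝟙 X := by
        show (i ≫ biprod.fst) ≫ (biprod.inl ≫ p) ≫ (↑u⁻¹ : End X) = 𝟙 X
        rw [← Category.assoc]
        have := u.inv_mul
        rw [hu] at this
        exact this
      rcases (hl a (List.mem_cons_self ..)).idem (q ≫ j) (by rw [Category.assoc, reassoc_of% hjq]) with h0 | h0
      · exact absurd ((IsZero.iff_id_eq_zero X).2 (by
          calc (𝟙 X : X ⟶ X) = (j ≫ q) ≫ j ≫ q := by rw [hjq, Category.comp_id]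
            _ = j ≫ (q ≫ j) ≫ q := by simp only [Category.assoc]
            _ = 0 := by rw [h0, zero_comp, comp_zero])) hX.1
      · exact ⟨q, hjq, h0⟩
    · obtain ⟨b, l', e, hperm, hiso⟩ :=
        ih (fun c hc => hl c (List.mem_cons_of_mem _ hc)) (i ≫ biprod.snd) (biprod.inr ≫ p) h
      refine ⟨b, a :: l', biprod.mapIso (Iso.refl a) e ≪≫ (biprod.associator a b (lsum l')).symm ≪≫
        biprod.mapIso (biprod.braiding a b) (Iso.refl _) ≪≫ biprod.associator b a (lsum l'),
        (hperm.cons a).trans (List.Perm.swap b a l'), ?_⟩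
      change IsIso (i ≫ (biprod.mapIso (Iso.refl a) e ≪≫ (biprod.associator a b (lsum l')).symm ≪≫
        biprod.mapIso (biprod.braiding a b) (Iso.refl _) ≪≫ biprod.associator b a (lsum l')).hom ≫ biprod.fst)
      convert hiso using 1
      simp [biprod.associator, biprod.braiding]

/-- The isomorphism class. -/
def cls (X : C) : Quotient (isIsomorphicSetoid C) := Quotient.mk _ X

theorem cls_eq {X Y : C} : cls X = cls Y ↔ Nonempty (X ≅ Y) :=
  ⟨fun h => Quotient.exact h, fun h => Quotient.sound h⟩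

/-- **Uniqueness in the Krull–Schmidt theorem.** -/
theorem map_cls_perm :
    ∀ (l m : List C), (∀ a ∈ l, Indec a) → (∀ a ∈ l, Module.Finite k (a ⟶ a)) → (∀ a ∈ m, Indec a) → Nonempty (lsum l ≅ lsum m) →
      (l.map cls).Perm (m.map cls) := by
  intro l
  induction l with
  | nil =>
    rintro (_ | ⟨b, m⟩) _ _ hm ⟨e⟩
    · exact List.Perm.refl _
    · exfalso
      have hb := hm b (List.mem_cons_self ..)
      have hz : IsZero (b ⊞ lsum m) := IsZero.of_iso isZero_lsum_nil e.symm
      refine hb.1 ((IsZero.iff_id_eq_zero b).2 ?_)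
      rw [← biprod.inl_fst (X := b) (Y := lsum m)]
      rw [hz.eq_of_tgt (biprod.inl : b ⟶ b ⊞ lsum m) 0, zero_comp]
  | cons a l ih =>
    rintro m hl hfin hm ⟨e⟩
    change a ⊞ lsum l ≅ lsum m at e
    haveI := hfin a (List.mem_cons_self ..)
    obtain ⟨b, m', e', hperm, hiso⟩ := exists_component k (hl a (List.mem_cons_self ..)) m hm
      (biprod.inl ≫ e.hom) (e.inv ≫ biprod.fst) (by
        have h1 : (biprod.inl ≫ e.hom) ≫ e.inv ≫ biprod.fst = 𝟙 a := by simp
        rw [h1]; exact isUnit_one)
    let f : a ⊞ lsum l ≅ b ⊞ lsum m' := e ≪≫ e'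
    haveI : IsIso (biprod.inl ≫ f.hom ≫ biprod.fst) := by
      simpa [f, Category.assoc] using hiso
    have hrest : (l.map cls).Perm (m'.map cls) :=
      ih m' (fun c hc => hl c (List.mem_cons_of_mem _ hc)) (fun c hc => hfin c (List.mem_cons_of_mem _ hc))
        (fun c hc => hm c (hperm.mem_iff.2 (List.mem_cons_of_mem _ hc))) ⟨Biprod.isoElim f⟩
    refine List.Perm.trans ?_ (hperm.map cls).symm
    rw [List.map_cons, List.map_cons, cls_eq.2 ⟨asIso (biprod.inl ≫ f.hom ≫ biprod.fst)⟩]
    exact hrest.cons _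

theorem nonempty_lsum_of_map_cls : ∀ (l m : List C), l.map cls = m.map cls → Nonempty (lsum l ≅ lsum m)
  | [], [], _ => ⟨Iso.refl _⟩
  | [], b :: m, h => by simp at h
  | a :: l, [], h => by simp at h
  | a :: l, b :: m, h => by
    rw [List.map_cons, List.map_cons, List.cons.injEq] at h
    exact ⟨biprod.mapIso (cls_eq.1 h.1).some (nonempty_lsum_of_map_cls l m h.2).some⟩

theorem nonempty_lsum_of_perm_cls {l m : List C} (h : (l.map cls).Perm (m.map cls)) :
    Nonempty (lsum l ≅ lsum m) := by
  obtain ⟨m', hm', e⟩ : ∃ m' : List C, m'.Perm m ∧ l.map cls = m'.map cls := by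
    have h' : (Relation.Comp (fun a b => a = List.map (cls (C := C)) b) List.Perm) (l.map cls) m := by
      rw [List.eq_map_comp_perm]; exact h
    obtain ⟨l₂, h1, h2⟩ := h'
    exact ⟨l₂, h2, h1⟩
  exact ⟨(nonempty_lsum_of_map_cls l m' e).some ≪≫ (nonempty_lsum_perm hm').some⟩

/-- An isomorphism identifies endomorphisms. -/
theorem finite_end_of_iso {X Y : C} (e : X ≅ Y) [Module.Finite k (X ⟶ X)] : Module.Finite k (Y ⟶ Y) :=
  Module.Finite.equiv
    ({ toFun := fun f => e.inv ≫ f ≫ e.hom
       map_add' := fun f g => by simp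
       map_smul' := fun c f => by simp
       invFun := fun f => e.hom ≫ f ≫ e.inv
       left_inv := fun f => by simp
       right_inv := fun f => by simp } : (X ⟶ X) ≃ₗ[k] (Y ⟶ Y))

/-- Endomorphisms of the summands. -/
def endPair (A B : C) : (A ⟶ A) × (B ⟶ B) →ₗ[k] (A ⊞ B ⟶ A ⊞ B) where
  toFun fg := biprod.map fg.1 fg.2
  map_add' f g := by apply biprod.hom_ext' <;> simp
  map_smul' c f := by apply biprod.hom_ext' <;> simp

theorem endPair_injective (A B : C) : Function.Injective (endPair k A B) := by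
  intro f g h
  have h1 := congrArg (fun t => biprod.inl ≫ t ≫ biprod.fst) h
  have h2 := congrArg (fun t => biprod.inr ≫ t ≫ biprod.snd) h
  simp [endPair] at h1 h2
  exact Prod.ext h1 h2

theorem nonempty_iso_lsum_singleton (X : C) : Nonempty (X ≅ lsum [X]) :=
  ⟨isoBiprodZero isZero_lsum_nil⟩

/-- **Existence in the Krull–Schmidt theorem.** -/
theorem exists_decomposition (n : ℕ) : ∀ (X : C) [Module.Finite k (X ⟶ X)],
    Module.finrank k (X ⟶ X) ≤ n →
      ∃ l : List C, (∀ a ∈ l, Indec a ∧ Module.Finite k (a ⟶ a)) ∧ Nonempty (X ≅ lsum l) := by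
  induction n using Nat.strong_induction_on with
  | _ n ih =>
  intro X hX hn
  by_cases hz : IsZero X
  · exact ⟨[], by simp, ⟨hz.iso isZero_lsum_nil⟩⟩
  by_cases hi : Indec X
  · exact ⟨[X], fun a ha => by rw [List.mem_singleton.1 ha]; exact ⟨hi, hX⟩, nonempty_iso_lsum_singleton X⟩
  obtain ⟨A, B, ⟨e⟩, hA, hB⟩ : ∃ A B : C, Nonempty (X ≅ A ⊞ B) ∧ ¬ IsZero A ∧ ¬ IsZero B := by
    by_contra h
    push Not at h
    exact hi ⟨hz, fun A B he => or_iff_not_imp_left.2 fun hA => h A B he hA⟩
  haveI := finite_end_of_iso k e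
  haveI : Module.Finite k ((A ⟶ A) × (B ⟶ B)) := Module.Finite.of_injective _ (endPair_injective k A B)
  haveI : Module.Finite k (A ⟶ A) := Module.Finite.of_surjective (LinearMap.fst k _ (B ⟶ B)) Prod.fst_surjective
  haveI : Module.Finite k (B ⟶ B) := Module.Finite.of_surjective (LinearMap.snd k (A ⟶ A) _) Prod.snd_surjective
  have hpos : ∀ (Y : C) [Module.Finite k (Y ⟶ Y)], ¬ IsZero Y → 0 < Module.finrank k (Y ⟶ Y) := fun Y _ hY =>
    Module.finrank_pos_iff_exists_ne_zero.2 ⟨𝟙 Y, fun h => hY ((IsZero.iff_id_eq_zero Y).2 h)⟩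
  have hle : Module.finrank k (A ⟶ A) + Module.finrank k (B ⟶ B) ≤ n := by
    refine le_trans ?_ hn
    rw [← Module.finrank_prod (R := k)]
    refine (LinearMap.finrank_le_finrank_of_injective (endPair_injective k A B)).trans (le_of_eq ?_)
    exact (LinearEquiv.finrank_eq
      ({ toFun := fun f => e.inv ≫ f ≫ e.hom
         map_add' := fun f g => by simp
         map_smul' := fun c f => by simp
         invFun := fun f => e.hom ≫ f ≫ e.inv
         left_inv := fun f => by simp
         right_inv := fun f => by simp } : (X ⟶ X) ≃ₗ[k] (A ⊞ B ⟶ A ⊞ B))).symm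
  obtain ⟨l, hl, ⟨el⟩⟩ := ih _ (by have := hpos B hB; omega) A le_rfl
  obtain ⟨m, hm, ⟨em⟩⟩ := ih _ (by have := hpos A hA; omega) B le_rfl
  exact ⟨l ++ m, fun a ha => (List.mem_append.1 ha).elim (hl a) (hm a),
    ⟨e ≪≫ biprod.mapIso el em ≪≫ (nonempty_lsum_append l m).some.symm⟩⟩

theorem exists_decomp (X : C) [Module.Finite k (X ⟶ X)] :
    ∃ l : List C, (∀ a ∈ l, Indec a ∧ Module.Finite k (a ⟶ a)) ∧ Nonempty (X ≅ lsum l) :=
  exists_decomposition k _ X le_rfl

/-- A power. -/
def npow (X : C) (d : ℕ) : C := lsum (List.replicate d X)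

theorem nonempty_npow_lsum {X : C} {l : List C} (e : X ≅ lsum l) : ∀ d : ℕ,
    Nonempty (npow X d ≅ lsum (List.replicate d l).flatten)
  | 0 => ⟨Iso.refl _⟩
  | d + 1 => ⟨biprod.mapIso e (nonempty_npow_lsum e d).some ≪≫
      (nonempty_lsum_append l (List.replicate d l).flatten).some.symm⟩

include k in
/-- **Cancellation.** -/
theorem nonempty_iso_of_npow {X Y : C} [Module.Finite k (X ⟶ X)] [Module.Finite k (Y ⟶ Y)] {d : ℕ}
    (hd : d ≠ 0) (h : Nonempty (npow X d ≅ npow Y d)) : Nonempty (X ≅ Y) := by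
  obtain ⟨l, hl, ⟨el⟩⟩ := exists_decomp k X
  obtain ⟨m, hm, ⟨em⟩⟩ := exists_decomp k Y
  have hmem : ∀ {l : List C} {a : C}, a ∈ (List.replicate d l).flatten → a ∈ l := fun {l a} ha => by
    obtain ⟨t, ht, hat⟩ := List.mem_flatten.1 ha
    rwa [(List.mem_replicate.1 ht).2] at hat
  have hp := map_cls_perm k (List.replicate d l).flatten (List.replicate d m).flatten
    (fun a ha => (hl a (hmem ha)).1) (fun a ha => (hl a (hmem ha)).2) (fun a ha => (hm a (hmem ha)).1)
    ⟨(nonempty_npow_lsum el d).some.symm ≪≫ h.some ≪≫ (nonempty_npow_lsum em d).some⟩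
  have hM : ∀ l : List C, (((List.replicate d l).flatten.map cls : List _) : Multiset (Quotient (isIsomorphicSetoid C))) =
      d • ((l.map cls : List _) : Multiset (Quotient (isIsomorphicSetoid C))) := by
    intro l
    clear hp hmem hd h
    induction d with
    | zero => simp
    | succ d ih =>
      rw [List.replicate_succ, List.flatten_cons, List.map_append, ← Multiset.coe_add, ih, succ_nsmul, add_comm]
  have he := Multiset.coe_eq_coe.2 hp
  rw [hM l, hM m] at he
  classical
  have hlm : (l.map cls).Perm (m.map cls) := Multiset.coe_eq_coe.1 (Multiset.ext.2 fun q => by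
    have := congrArg (Multiset.count q) he
    rw [Multiset.count_nsmul, Multiset.count_nsmul] at this
    exact Nat.eq_of_mul_eq_mul_left (Nat.pos_of_ne_zero hd) this)
  exact ⟨el ≪≫ (nonempty_lsum_of_perm_cls hlm).some ≪≫ em.symm⟩

/-- Splitting off the first summand. -/
def biproductSucc {n : ℕ} (F : Fin (n + 1) → C) : ⨁ F ≅ F 0 ⊞ ⨁ (fun i : Fin n => F i.succ) where
  hom := biprod.lift (biproduct.π F 0) (biproduct.lift fun i => biproduct.π F i.succ)
  inv := biprod.desc (biproduct.ι F 0) (biproduct.desc fun i => biproduct.ι F i.succ)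
  hom_inv_id := by
    refine biproduct.hom_ext' _ _ fun j => ?_
    refine biproduct.hom_ext _ _ fun i => ?_
    rw [biprod.lift_desc]
    induction i using Fin.cases with
    | zero =>
      simp [biproduct.lift_desc, Preadditive.sum_comp, biproduct.ι_π_ne _ (Fin.succ_ne_zero _)]
    | succ i =>
      simp [biproduct.lift_desc, Preadditive.sum_comp, biproduct.ι_π_ne _ (Fin.succ_ne_zero i).symm]
      rw [Finset.sum_eq_single i]
      · simp
      · intro x _ hx
        simp [biproduct.ι_π_ne _ (fun e : x.succ = i.succ => hx (Fin.succ_injective _ e))]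
      · simp
  inv_hom_id := by
    apply biprod.hom_ext' <;> apply biprod.hom_ext
    · simp
    · simp [biproduct.lift]
      refine biproduct.hom_ext _ _ fun i => ?_
      simp [biproduct.ι_π_ne _ (Fin.succ_ne_zero i).symm]
    · refine biproduct.hom_ext' _ _ fun i => ?_
      simp [biproduct.ι_π_ne _ (Fin.succ_ne_zero i)]
    · refine biproduct.hom_ext' _ _ fun i => ?_
      refine biproduct.hom_ext _ _ fun j => ?_
      by_cases h : i = j
      · subst h; simp
      · simp [biproduct.ι_π_ne _ h, biproduct.ι_π_ne _ (fun e => h (Fin.succ_injective _ e))]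

theorem nonempty_biproduct_lsum : ∀ {n : ℕ} (F : Fin n → C), Nonempty (⨁ F ≅ lsum (List.ofFn F))
  | 0, F => by
    refine ⟨(IsZero.iso ((IsZero.iff_id_eq_zero _).2 ?_) isZero_lsum_nil)⟩
    exact biproduct.hom_ext _ _ fun i => i.elim0
  | n + 1, F => by
    rw [List.ofFn_succ]
    exact ⟨biproductSucc F ≪≫ biprod.mapIso (Iso.refl _) (nonempty_biproduct_lsum fun i => F i.succ).some⟩

theorem nonempty_coprod_lsum {n : ℕ} (F : Fin n → C) [HasCoproduct F] : Nonempty (∐ F ≅ lsum (List.ofFn F)) :=
  ⟨(biproduct.isoCoproduct F).symm ≪≫ (nonempty_biproduct_lsum F).some⟩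

theorem nonempty_pow_npow (X : C) (d : ℕ) [HasCoproduct fun _ : Fin d => X] :
    Nonempty ((∐ fun _ : Fin d => X) ≅ npow X d) := by
  have h := nonempty_coprod_lsum (fun _ : Fin d => X)
  rw [List.ofFn_const] at h
  exact h

include k in
/-- Uniqueness for indexed families. -/
theorem exists_equiv_of_iso {n m : ℕ} (F : Fin n → C) (G : Fin m → C) [HasCoproduct F] [HasCoproduct G]
    (hF : ∀ i, Indec (F i)) (hG : ∀ j, Indec (G j)) (hFf : ∀ i, Module.Finite k (F i ⟶ F i))
    (e : Nonempty (∐ F ≅ ∐ G)) : ∃ σ : Fin n ≃ Fin m, ∀ i, Nonempty (F i ≅ G (σ i)) := by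
  have hp := map_cls_perm k (List.ofFn F) (List.ofFn G) (by simpa [List.forall_mem_ofFn_iff] using hF)
    (by simpa [List.forall_mem_ofFn_iff] using hFf) (by simpa [List.forall_mem_ofFn_iff] using hG)
    ⟨(nonempty_coprod_lsum F).some.symm ≪≫ e.some ≪≫ (nonempty_coprod_lsum G).some⟩
  classical
  rw [List.map_ofFn, List.map_ofFn] at hp
  have hnm : n = m := by simpa using hp.length_eq
  subst hnm
  have hM := Multiset.coe_eq_coe.2 hp
  rw [List.ofFn_eq_map, List.ofFn_eq_map] at hM
  have hc : ∀ q, Fintype.card {i : Fin n // cls (F i) = q} = Fintype.card {j : Fin n // cls (G j) = q} := by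
    intro q
    have h := congrArg (Multiset.count q) hM
    rw [← Multiset.map_coe, ← Multiset.map_coe, Multiset.count_map, Multiset.count_map] at h
    rw [Fintype.card_subtype, Fintype.card_subtype]
    simpa [Finset.card, Finset.filter, eq_comm, Finset.univ, Fintype.elems, Fin.univ_def] using h
  refine ⟨Equiv.ofFiberEquiv (f := fun i => cls (F i)) (g := fun j => cls (G j))
    fun q => Fintype.equivOfCardEq (hc q), fun i => ?_⟩
  exact cls_eq.1 (Equiv.ofFiberEquiv_map (f := fun i => cls (F i)) (g := fun j => cls (G j)) _ i).symm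

end GrothLib.ASBun21
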