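import Groth.Agent.Lib.ASBun21.HomBC
import Groth.Agent.Lib.ASBun21.KrullSchmidt
import Groth.Agent.Lib.ASBun21.HomFinite
import Mathlib.FieldTheory.IntermediateField.Adjoin.Basic
import Mathlib.LinearAlgebra.Matrix.ToLin

/-!
# Descending isomorphisms along an extension of the ground field
-/

set_option autoImplicit false
set_option linter.style.haveILetI false
set_option backward.isDefEq.respectTransparency false
set_option maxHeartbeats 1000000

universe u v w

open CategoryTheory CategoryTheory.Limits AlgebraicGeometry TopologicalSpace Opposite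

noncomputable section

namespace GrothLib.ASBun21

attribute [local instance] Abelian.hasFiniteBiproducts

section Abstract

variable {C : Type w} [Category.{v} C] [Abelian C] {k : Type u} [Field k] [Linear k C]
  {L : Type u} [Field L] [Algebra k L] {d : ℕ} (e : Module.Basis (Fin d) k L) {F G H : C}

/-- The matrix of morphisms of a combination `Σ e_j ⊗ φ_j`. -/
def regMap (φ : Fin d → (F ⟶ G)) : (⨁ fun _ : Fin d => F) ⟶ ⨁ fun _ : Fin d => G :=
  biproduct.matrix fun a c => ∑ j, e.repr (e j * e a) c • φ j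

theorem repr_assoc (j l a c : Fin d) :
    ∑ q, e.repr (e j * e a) q * e.repr (e l * e q) c = e.repr (e l * (e j * e a)) c := by
  conv_rhs => rw [← e.sum_repr (e j * e a), Finset.mul_sum]
  simp only [mul_smul_comm, map_sum, map_smul, Finsupp.finsetSum_apply, Finsupp.smul_apply, smul_eq_mul]

theorem regMap_comp_eq_id (φ : Fin d → (F ⟶ G)) (θ : Fin d → (G ⟶ F))
    (h : ∀ m, ∑ j, ∑ l, e.repr (e j * e l) m • (φ j ≫ θ l) = e.repr 1 m • 𝟙 F) :
    regMap e φ ≫ regMap e θ = 𝟙 _ := by
  classical
  refine biproduct.hom_ext' _ _ fun a => biproduct.hom_ext _ _ fun c => ?_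
  simp only [regMap, biproduct.ι_matrix_assoc, Category.assoc, biproduct.matrix_π, biproduct.lift_desc,
    Category.comp_id]
  have key : ∀ x : L, e.repr (x * e a) c = ∑ m, e.repr x m * e.repr (e m * e a) c := fun x => by
    conv_lhs => rw [← e.sum_repr x, Finset.sum_mul]
    simp only [smul_mul_assoc, map_sum, map_smul, Finsupp.finsetSum_apply, Finsupp.smul_apply, smul_eq_mul]
  calc ∑ q, (∑ j, e.repr (e j * e a) q • φ j) ≫ (∑ l, e.repr (e l * e q) c • θ l)
      = ∑ q, ∑ j, ∑ l, (e.repr (e j * e a) q * e.repr (e l * e q) c) • (φ j ≫ θ l) := by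
        refine Finset.sum_congr rfl fun q _ => ?_
        rw [Preadditive.sum_comp]
        refine Finset.sum_congr rfl fun j _ => ?_
        rw [Preadditive.comp_sum]
        refine Finset.sum_congr rfl fun l _ => ?_
        rw [Linear.smul_comp, Linear.comp_smul, smul_smul]
    _ = ∑ j, ∑ l, ∑ q, (e.repr (e j * e a) q * e.repr (e l * e q) c) • (φ j ≫ θ l) :=
        Finset.sum_comm.trans (Finset.sum_congr rfl fun j _ => Finset.sum_comm)
    _ = ∑ j, ∑ l, ∑ m, (e.repr (e m * e a) c * e.repr (e j * e l) m) • (φ j ≫ θ l) := by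
        refine Finset.sum_congr rfl fun j _ => Finset.sum_congr rfl fun l _ => ?_
        rw [← Finset.sum_smul, repr_assoc, ← mul_assoc, mul_comm (e l) (e j), key, Finset.sum_smul]
        exact Finset.sum_congr rfl fun m _ => by rw [mul_comm]
    _ = ∑ m, e.repr (e m * e a) c • ∑ j, ∑ l, e.repr (e j * e l) m • (φ j ≫ θ l) := by
        simp only [Finset.smul_sum, smul_smul]
        exact (Finset.sum_congr rfl fun j _ => Finset.sum_comm).trans Finset.sum_comm
    _ = ∑ m, (e.repr 1 m * e.repr (e m * e a) c) • 𝟙 F := by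
        simp only [h, smul_smul, mul_comm]
    _ = e.repr (e a) c • 𝟙 F := by
        rw [← Finset.sum_smul, ← key, one_mul]
    _ = biproduct.ι (fun _ : Fin d => F) a ≫ biproduct.π _ c := by
        rw [e.repr_self, Finsupp.single_apply, biproduct.ι_π]
        by_cases hac : a = c
        · subst hac; simp
        · simp [hac]

include e in
theorem nonempty_npow_iso (φ : Fin d → (F ⟶ G)) (θ : Fin d → (G ⟶ F))
    (h : ∀ m, ∑ j, ∑ l, e.repr (e j * e l) m • (φ j ≫ θ l) = e.repr 1 m • 𝟙 F)
    (h' : ∀ m, ∑ j, ∑ l, e.repr (e j * e l) m • (θ j ≫ φ l) = e.repr 1 m • 𝟙 G) :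
    Nonempty (npow F d ≅ npow G d) := by
  have hF := nonempty_biproduct_lsum (fun _ : Fin d => F)
  have hG := nonempty_biproduct_lsum (fun _ : Fin d => G)
  rw [List.ofFn_const] at hF hG
  exact ⟨hF.some.symm ≪≫ ⟨regMap e φ, regMap e θ, regMap_comp_eq_id e φ θ h, regMap_comp_eq_id e θ φ h'⟩ ≪≫
    hG.some⟩

end Abstract

variable {k : Type u} [Field k] {X : Scheme.{u}} (p : X ⟶ Spec (CommRingCat.of k))
  (K : Type u) [Field K] [Algebra k K] {F G : X.Modules}

/-- The structure of a scheme over `Spec k`. -/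
abbrev overX : X.Over (Spec (CommRingCat.of k)) := ⟨p⟩

attribute [local instance] overBC

/-- A scalar of the ground field, as a constant upstairs. -/
theorem map_smul_base (a : k) (φ : F ⟶ G) :
    letI := overX p
    (Scheme.Modules.pullback (BrSev.proj p K)).map (a • φ) =
      algebraMap k K a • (Scheme.Modules.pullback (BrSev.proj p K)).map φ := by
  letI := overX p
  refine hom_ext_pl p K fun U m => ?_
  rw [pl_map, smul_app_pU, pl_map, KLin.smul_app_apply, pl, BCCoh.pullRes_smul]
  refine congrArg (fun c : Γ(BrSev.bc p K, pU p K U.1) => c • pl p K G U.1 (φ.app U.1 m)) ?_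
  have h : (p.appLE ⊤ U.1 le_top ≫ (BrSev.proj p K).appLE U.1 (pU p K U.1) inf_le_left)
      ((Scheme.ΓSpecIso (CommRingCat.of k)).inv a) =
      (BrSev.bcTo p K).appLE ⊤ (pU p K U.1) inf_le_right
        ((Spec.map (CommRingCat.ofHom (algebraMap k K))).appLE ⊤ ⊤ le_rfl
          ((Scheme.ΓSpecIso (CommRingCat.of k)).inv a)) :=
    (FlatBC.appLE_comm (IsPullback.of_hasPullback p (Spec.map (CommRingCat.ofHom (algebraMap k K))))
      (le_refl (⊤ : (Spec (CommRingCat.of K)).Opens)) (U := U.1) le_top ((Scheme.ΓSpecIso (CommRingCat.of k)).inv a))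
  refine Eq.trans ?_ (h.trans ?_)
  · rfl
  · refine congrArg ((BrSev.bcTo p K).appLE ⊤ (pU p K U.1) inf_le_right) ?_
    rw [show (Spec.map (CommRingCat.ofHom (algebraMap k K))).appLE ⊤ ⊤ le_rfl =
        (Spec.map (CommRingCat.ofHom (algebraMap k K))).appTop from Scheme.Hom.app_eq_appLE _ |>.symm]
    exact (congr($(Scheme.ΓSpecIso_inv_naturality (CommRingCat.ofHom (algebraMap k K))) a)).symm

/-- **Independence over a linearly independent family of constants.** -/
theorem eq_zero_of_linearIndependent [G.IsQuasicoherent] {m : ℕ} {c : Fin m → K}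
    (hc : LinearIndependent k c) (φ : Fin m → (F ⟶ G))
    (h : ∑ j, c j • (Scheme.Modules.pullback (BrSev.proj p K)).map (φ j) = 0) : ∀ j, φ j = 0 := by
  classical
  let b := Module.Basis.sumExtend hc
  let φ' : Fin m ⊕ ↑(Module.Basis.sumExtendIndex hc) → (F ⟶ G) := Sum.elim φ (fun _ => 0)
  have hb : ∀ j, b (Sum.inl j) = c j := fun j => by simp [b, Module.Basis.sumExtend]; rfl
  intro j
  refine eq_zero_of_sum_eq_zero p K b (Finset.univ.image Sum.inl) φ' ?_ (Sum.inl j)
    (Finset.mem_image_of_mem _ (Finset.mem_univ _))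
  rw [Finset.sum_image fun _ _ _ _ h => Sum.inl_injective h]
  simpa [hb, φ'] using h

/-- A morphism which becomes zero is zero. -/
theorem eq_zero_of_map_eq_zero [G.IsQuasicoherent] (φ : F ⟶ G)
    (h : (Scheme.Modules.pullback (BrSev.proj p K)).map φ = 0) : φ = 0 :=
  eq_zero_of_linearIndependent p K (c := fun _ : Fin 1 => (1 : K))
    (LinearIndependent.of_subsingleton (0 : Fin 1) one_ne_zero) (fun _ => φ) (by simp [h]) 0

theorem isZero_of_isZero_bc [F.IsQuasicoherent] (h : IsZero (BrSev.bcMod p K F)) : IsZero F :=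
  (IsZero.iff_id_eq_zero F).2 (eq_zero_of_map_eq_zero p K (𝟙 F)
    (h.eq_of_src ((Scheme.Modules.pullback (BrSev.proj p K)).map (𝟙 F)) 0))

variable [IsProper p]

/-- A morphism upstairs in terms of any finite dimensional space of coefficients containing its coordinates. -/
theorem exists_expansion_finset (hF : Coh.IsCoh F) [G.IsQuasicoherent] (ψ : BrSev.bcMod p K F ⟶ BrSev.bcMod p K G) :
    ∃ S : Finset K, ∀ (L : IntermediateField k K), (S : Set K) ⊆ L → ∀ {d : ℕ} (e : Module.Basis (Fin d) k L),
      ∃ φ : Fin d → (F ⟶ G), ψ = ∑ j, (e j : K) • (Scheme.Modules.pullback (BrSev.proj p K)).map (φ j) := by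
  classical
  letI := overX p
  haveI := hF.1
  haveI : CompactSpace X := QuasiCompact.compactSpace_of_compactSpace p
  let b := Module.Free.chooseBasis k K
  obtain ⟨s, φ, hψ⟩ := exists_expansion p K b ψ hF.2
  refine ⟨s.image b, fun L hL d e => ⟨fun j => ∑ i ∈ s,
    if hi : b i ∈ L then e.repr ⟨b i, hi⟩ j • φ i else 0, ?_⟩⟩
  rw [hψ]
  simp only [Functor.map_sum, Finset.smul_sum]
  rw [Finset.sum_comm (γ := Fin d)]
  refine Finset.sum_congr rfl fun i hi => ?_
  have hi' : b i ∈ L := hL (Finset.mem_image_of_mem b hi)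
  simp only [hi', ↓reduceDIte, map_smul_base, smul_smul, ← Finset.sum_smul]
  refine congrArg (· • _) ?_
  have h := congrArg Subtype.val (e.sum_repr ⟨b i, hi'⟩)
  simp only [AddSubmonoidClass.coe_finsetSum, IntermediateField.coe_smul] at h
  refine h.symm.trans (Finset.sum_congr rfl fun j _ => ?_)
  rw [Algebra.smul_def, mul_comm]

variable [Algebra.IsAlgebraic k K]

/-- **Isomorphisms descend along algebraic extensions of the ground field.** -/
theorem nonempty_iso_of_bc (hF : Coh.IsCoh F) (hG : Coh.IsCoh G) (α : BrSev.bcMod p K F ≅ BrSev.bcMod p K G) :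
    Nonempty (F ≅ G) := by
  classical
  letI := overX p
  haveI : IsProper (X ↘ Spec (CommRingCat.of k)) := ‹IsProper p›
  haveI := finite_hom k hF hF
  haveI := finite_hom k hG hG
  haveI := hF.1
  haveI := hG.1
  obtain ⟨S, hS⟩ := exists_expansion_finset p K hF α.hom
  obtain ⟨T, hT⟩ := exists_expansion_finset p K hG α.inv
  let L := IntermediateField.adjoin k ((S ∪ T : Finset K) : Set K)
  haveI : FiniteDimensional k L :=
    IntermediateField.finiteDimensional_adjoin fun x _ => Algebra.IsIntegral.isIntegral x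
  have hsub := IntermediateField.subset_adjoin k ((S ∪ T : Finset K) : Set K)
  let e := Module.finBasis k L
  obtain ⟨φ, hφ⟩ := hS L (fun x hx => hsub (Finset.mem_union_left T hx)) e
  obtain ⟨θ, hθ⟩ := hT L (fun x hx => hsub (Finset.mem_union_right S hx)) e
  have key : ∀ {A B : X.Modules} (f : Fin (Module.finrank k L) → (A ⟶ B)) (g : Fin (Module.finrank k L) → (B ⟶ A))
      [A.IsQuasicoherent], (∑ j, (e j : K) • (Scheme.Modules.pullback (BrSev.proj p K)).map (f j)) ≫
        (∑ j, (e j : K) • (Scheme.Modules.pullback (BrSev.proj p K)).map (g j)) = 𝟙 _ →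
      ∀ m, ∑ j, ∑ l, e.repr (e j * e l) m • (f j ≫ g l) = e.repr 1 m • 𝟙 A := by
    intro A B f g _ h m
    rw [← sub_eq_zero]
    refine eq_zero_of_linearIndependent p K (c := fun j => (e j : K))
      (e.linearIndependent.map' L.val.toLinearMap (LinearMap.ker_eq_bot.2 Subtype.val_injective))
      (fun m => ∑ j, ∑ l, e.repr (e j * e l) m • (f j ≫ g l) - e.repr 1 m • 𝟙 A) ?_ m
    have hL : ∀ x : L, ∀ {A B : (BrSev.bc p K).Modules} (t : A ⟶ B),
        ∑ m, ((e m : K) * algebraMap k K (e.repr x m)) • t = (x : K) • t := fun x A B t => by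
      rw [← Finset.sum_smul]
      refine congrArg (· • t) ?_
      have hx := congrArg Subtype.val (e.sum_repr x)
      simp only [AddSubmonoidClass.coe_finsetSum, IntermediateField.coe_smul] at hx
      refine Eq.trans (Finset.sum_congr rfl fun j _ => ?_) hx
      rw [Algebra.smul_def, mul_comm]
    simp only [Functor.map_sub, Functor.map_sum, map_smul_base, smul_sub, Finset.smul_sum, smul_smul,
      Finset.sum_sub_distrib, Functor.map_id, Functor.map_comp, hL, OneMemClass.coe_one, one_smul]
    rw [sub_eq_zero]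
    refine Eq.trans ?_ ((Scheme.Modules.pullback (BrSev.proj p K)).map_id A).symm
    rw [← h]
    simp only [Preadditive.sum_comp, Preadditive.comp_sum, Linear.smul_comp, Linear.comp_smul, smul_smul]
    refine Finset.sum_comm.trans ((Finset.sum_congr rfl fun j _ => Finset.sum_comm.trans
      (Finset.sum_congr rfl fun l _ => hL (e j * e l) _)).trans ?_)
    rw [Finset.sum_comm]
    refine Finset.sum_congr rfl fun l _ => ?_
    rw [Finset.smul_sum]
    refine Finset.sum_congr rfl fun j _ => ?_
    rw [smul_smul, MulMemClass.coe_mul, mul_comm]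
  have h1 := key φ θ (by rw [← hφ, ← hθ, α.hom_inv_id])
  have h2 := key θ φ (by rw [← hφ, ← hθ, α.inv_hom_id])
  exact nonempty_iso_of_npow k (Nat.pos_iff_ne_zero.1 Module.finrank_pos) (nonempty_npow_iso e φ θ h1 h2)

end GrothLib.ASBun21
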