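import Groth.Agent.Lib.ASBun21.EndSimple
import Groth.Agent.Lib.ASBun21.IndecInv

/-!
# Bounds on the multiplicity of indecomposable isotypical modules
-/

set_option autoImplicit false
set_option linter.style.haveILetI false
set_option backward.isDefEq.respectTransparency false
set_option maxHeartbeats 1000000

universe u

open CategoryTheory CategoryTheory.Limits AlgebraicGeometry

noncomputable section

namespace GrothLib.ASBun21

variable {X : Scheme.{u}} {k : Type u} [Field k] (p : X ⟶ Spec (CommRingCat.of k)) [IsProper p]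
  (K : Type u) [Field K] [Algebra k K] [Algebra.IsAlgebraic k K]

/-- The indecomposable isotypical module has the least multiplicity among the nonzero modules of its type. -/
theorem le_of_same_type {Y W' : X.Modules} (hY : FlatMod.IsFinLocFree Y)
    (hW' : FlatMod.IsFinLocFree W') (hW'i : Indec W') {B : (BrSev.bc p K).Modules}
    (hB : PicF.IsInvertible B) (hBi : Indec B) {r s : ℕ} (hr : 0 < r)
    (a : BrSev.bcMod p K Y ≅ ∐ fun _ : Fin r => B) (b : BrSev.bcMod p K W' ≅ ∐ fun _ : Fin s => B) :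
    s ≤ r := by
  letI : X.Over (Spec (CommRingCat.of k)) := ⟨p⟩
  haveI : IsProper (X ↘ Spec (CommRingCat.of k)) := ‹IsProper p›
  haveI := Euler.isNoetherian_of_proper (X := X) k
  letI := overBC p K
  haveI : IsProper ((BrSev.bc p K) ↘ Spec (CommRingCat.of K)) :=
    MorphismProperty.pullback_snd p _ ‹IsProper p›
  haveI := Euler.isNoetherian_of_proper (X := BrSev.bc p K) K
  have hBc := Euler.isCoh_of_isFinLocFree (Euler.isFinLocFree_of_isInvertible hB)
  haveI := finite_hom K hBc hBc
  obtain ⟨n⟩ := nonempty_pow_npow B r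
  obtain ⟨m⟩ := nonempty_pow_npow B s
  obtain ⟨l, ⟨el⟩, hl⟩ := exists_isotypical_decomp p K hY hBi hBc (a ≪≫ n)
  match l, el, hl with
  | [], el, _ =>
    exfalso
    have hz := ((Scheme.Modules.pullback (BrSev.proj p K)).map_isZero (IsZero.of_iso isZero_lsum_nil el)).of_iso
      (a ≪≫ n).symm
    have := eq_of_npow_iso K hBi (r := r) (s := 0) ⟨hz.iso isZero_lsum_nil⟩
    omega
  | c :: l, el, hl =>
    obtain ⟨hci, _, hcc, t, _, htr, ⟨et⟩⟩ := hl c List.mem_cons_self
    obtain ⟨f⟩ := nonempty_iso_of_isotypical p K hcc (Euler.isCoh_of_isFinLocFree hW') hci hW'i et (b ≪≫ m)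
    have := eq_of_npow_iso K hBi
      ⟨et.symm ≪≫ (Scheme.Modules.pullback (BrSev.proj p K)).mapIso f ≪≫ b ≪≫ m⟩
    omega

theorem pos_of_not_isZero {W : X.Modules} (hW : FlatMod.IsFinLocFree W) (hW0 : ¬ IsZero W)
    {A : (BrSev.bc p K).Modules} {d : ℕ} (a : BrSev.bcMod p K W ≅ ∐ fun _ : Fin d => A) : 0 < d := by
  letI : X.Over (Spec (CommRingCat.of k)) := ⟨p⟩
  haveI : IsProper (X ↘ Spec (CommRingCat.of k)) := ‹IsProper p›
  haveI := Euler.isNoetherian_of_proper (X := X) k
  haveI := (Euler.isCoh_of_isFinLocFree hW).1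
  obtain ⟨m⟩ := nonempty_pow_npow A d
  exact Nat.pos_of_ne_zero fun h => hW0 (isZero_of_isZero_bc p K (isZero_of_npow_zero h ⟨a ≪≫ m⟩))

end GrothLib.ASBun21
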