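import Groth.Agent.Lib.ProjPic26.Relative
import Mathlib.RingTheory.Spectrum.Prime.Noetherian

/-!
# Invertible modules on projective space over an Artinian ring with given degree on the fibres
-/

set_option autoImplicit false
set_option linter.style.haveILetI false
set_option backward.isDefEq.respectTransparency false
set_option maxHeartbeats 1000000

universe u

open CategoryTheory CategoryTheory.Limits AlgebraicGeometry TopologicalSpace Opposite
open GrothLib.InvExt (IsGen mres)

noncomputable section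

namespace GrothLib.ASBun21

/-- An invertible module on a discrete scheme is trivial. -/
theorem nonempty_iso_unit_of_discrete {S : Scheme.{u}} [DiscreteTopology S] {M : S.Modules}
    (hM : PicF.IsInvertible M) : Nonempty (M ≅ Coh.structureModule S) := by
  choose V₀ e₀ hxV₀ he₀ using fun x : S => InvExt.exists_gen_nhd hM x
  let V : S → S.Opens := fun x => ⟨{x}, isOpen_discrete _⟩
  have hV : ∀ x, V x ≤ V₀ x := fun x y hy => by
    obtain rfl : y = x := hy
    exact hxV₀ y
  have hsub : ∀ x y, x ≠ y → Subsingleton Γ(M, V x ⊓ V y) := fun x y hxy => by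
    have hb : V x ⊓ V y = (⊥ : S.Opens) := by
      ext z
      simp only [Opens.coe_inf, Opens.coe_bot, Set.mem_inter_iff, Set.mem_empty_iff_false, iff_false, not_and]
      rintro (rfl : z = x) (h : z = y)
      exact hxy h
    refine ⟨fun s t => ?_⟩
    have h0 : ∀ s : Γ(M, V x ⊓ V y), s = 0 := fun s => QCoh.section_eq_zero_of_germ M s fun z hz => by
      rw [hb] at hz; exact hz.elim
    rw [h0 s, h0 t]
  obtain ⟨s, hs⟩ := InvExt.exists_gen_of_glue V (fun x => mres M (hV x) (e₀ x))
    (fun x => (he₀ x).restrict _) (fun x y => by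
      by_cases hxy : x = y
      · subst hxy; rfl
      · haveI := hsub x y hxy; exact Subsingleton.elim _ _) ⊤ (fun _ => le_top)
    (fun x _ => Opens.mem_iSup.2 ⟨x, rfl⟩)
  obtain ⟨φ⟩ := InvExt.exists_iso_of_gen hs
  let j : ((⊤ : S.Opens) : Scheme.{u}) ⟶ S := Scheme.Opens.ι ⊤
  have h1 : Cube.pull j (Cube.clsMod hM) = 1 := by
    rw [← Cube.clsMod_pullback, Cube.clsMod_eq_one_iff]
    exact ⟨((Scheme.Modules.restrictFunctorIsoPullback j).app _).symm ≪≫ φ⟩
  have h2 := congrArg (Cube.pull S.topIso.inv) h1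
  rw [map_one, Cube.pull_comp, show S.topIso.inv ≫ j = 𝟙 S from S.topIso.inv_hom_id, Cube.pull_id] at h2
  exact (Cube.clsMod_eq_one_iff hM).1 h2

open GrothLib.ProjPic26

/-- An invertible module of constant degree `d` on the fibres over a discrete base is `O(d)`. -/
theorem nonempty_iso_twistOver {r : ℕ} {S : Scheme.{u}} [DiscreteTopology S]
    (N : (CohB1.ProjSpaceOver r S).Modules) (hN : PicF.IsInvertible N) (d : ℤ)
    (h : ∀ (y : S) (ω : CohB1.ProjSpace r (S.residueField y) ⟶ CohB1.ProjSpaceOver r S),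
      ω ≫ pr r S = chi r (S.residueField y) →
      ω ≫ CohB1.ProjSpaceOver.toBase r S =
        CohB1.ProjSpace.toSpec r (S.residueField y) ≫ S.fromSpecResidueField y →
      Nonempty ((Scheme.Modules.pullback ω).obj N ≅ Twist.twistProjSpace r (S.residueField y) d)) :
    Nonempty (N ≅ Twist.twistOver r S d) := by
  let f := CohB1.ProjSpaceOver.toBase r S
  let L' := CohB1.tensorMod N (Twist.twistOver r S (-d))
  have hL' : PicF.IsInvertible L' := Ample.isInvertible_tensorMod hN (isInvertible_twistOver r S (-d))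
  have hcls : Cube.clsMod hL' = Cube.clsMod hN * Cube.pull (pr r S) (tw r (ULift.{u} ℤ) (-d)) := by
    rw [Cube.clsMod_tensorMod hN (isInvertible_twistOver r S (-d)), clsMod_twistOver]
  have htriv : ∀ y, Nonempty ((Scheme.Modules.pullback (f.fiberι y)).obj L' ≅
      Coh.structureModule (f.fiber y)) := fun y => by
    obtain ⟨ω, α, hω1, hω2, hα⟩ := exists_fiber_iso r S y
    have hd : Cube.pull ω (Cube.clsMod hN) = tw r (S.residueField y) d := by
      rw [← Cube.clsMod_pullback, tw, Cube.clsMod_eq_iff]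
      exact h y ω hω1 hω2
    rw [← Cube.clsMod_eq_one_iff (Ample.isInvertible_pullback _ hL'), Cube.clsMod_pullback _ hL', hcls]
    have h := congrArg (Cube.pull α.inv) (show Cube.pull ω (Cube.clsMod hN *
        Cube.pull (pr r S) (tw r (ULift.{u} ℤ) (-d))) = 1 by
      rw [map_mul, hd, Cube.pull_comp, hω1, pull_chi_tw, ← tw_add, add_neg_cancel, tw_eq_zpow, zpow_zero])
    rw [map_one, Cube.pull_comp, ← hα, ← Category.assoc, Iso.inv_hom_id, Category.id_comp] at h
    exact h
  haveI : L'.IsQuasicoherent := InvExt.isQuasicoherent_of_isInvertible hL'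
  haveI : Coh.IsQCoh L' := ‹L'.IsQuasicoherent›
  have hF : CohB1.IsFP L' := LocFree8.isFP_of_isFinLocFree _ (Euler.isFinLocFree_of_isInvertible hL')
  obtain ⟨M, hM, ⟨φ⟩⟩ := Seesaw26.exists_base_of_good f (Seesaw26.h0_of_geometricallyIntegral f) L' hL' htriv fun y =>
    (BCCrit.goodAll_iff_epi0 hF (Seesaw26.isFlatOver_of_isInvertible f hL') y).1
      (Seesaw26.goodAll_of_h1_zero f L' hL' y (htriv y) (fiberRank_h1_eq_zero y))
  have h1 : Cube.clsMod hL' = 1 := by
    rw [← (Cube.clsMod_eq_iff (Ample.isInvertible_pullback f hM) hL').2 ⟨φ⟩, Cube.clsMod_pullback f hM,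
      (Cube.clsMod_eq_one_iff hM).2 (nonempty_iso_unit_of_discrete hM), map_one]
  refine (Cube.clsMod_eq_iff hN (isInvertible_twistOver r S d)).1 ?_
  rw [clsMod_twistOver]
  rw [hcls, tw_eq_zpow, map_zpow, zpow_neg, mul_inv_eq_one] at h1
  rw [h1, tw_eq_zpow r _ d, map_zpow]

end GrothLib.ASBun21
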