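import Groth.Agent.Lib.FlatBC.Push
import Groth.Agent.Lib.ProjFormula.Iso
import Groth.Agent.Lib.OX.Tensor
import Groth.Agent.Lib.OX.LocFreeTensor
import Groth.Agent.Lib.HomSh.Coherent
import Groth.Agent.Lib.OX.PullbackTensor
import Groth.Agent.Lib.Ref1.Frame
import Groth.Agent.Lib.AlgSp.FieldBase
import Groth.Agent.Lib.Euler.Coh
import Mathlib.AlgebraicGeometry.Morphisms.Finite

/-!
# Direct images along finite extensions of the base field
-/

set_option autoImplicit false
set_option linter.style.haveILetI false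
set_option backward.isDefEq.respectTransparency false
set_option maxHeartbeats 1000000

universe u

open CategoryTheory CategoryTheory.Limits AlgebraicGeometry

noncomputable section

namespace GrothLib.ASBun21

/-- The direct image of a coherent module along a finite morphism is coherent. -/
theorem isCoh_push_finite {Y X : Scheme.{u}} (g : Y ⟶ X) [IsFinite g] {N : Y.Modules} (hN : Coh.IsCoh N) :
    Coh.IsCoh ((Scheme.Modules.pushforward g).obj N) := by
  haveI := hN.1
  haveI hq : ((Scheme.Modules.pushforward g).obj N).IsQuasicoherent := QCoh.isQuasicoherent_pushforward g N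
  refine ⟨hq, (QCoh.isFiniteType_iff_moduleFinite _).2 fun U hU => ?_⟩
  letI : Algebra Γ(X, U) Γ(Y, g ⁻¹ᵁ U) := (g.app U).hom.toAlgebra
  letI : Module Γ(X, U) Γ(N, g ⁻¹ᵁ U) := Module.compHom _ (algebraMap Γ(X, U) Γ(Y, g ⁻¹ᵁ U))
  haveI : IsScalarTower Γ(X, U) Γ(Y, g ⁻¹ᵁ U) Γ(N, g ⁻¹ᵁ U) :=
    IsScalarTower.of_algebraMap_smul fun _ _ => rfl
  haveI : Module.Finite Γ(X, U) Γ(Y, g ⁻¹ᵁ U) := g.finite_app U hU
  haveI := QCoh.moduleFinite_of_isFiniteType N hN.2 (hU.preimage g)
  exact (Module.Finite.trans Γ(Y, g ⁻¹ᵁ U) Γ(N, g ⁻¹ᵁ U) :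
    Module.Finite Γ(X, U) Γ(N, g ⁻¹ᵁ U))

/-- A coherent module on the spectrum of a field is free. -/
theorem exists_iso_free_of_field {k : Type u} [Field k] {M : (Spec (CommRingCat.of k)).Modules}
    (hM : Coh.IsCoh M) : ∃ d : ℕ, Nonempty (M ≅ FlatMod.freeMod (Spec (CommRingCat.of k)) d) := by
  let Z := Spec (CommRingCat.of k)
  haveI : Subsingleton Z := inferInstanceAs (Subsingleton (PrimeSpectrum k))
  haveI : IsLocallyNoetherian Z := inferInstanceAs (IsLocallyNoetherian (Spec _))
  have hlf : FlatMod.IsFinLocFree M := (Ref1.isFinLocFree_iff_free (HomSh.hasRel_of_isCoh hM)).2 fun x => by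
    obtain rfl : x = genericPoint Z := Subsingleton.elim _ _
    letI : Field (Z.presheaf.stalk (genericPoint Z)) := inferInstanceAs (Field Z.functionField)
    exact Module.Free.of_divisionRing _ _
  obtain ⟨U, n, hx, ⟨φ⟩⟩ := hlf (genericPoint Z)
  obtain rfl : U = ⊤ := top_le_iff.1 fun y _ => (Subsingleton.elim (genericPoint Z) y) ▸ hx
  let j : ((⊤ : Z.Opens) : Scheme.{u}) ⟶ Z := Scheme.Opens.ι ⊤
  let P := Scheme.Modules.pullback Z.topIso.inv
  let back : ∀ A : Z.Modules, P.obj ((Scheme.Modules.pullback j).obj A) ≅ A := fun A =>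
    (Scheme.Modules.pullbackComp Z.topIso.inv j).app A ≪≫
      (Scheme.Modules.pullbackCongr Z.topIso.inv_hom_id).app A ≪≫ (Scheme.Modules.pullbackId Z).app A
  exact ⟨n, ⟨(back M).symm ≪≫ P.mapIso (((Scheme.Modules.restrictFunctorIsoPullback j).app M).symm ≪≫ φ) ≪≫
    OX.pullFreeModIso Z.topIso.inv n⟩⟩

variable {Y X : Scheme.{u}}

/-- The structure sheaf pushed forward along a finite base change of fields is free. -/
theorem exists_push_structure_free {k : Type u} [Field k] {S : Type u} [CommRing S] [Algebra k S]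
    [Module.Finite k S] (p : X ⟶ Spec (CommRingCat.of k)) [QuasiCompact p] [QuasiSeparated p] (g : Y ⟶ X)
    (q : Y ⟶ Spec (CommRingCat.of S)) (h : IsPullback g q p (Spec.map (CommRingCat.ofHom (algebraMap k S)))) :
    ∃ d : ℕ, Nonempty ((Scheme.Modules.pushforward g).obj (Coh.structureModule Y) ≅ FlatMod.freeMod X d) := by
  haveI : IsFinite (Spec.map (CommRingCat.ofHom (algebraMap k S))) :=
    (IsFinite.SpecMap_iff _).2 (RingHom.finite_algebraMap.2 inferInstance)
  haveI : IsNoetherianRing S := isNoetherian_of_tower k inferInstance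
  haveI : IsLocallyNoetherian (Spec (CommRingCat.of S)) := inferInstance
  haveI : Flat p := AlgSp.flat_to_field p
  let O := Coh.structureModule (Spec (CommRingCat.of S))
  have hO : Coh.IsCoh O := HomSh.isCoh_structureModule _
  haveI := hO.1
  obtain ⟨d, ⟨φ⟩⟩ := exists_iso_free_of_field (isCoh_push_finite (Spec.map (CommRingCat.ofHom (algebraMap k S))) hO)
  haveI := FlatBC.isIso_bcMap h.flip O
  exact ⟨d, ⟨(Scheme.Modules.pushforward g).mapIso (OX.pullUnitIso q).symm ≪≫
    (asIso (AffBC.bcMap h.flip O)).symm ≪≫ (Scheme.Modules.pullback p).mapIso φ ≪≫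
    OX.pullFreeModIso p d⟩⟩

/-- The direct image of a pullback, when the direct image of the structure sheaf is free. -/
theorem nonempty_push_pull_iso (g : Y ⟶ X) {F : X.Modules} (hF : FlatMod.IsFinLocFree F) {d : ℕ}
    (φ : (Scheme.Modules.pushforward g).obj (Coh.structureModule Y) ≅ FlatMod.freeMod X d) :
    Nonempty ((Scheme.Modules.pushforward g).obj ((Scheme.Modules.pullback g).obj F) ≅ ∐ fun _ : Fin d => F) := by
  haveI := ProjFormula.isIso_projHom g hF (Coh.structureModule Y)
  let T := DCoh.tensorBi (X := X)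
  haveI : PreservesColimitsOfSize.{0, 0} (T.obj F) := preservesColimitsOfSize_shrink.{0, u, 0, u} _
  let ru : ∀ {Z : Scheme.{u}} (A : Z.Modules),
      ((DCoh.tensorBi (X := Z)).obj A).obj (Coh.structureModule Z) ≅ A := fun {Z} A =>
    (((OX.tensorBraiding (X := Z)).app A).app (Coh.structureModule Z)).symm ≪≫ OX.tensorUnitLeftIso A
  exact ⟨(Scheme.Modules.pushforward g).mapIso (ru _).symm ≪≫
    (asIso (ProjFormula.projHom g F (Coh.structureModule Y))).symm ≪≫ (T.obj F).mapIso φ ≪≫
    PreservesCoproduct.iso (T.obj F) (fun _ : Fin d => Coh.structureModule X) ≪≫ Sigma.mapIso fun _ => ru F⟩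

end GrothLib.ASBun21
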