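import Groth.Agent.Lib.ASBun21.Summands
import Groth.Agent.Lib.Euler.InvHom
import Groth.Agent.Lib.Euler.Slope2
import Mathlib.FieldTheory.Minpoly.Basic
import Mathlib.RingTheory.SimpleRing.Basic
import Mathlib.RingTheory.TwoSidedIdeal.Operations
import Mathlib.FieldTheory.IsAlgClosed.Basic
import Mathlib.AlgebraicGeometry.Geometrically.Integral

/-!
# Endomorphisms of absolutely rank-one-isotypical modules
-/

set_option autoImplicit false
set_option linter.style.haveILetI false
set_option backward.isDefEq.respectTransparency false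
set_option maxHeartbeats 1000000

universe u v w

open CategoryTheory CategoryTheory.Limits AlgebraicGeometry

noncomputable section

namespace GrothLib.ASBun21

attribute [local instance] Abelian.hasFiniteBiproducts

/-- An endomorphism of an invertible module on a proper integral scheme over an algebraically closed field is a
constant. -/
theorem exists_eq_smul {K : Type u} [Field K] [IsAlgClosed K] {Z : Scheme.{u}} [Z.Over (Spec (CommRingCat.of K))]
    [IsProper (Z ↘ Spec (CommRingCat.of K))] [IsIntegral Z] {L : Z.Modules} (hL : PicF.IsInvertible L) (φ : L ⟶ L) :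
    ∃ c : K, φ = c • 𝟙 L := by
  haveI := Euler.isNoetherian_of_proper (X := Z) K
  have hLc := Euler.isCoh_of_isFinLocFree (Euler.isFinLocFree_of_isInvertible hL)
  haveI : Module.Finite K (End L) := finite_hom K hLc hLc
  haveI : NoZeroDivisors (End L) := ⟨fun {a b} hab => or_iff_not_imp_left.2 fun ha => by
    haveI := Euler.mono_of_ne_zero hL hL ha
    exact (cancel_mono (a : L ⟶ L)).1 ((show (b : L ⟶ L) ≫ a = 0 from hab).trans zero_comp.symm)⟩
  rcases eq_or_ne φ 0 with rfl | hne
  · exact ⟨0, (zero_smul K (𝟙 L)).symm⟩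
  let φ' : End L := φ
  haveI : Nontrivial (End L) := ⟨⟨φ', 0, hne⟩⟩
  haveI : IsDomain (End L) := NoZeroDivisors.to_isDomain _
  have hint : _root_.IsIntegral K φ' := IsIntegral.of_finite K _
  obtain ⟨a, ha⟩ := minpoly.mem_range_of_degree_eq_one K φ'
    (IsAlgClosed.degree_eq_one_of_irreducible K (minpoly.irreducible hint))
  exact ⟨a, ha.symm.trans (Algebra.algebraMap_eq_smul_one a)⟩

/-- An object with only constant endomorphisms is indecomposable. -/
theorem indec_of_scalar {C : Type w} [Category.{v} C] [Abelian C] {K : Type u} [Field K] [Linear K C] {L : C}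
    (hL : ¬ IsZero L) (h : ∀ φ : L ⟶ L, ∃ c : K, φ = c • 𝟙 L) : Indec L := by
  refine ⟨hL, fun A B ⟨e⟩ => ?_⟩
  obtain ⟨c, hc⟩ := h (e.hom ≫ biprod.fst ≫ biprod.inl ≫ e.inv)
  rcases eq_or_ne c 0 with rfl | hc0
  · refine Or.inl ((IsZero.iff_id_eq_zero A).2 ?_)
    rw [zero_smul] at hc
    have := congrArg (fun t => biprod.inl ≫ e.inv ≫ t ≫ e.hom ≫ biprod.fst) hc
    simpa using this
  · refine Or.inr ((IsZero.iff_id_eq_zero B).2 ?_)
    have := congrArg (fun t => biprod.inr ≫ e.inv ≫ t ≫ e.hom ≫ biprod.snd) hc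
    have h2 : c • 𝟙 B = 0 := by simpa using this.symm
    exact (smul_eq_zero.1 h2).resolve_left hc0

variable {k : Type u} [Field k] {X : Scheme.{u}} (p : X ⟶ Spec (CommRingCat.of k)) [IsProper p]
  (K : Type u) [Field K] [Algebra k K]

theorem isIntegral_bc [GeometricallyIntegral p] : IsIntegral (BrSev.bc p K) :=
  GeometricallyIntegral.geometrically_isIntegral (f := p) (Spec.map (CommRingCat.ofHom (algebraMap k K)))
    (BrSev.proj p K) (BrSev.bcTo p K) (IsPullback.of_hasPullback _ _)

theorem not_isZero_of_isInvertible {Z : Scheme.{u}} [Nonempty Z] [IsIntegral Z] {L : Z.Modules} (hL : PicF.IsInvertible L) :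
    ¬ IsZero L := by
  intro hz
  obtain ⟨x⟩ := ‹Nonempty Z›
  obtain ⟨D, e, hxD, he⟩ := FinCov.exists_frame_nhd_of_rank (Euler.isFinLocFreeOfRank_one_of_invertible hL) x
  obtain ⟨b⟩ := Euler.stalk_basis_of_frame he hxD
  haveI : Subsingleton (L.presheaf.stalk x) := ⟨fun a c => by
    have h := fun t => LinearMap.congr_fun (congrArg (fun g : L ⟶ L => QCoh.stalkLin g x) (hz.eq_of_src (𝟙 L) 0)) t
    have h0 : ∀ t, t = QCoh.stalkLin (0 : L ⟶ L) x t := fun t => (QCoh.stalkLin_id L x t).symm.trans (h t)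
    rw [h0 a, h0 c, QCoh.stalkLin, CategoryTheory.Functor.map_zero]
    rfl⟩
  exact b.ne_zero ⟨0, Nat.one_pos⟩ (Subsingleton.elim _ _)

/-- The span of a two-sided ideal upstairs. -/
def upSpan {E : X.Modules} (I : TwoSidedIdeal (End E)) :
    letI := overBC p K
    Submodule K (BrSev.bcMod p K E ⟶ BrSev.bcMod p K E) :=
  letI := overBC p K
  Submodule.span K {t | ∃ y : E ⟶ E, (show End E from y) ∈ I ∧ (Scheme.Modules.pullback (BrSev.proj p K)).map y = t}

theorem comp_mem_upSpan {E : X.Modules} (hE : Coh.IsCoh E) (I : TwoSidedIdeal (End E))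
    (A B ψ : BrSev.bcMod p K E ⟶ BrSev.bcMod p K E) (hψ : ψ ∈ upSpan p K I) : A ≫ ψ ≫ B ∈ upSpan p K I := by
  letI := overBC p K
  haveI := hE.1
  haveI : CompactSpace X := QuasiCompact.compactSpace_of_compactSpace p
  let b := Module.Free.chooseBasis k K
  obtain ⟨s, φ, rfl⟩ := exists_expansion p K b A hE.2
  obtain ⟨t, θ, rfl⟩ := exists_expansion p K b B hE.2
  induction hψ using Submodule.span_induction with
  | mem ψ hψ =>
    obtain ⟨y, hy, rfl⟩ := hψ
    rw [Preadditive.sum_comp]
    refine Submodule.sum_mem _ fun i _ => ?_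
    rw [Linear.smul_comp, Preadditive.comp_sum, Preadditive.comp_sum]
    refine Submodule.smul_mem _ _ (Submodule.sum_mem _ fun j _ => ?_)
    rw [Linear.comp_smul, Linear.comp_smul, ← Functor.map_comp, ← Functor.map_comp]
    refine Submodule.smul_mem _ _ (Submodule.subset_span ⟨_, ?_, rfl⟩)
    rw [← Category.assoc]
    exact I.mul_mem_left (θ j) _ (I.mul_mem_right y (φ i) hy)
  | zero => rw [zero_comp, comp_zero]; exact zero_mem _
  | add a c _ _ ha hc => rw [Preadditive.add_comp, Preadditive.comp_add]; exact add_mem ha hc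
  | smul a c _ hc => rw [Linear.smul_comp, Linear.comp_smul]; exact Submodule.smul_mem _ _ hc

/-- The endomorphism ring of an absolutely rank-one-isotypical module is simple. -/
theorem isSimpleRing_end [GeometricallyIntegral p] [IsAlgClosure k K] {E : X.Modules}
    (hE : FlatMod.IsFinLocFree E) (hE0 : ¬ IsZero E) {L : (BrSev.bc p K).Modules} (hL : PicF.IsInvertible L) {r : ℕ}
    (e : BrSev.bcMod p K E ≅ ⨁ fun _ : Fin r => L) :
    IsSimpleRing (End E) := by
  classical
  letI : X.Over (Spec (CommRingCat.of k)) := ⟨p⟩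
  haveI : IsProper (X ↘ Spec (CommRingCat.of k)) := ‹IsProper p›
  haveI := Euler.isNoetherian_of_proper (X := X) k
  letI := overBC p K
  haveI : IsProper ((BrSev.bc p K) ↘ Spec (CommRingCat.of K)) := MorphismProperty.pullback_snd p _ ‹IsProper p›
  haveI := isIntegral_bc p K
  haveI : IsAlgClosed K := IsAlgClosure.isAlgClosed k
  have hEc := Euler.isCoh_of_isFinLocFree hE
  haveI := hEc.1
  haveI : Nontrivial (End E) := ⟨⟨𝟙 E, 0, fun h => hE0 ((IsZero.iff_id_eq_zero E).2 h)⟩⟩
  refine IsSimpleRing.of_eq_bot_or_eq_top fun I => or_iff_not_imp_left.2 fun hI => ?_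
  obtain ⟨x, hxI, hx⟩ : ∃ x ∈ I, x ≠ (0 : End E) := by
    by_contra h
    push Not at h
    exact hI (le_bot_iff.1 fun y hy => (TwoSidedIdeal.mem_bot _).2 (h y hy))
  rw [← TwoSidedIdeal.one_mem_iff]
  let b := Module.Free.chooseBasis k K
  haveI : CompactSpace X := QuasiCompact.compactSpace_of_compactSpace p
  have hone : 𝟙 (BrSev.bcMod p K E) ∈ upSpan p K I := by
    let y := e.inv ≫ (Scheme.Modules.pullback (BrSev.proj p K)).map x ≫ e.hom
    obtain ⟨a, c, hac⟩ : ∃ a c, biproduct.ι (fun _ : Fin r => L) a ≫ y ≫ biproduct.π _ c ≠ 0 := by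
      by_contra h
      push Not at h
      refine hx (eq_zero_of_map_eq_zero p K x ?_)
      have hy : y = 0 := biproduct.hom_ext' _ _ fun a => biproduct.hom_ext _ _ fun c => by
        rw [comp_zero, zero_comp, Category.assoc]; exact h a c
      have := congrArg (fun t => e.hom ≫ t ≫ e.inv) hy
      simpa [y] using this
    obtain ⟨z, hz⟩ := exists_eq_smul (K := K) hL (biproduct.ι (fun _ : Fin r => L) a ≫ y ≫ biproduct.π _ c)
    have hz0 : z ≠ 0 := fun h => hac (by rw [hz, h, zero_smul])
    have key : 𝟙 (BrSev.bcMod p K E) = ∑ i : Fin r,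
        (z⁻¹ • (e.hom ≫ biproduct.π (fun _ : Fin r => L) i ≫ biproduct.ι (fun _ : Fin r => L) a ≫ e.inv)) ≫
          (Scheme.Modules.pullback (BrSev.proj p K)).map x ≫ (e.hom ≫ biproduct.π (fun _ : Fin r => L) c ≫ biproduct.ι (fun _ : Fin r => L) i ≫ e.inv) := by
      have : ∀ i : Fin r, (e.hom ≫ biproduct.π (fun _ : Fin r => L) i ≫ biproduct.ι (fun _ : Fin r => L) a ≫ e.inv) ≫
          (Scheme.Modules.pullback (BrSev.proj p K)).map x ≫ (e.hom ≫ biproduct.π (fun _ : Fin r => L) c ≫ biproduct.ι (fun _ : Fin r => L) i ≫ e.inv) =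
            z • (e.hom ≫ (biproduct.π (fun _ : Fin r => L) i ≫ biproduct.ι (fun _ : Fin r => L) i) ≫ e.inv) := by
        intro i
        have h1 := congrArg (fun t => e.hom ≫ biproduct.π (fun _ : Fin r => L) i ≫ t ≫
          biproduct.ι (fun _ : Fin r => L) i ≫ e.inv) hz
        simpa [y, Category.assoc] using h1
      simp only [Linear.smul_comp, this, smul_smul, inv_mul_cancel₀ hz0, one_smul, ← Preadditive.comp_sum,
        ← Preadditive.sum_comp, biproduct.total, Category.id_comp, Iso.hom_inv_id]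
    rw [key]
    exact Submodule.sum_mem _ fun i _ => comp_mem_upSpan p K hEc I _ _ _ (Submodule.subset_span ⟨x, hxI, rfl⟩)
  obtain ⟨n, c, g, hg⟩ := Submodule.mem_span_set'.1 hone
  choose y hy hyg using fun j => (g j).2
  let s := (Finset.univ.biUnion fun j => (b.repr (c j)).support) ∪ (b.repr 1).support
  let zc : _ → (E ⟶ E) := fun i => (∑ j, b.repr (c j) i • y j) - b.repr 1 i • 𝟙 E
  have hexp : ∀ (d : K) {A B : (BrSev.bc p K).Modules} (t : A ⟶ B), (b.repr d).support ⊆ s →
      ∑ i ∈ s, (b i * algebraMap k K (b.repr d i)) • t = d • t := fun d A B t hd => by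
    rw [← Finset.sum_smul]
    refine congrArg (· • t) ?_
    conv_rhs => rw [← b.linearCombination_repr d]
    rw [Finsupp.linearCombination_apply, Finsupp.sum_of_support_subset _ hd _ fun i _ => zero_smul k (b i)]
    exact Finset.sum_congr rfl fun i _ => by rw [Algebra.smul_def, mul_comm]
  have hsum : ∑ i ∈ s, (b i) • (Scheme.Modules.pullback (BrSev.proj p K)).map (zc i : E ⟶ E) = 0 := by
    simp only [zc]
    have e1 : ∀ i, (Scheme.Modules.pullback (BrSev.proj p K)).map ((∑ j, b.repr (c j) i • y j) - b.repr 1 i • 𝟙 E) =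
        (∑ j, algebraMap k K (b.repr (c j) i) • (Scheme.Modules.pullback (BrSev.proj p K)).map (y j)) -
          algebraMap k K (b.repr 1 i) • (Scheme.Modules.pullback (BrSev.proj p K)).map (𝟙 E) := fun i => by
      rw [Functor.map_sub, Functor.map_sum]
      simp only [map_smul_base]
    simp only [e1, smul_sub, Finset.smul_sum, smul_smul, Finset.sum_sub_distrib]
    rw [Finset.sum_comm, hexp 1 _ Finset.subset_union_right, one_smul, sub_eq_zero]
    refine Eq.trans (Finset.sum_congr rfl fun j _ => hexp (c j) _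
      ((Finset.subset_biUnion_of_mem (fun j => (b.repr (c j)).support) (Finset.mem_univ j)).trans
        Finset.subset_union_left)) ?_
    rw [CategoryTheory.Functor.map_id, ← hg]
    exact Finset.sum_congr rfl fun j _ => by rw [← hyg]
  have hz := eq_zero_of_sum_eq_zero p K b s zc hsum
  obtain ⟨i, hi⟩ : ∃ i, b.repr 1 i ≠ 0 := by
    by_contra h
    push Not at h
    exact one_ne_zero (b.repr.map_eq_zero_iff.1 (Finsupp.ext h))
  have h1 : ∑ j, b.repr (c j) i • y j = b.repr 1 i • 𝟙 E :=
    sub_eq_zero.1 (hz i (Finset.mem_union_right _ (Finsupp.mem_support_iff.2 hi)))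
  have hsm : ∀ (t : k) (f : End E), f ∈ I → t • f ∈ I := fun t f hf => by
    rw [← one_mul f, ← smul_mul_assoc]
    exact I.mul_mem_left _ _ hf
  have h2 : (show End E from ∑ j, b.repr (c j) i • y j) ∈ I :=
    TwoSidedIdeal.finsetSum_mem I _ _ fun j _ => hsm _ _ (hy j)
  rw [h1] at h2
  have h3 := hsm (b.repr 1 i)⁻¹ _ h2
  change (show End E from (b.repr 1 i)⁻¹ • b.repr 1 i • 𝟙 E) ∈ I at h3
  rwa [smul_smul, inv_mul_cancel₀ hi, one_smul] at h3

end GrothLib.ASBun21
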