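import Groth.Agent.Lib.ProjPic26.Main
import Groth.Agent.Lib.CMReg.StructureRegular
import Groth.Agent.Lib.Euler.InvHom
import Groth.Agent.Lib.OX.TensorAssoc
import Groth.Agent.Lib.OX.TensorInjective
import Groth.Agent.Lib.Chow.Prod
import Groth.Agent.Lib.OX.PullbackTensor
import Groth.Agent.Lib.ASBun21.EndSimple
import Groth.Prelude.Def_PicLoc

/-!
# Automorphisms of projective space preserve the twisting sheaves
-/

set_option autoImplicit false
set_option linter.style.haveILetI false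
set_option backward.isDefEq.respectTransparency false
set_option maxHeartbeats 1000000

universe u

open CategoryTheory CategoryTheory.Limits AlgebraicGeometry MvPolynomial

noncomputable section

namespace GrothLib.ASBun21

section Tensor

variable {X : Scheme.{u}}

/-- Tensoring with an inverse is inverse to tensoring. -/
def tensorInvIso {A B : X.Modules} (φ : ((DCoh.tensorBi (X := X)).obj A).obj B ≅ Coh.structureModule X) :
    (DCoh.tensorBi (X := X)).obj B ⋙ (DCoh.tensorBi (X := X)).obj A ≅ 𝟭 X.Modules :=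
  (NatIso.ofComponents (fun P => OX.tensorAssoc A B P) fun h => OX.tensorAssoc_natural₃ A B h).symm ≪≫
    (DCoh.tensorBi (X := X)).mapIso φ ≪≫ OX.tensorUnitNatIso

theorem eq_zero_of_pullback_iso {Z : Scheme.{u}} (φ : Z ≅ X) {P Q : X.Modules} (a : P ⟶ Q)
    (h : (Scheme.Modules.pullback φ.hom).map a = 0) : a = 0 := by
  let i : Scheme.Modules.pullback φ.hom ⋙ Scheme.Modules.pullback φ.inv ≅ 𝟭 X.Modules :=
    Scheme.Modules.pullbackComp φ.inv φ.hom ≪≫ Scheme.Modules.pullbackCongr φ.inv_hom_id ≪≫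
      Scheme.Modules.pullbackId _
  have := i.hom.naturality a
  rw [Functor.comp_map, h, Functor.map_zero, zero_comp] at this
  exact (cancel_epi (i.hom.app P)).1 (this.symm.trans comp_zero.symm)

theorem map_ne_zero_of_inverse {A B : X.Modules}
    (φ : ((DCoh.tensorBi (X := X)).obj A).obj B ≅ Coh.structureModule X) {P Q : X.Modules} (a : P ⟶ Q)
    (ha : a ≠ 0) : ((DCoh.tensorBi (X := X)).obj B).map a ≠ 0 := fun h => ha <| by
  have := (tensorInvIso φ).hom.naturality a
  rw [Functor.comp_map, h, Functor.map_zero, zero_comp] at this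
  exact (cancel_epi ((tensorInvIso φ).hom.app P)).1 (this.symm.trans comp_zero.symm)

end Tensor

variable {K : Type u} [Field K] {n : ℕ}

variable (K n) in
/-- `O(d)` on projective space. -/
abbrev tw (d : ℤ) : (CohB1.ProjSpace n K).Modules := Twist.twistProjSpace n K d

theorem tw_h1 (p : Proj (CohB1.polyGrading n K)) :
    ∃ f : MvPolynomial (Fin (n + 1)) K, f ∈ CohB1.polyGrading n K 1 ∧ f ∉ p.asHomogeneousIdeal := by
  obtain ⟨i, hi⟩ := (Ample.ProjMap.pcoc n K).exists_mem p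
  exact ⟨X i.down, Ample.ProjMap.X_mem i.down, hi⟩

theorem isInvertible_tw (d : ℤ) : PicF.IsInvertible (tw K n d) := GrTilde.isInvertible_twist tw_h1 d

theorem nonempty_tw_zero : Nonempty (Coh.structureModule (CohB1.ProjSpace n K) ≅ tw K n 0) :=
  GrTilde.nonempty_structureModule_iso_twist_zero (CohB1.polyGrading n K)

theorem nonempty_tw_add (a b : ℤ) :
    Nonempty (((DCoh.tensorBi (X := CohB1.ProjSpace n K)).obj (tw K n a)).obj (tw K n b) ≅ tw K n (a + b)) :=
  GrTilde.nonempty_twist_tensor_twist tw_h1 a b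

theorem exists_iso_tw {M : (CohB1.ProjSpace n K).Modules} (hM : PicF.IsInvertible M) :
    ∃ d, Nonempty (M ≅ tw K n d) :=
  ProjPic26.exists_iso_twist hM

theorem nonempty_tw_iso_of_dim_zero (a b : ℤ) : Nonempty (tw K 0 a ≅ tw K 0 b) := by
  obtain ⟨e, he, hr⟩ := ProjPic26.hasDeg_twist (R := K) (n := 0) a
  refine ⟨(ProjPic26.nonempty_iso_twist_of_hasDeg (d := b) ⟨e, he, fun i j => ?_⟩).some⟩
  obtain rfl : i = j := Fin.ext (by omega)
  obtain ⟨r, h1, h2⟩ := hr i i
  exact ⟨r, h1, by rw [h2, ProjPic26.δ_self, smul_zero, smul_zero]⟩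

variable {φ : CohB1.ProjSpace n K ≅ CohB1.ProjSpace n K}

theorem exists_pullback_degree (φ : CohB1.ProjSpace n K ≅ CohB1.ProjSpace n K) (hn : 1 ≤ n) :
    ∃ d : ℤ, ∀ j : ℤ, Nonempty ((Scheme.Modules.pullback φ.hom).obj (tw K n j) ≅ tw K n (j * d)) := by
  choose g hg using fun j : ℤ => exists_iso_tw (PicLoc.isInvertible_pullback φ.hom (isInvertible_tw (K := K) (n := n) j))
  have hadd : ∀ a b, g (a + b) = g a + g b := fun a b => by
    obtain ⟨s⟩ := nonempty_tw_add (K := K) (n := n) a b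
    obtain ⟨t⟩ := nonempty_tw_add (K := K) (n := n) (g a) (g b)
    let T := DCoh.tensorBi (X := CohB1.ProjSpace n K)
    exact ProjPic26.eq_of_twist_iso hn ((hg (a + b)).some.symm ≪≫
      (Scheme.Modules.pullback φ.hom).mapIso s.symm ≪≫ OX.pullTensorIso φ.hom _ _ ≪≫
      (T.mapIso (hg a).some).app _ ≪≫ (T.obj _).mapIso (hg b).some ≪≫ t)
  refine ⟨g 1, fun j => ?_⟩
  have : g j = j * g 1 := by
    simpa using map_zsmul (AddMonoidHom.mk' g hadd) j 1
  exact this ▸ hg j

/-- An automorphism of projective space fixes the twisting sheaves. -/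
theorem nonempty_pullback_tw_iso (φ : CohB1.ProjSpace n K ≅ CohB1.ProjSpace n K) [IsAlgClosed K] (j : ℤ) :
    Nonempty ((Scheme.Modules.pullback φ.hom).obj (tw K n j) ≅ tw K n j) := by
  rcases n with _ | m
  · obtain ⟨d, ⟨i⟩⟩ := exists_iso_tw (PicLoc.isInvertible_pullback φ.hom (isInvertible_tw (K := K) (n := 0) j))
    exact ⟨i ≪≫ (nonempty_tw_iso_of_dim_zero d j).some⟩
  have hn : 1 ≤ m + 1 := Nat.le_add_left 1 m
  obtain ⟨d, hd⟩ := exists_pullback_degree φ hn
  obtain ⟨d', hd'⟩ := exists_pullback_degree φ.symm hn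
  have hdd : d * d' = 1 := ProjPic26.eq_of_twist_iso hn ((hd' d).some.symm ≪≫
    (Scheme.Modules.pullback φ.symm.hom).mapIso (eqToIso (by rw [one_mul]) ≪≫ (hd 1).some.symm) ≪≫
    (Scheme.Modules.pullbackComp φ.inv φ.hom).app _ ≪≫
    (Scheme.Modules.pullbackCongr φ.inv_hom_id).app _ ≪≫ (Scheme.Modules.pullbackId _).app _)
  rcases Int.eq_one_or_neg_one_of_mul_eq_one hdd with rfl | rfl
  · simpa using hd j
  exfalso
  letI : (CohB1.ProjSpace (m + 1) K).Over (Spec (CommRingCat.of K)) := ⟨CohB1.ProjSpace.toSpec (m + 1) K⟩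
  haveI : IsIntegral (CohB1.ProjSpace (m + 1) K) := ProjDim.isIntegral_proj K (m + 1)
  haveI : IsProper (CohB1.ProjSpace (m + 1) K ↘ Spec (CommRingCat.of K)) := Chow.isProper_toSpec (m + 1) K
  obtain ⟨h, -, ι, w, hS, -, -⟩ := CMReg.exists_hyperplane m K
  haveI : Mono ι := hS.mono_f
  have hι : ι ≠ 0 := fun h0 => by
    haveI : Mono (0 : tw K (m + 1) (-1) ⟶ Coh.structureModule (CohB1.ProjSpace (m + 1) K)) := h0 ▸ ‹Mono ι›
    exact not_isZero_of_isInvertible (isInvertible_tw (-1)) (IsZero.of_mono_zero (tw K (m + 1) (-1)) (Coh.structureModule _))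
  obtain ⟨z⟩ := nonempty_tw_zero (K := K) (n := m + 1)
  let a : tw K (m + 1) 1 ⟶ Coh.structureModule (CohB1.ProjSpace (m + 1) K) :=
    (eqToHom (by norm_num)) ≫ (hd (-1)).some.inv ≫ (Scheme.Modules.pullback φ.hom).map ι ≫ (OX.pullUnitIso φ.hom).hom
  have ha : a ≠ 0 := fun h0 => hι (eq_zero_of_pullback_iso φ ι (by
    rw [← cancel_mono (OX.pullUnitIso φ.hom).hom, ← cancel_epi ((hd (-1)).some.inv),
      ← cancel_epi (eqToHom (show tw K (m + 1) 1 = tw K (m + 1) (-1 * -1) by norm_num)), zero_comp, comp_zero,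
      comp_zero]
    exact h0))
  obtain ⟨s⟩ := nonempty_tw_add (K := K) (n := m + 1) 1 (-1)
  let θ := s ≪≫ eqToIso (by norm_num) ≪≫ z.symm
  obtain ⟨t⟩ := nonempty_tw_add (K := K) (n := m + 1) (-1) 1
  let T := DCoh.tensorBi (X := CohB1.ProjSpace (m + 1) K)
  have hm := map_ne_zero_of_inverse θ a ha
  let b : Coh.structureModule (CohB1.ProjSpace (m + 1) K) ⟶ tw K (m + 1) (-1) :=
    (t ≪≫ eqToIso (by norm_num) ≪≫ z.symm).inv ≫ (T.obj (tw K (m + 1) (-1))).map a ≫
      ((T.obj (tw K (m + 1) (-1))).mapIso z ≪≫ (nonempty_tw_add (K := K) (n := m + 1) (-1) 0).some ≪≫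
        eqToIso (by norm_num)).hom
  have hb : b ≠ 0 := fun h0 => hm (by
    rwa [← cancel_epi ((t ≪≫ eqToIso (by norm_num) ≪≫ z.symm).inv),
      ← cancel_mono (((T.obj (tw K (m + 1) (-1))).mapIso z ≪≫ (nonempty_tw_add (K := K) (n := m + 1) (-1) 0).some ≪≫
        eqToIso (by norm_num : tw K (m + 1) (-1 + 0) = tw K (m + 1) (-1))).hom), comp_zero, zero_comp, Category.assoc])
  have hO : PicF.IsInvertible (Coh.structureModule (CohB1.ProjSpace (m + 1) K)) :=
    PicLoc.isInvertible_structureModule _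
  haveI := Euler.mono_of_ne_zero hO (isInvertible_tw (-1)) hb
  obtain ⟨c, hc⟩ := exists_eq_smul (K := K) hO (b ≫ ι)
  have hc0 : c ≠ 0 := fun h0 => by
    rw [h0, zero_smul] at hc
    exact hb ((cancel_mono ι).1 (hc.trans zero_comp.symm))
  haveI : IsSplitEpi ι := IsSplitEpi.mk' ⟨c⁻¹ • b, by rw [Linear.smul_comp, hc, smul_smul, inv_mul_cancel₀ hc0, one_smul]⟩
  haveI := isIso_of_mono_of_epi ι
  exact absurd (ProjPic26.eq_of_twist_iso hn (asIso ι ≪≫ z)) (by norm_num)

variable {Z : Scheme.{u}}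

theorem exists_iso_pullback_tw (ε : Z ≅ CohB1.ProjSpace n K) {L : Z.Modules} (hL : PicF.IsInvertible L) :
    ∃ d, Nonempty (L ≅ (Scheme.Modules.pullback ε.hom).obj (tw K n d)) := by
  obtain ⟨d, ⟨i⟩⟩ := exists_iso_tw (PicLoc.isInvertible_pullback ε.inv hL)
  exact ⟨d, ⟨((Scheme.Modules.pullbackId _).app _).symm ≪≫ ((Scheme.Modules.pullbackCongr ε.hom_inv_id).app _).symm ≪≫
    ((Scheme.Modules.pullbackComp ε.hom ε.inv).app _).symm ≪≫ (Scheme.Modules.pullback ε.hom).mapIso i⟩⟩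

/-- The twisting sheaves do not depend on the identification. -/
theorem nonempty_pullback_tw_congr [IsAlgClosed K] (ε ε' : Z ≅ CohB1.ProjSpace n K) (j : ℤ) :
    Nonempty ((Scheme.Modules.pullback ε.hom).obj (tw K n j) ≅ (Scheme.Modules.pullback ε'.hom).obj (tw K n j)) := by
  obtain ⟨i⟩ := nonempty_pullback_tw_iso (ε'.symm ≪≫ ε) j
  exact ⟨((Scheme.Modules.pullbackCongr (show ε'.hom ≫ (ε'.symm ≪≫ ε).hom = ε.hom by simp)).app _).symm ≪≫
    ((Scheme.Modules.pullbackComp ε'.hom (ε'.symm ≪≫ ε).hom).app _).symm ≪≫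
    (Scheme.Modules.pullback ε'.hom).mapIso i⟩

end GrothLib.ASBun21
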