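import Groth.Agent.Lib.ASBun21.Stage
import Groth.Agent.Lib.ASBun21.PushFree
import Groth.Agent.Lib.ASBun21.FibreTwist
import Groth.Agent.Lib.ASBun21.TwistAut
import Groth.Agent.Lib.ASBun21.Bound
import Groth.Agent.Lib.ParaPair.Descent
import Mathlib.FieldTheory.Normal.Basic
import Mathlib.FieldTheory.IsAlgClosed.Basic

/-!
# Existence of isotypical modules of twisting type
-/

set_option autoImplicit false
set_option linter.style.haveILetI false
set_option backward.isDefEq.respectTransparency false
set_option maxHeartbeats 2000000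

universe u

open CategoryTheory CategoryTheory.Limits AlgebraicGeometry
open scoped TensorProduct

noncomputable section

namespace GrothLib.ASBun21

open GrothLib.ProjPic26 (pr chi)

variable {k : Type u} [Field k] {K : Type u} [Field K] [Algebra k K]

/-- An embedding of a finite stage extends to an automorphism. -/
theorem exists_algEquiv_extend [IsAlgClosure k K] (S : Subalgebra k K) [Algebra.IsIntegral k S]
    (σ : S →ₐ[k] K) : ∃ τ : K ≃ₐ[k] K, ∀ s : S, τ (s : K) = σ s := by
  haveI : IsAlgClosed K := IsAlgClosure.isAlgClosed k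
  haveI : Algebra.IsAlgebraic k K := IsAlgClosure.isAlgebraic
  haveI : Normal k K := IsAlgClosure.normal k K
  letI : Field S := (isField_of_isIntegral_of_isField' (R := k) (S := S) (Field.toIsField k)).toField
  exact ⟨AlgEquiv.ofBijective (σ.liftNormal K) (Algebra.IsAlgebraic.algHom_bijective _),
    fun s => σ.liftNormal_commutes K s⟩

variable {X : Scheme.{u}} (p : X ⟶ Spec (CommRingCat.of k))

/-- The action of an automorphism on the base change. -/
def actIso (τ : K ≃ₐ[k] K) : BrSev.bc p K ≅ BrSev.bc p K :=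
  let i : Spec (CommRingCat.of K) ≅ Spec (CommRingCat.of K) := Scheme.Spec.mapIso τ.toRingEquiv.toCommRingCatIso.op
  have h : IsPullback (BrSev.proj p K) (BrSev.bcTo p K) p (Spec.map (CommRingCat.ofHom (algebraMap k K))) :=
    IsPullback.of_hasPullback _ _
  have w : i.hom ≫ Spec.map (CommRingCat.ofHom (algebraMap k K)) = Spec.map (CommRingCat.ofHom (algebraMap k K)) := by
    refine (Spec.map_comp _ _).symm.trans (congrArg Spec.map (CommRingCat.hom_ext (RingHom.ext fun x => ?_)))
    exact τ.commutes x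
  have h' : IsPullback (BrSev.proj p K) (BrSev.bcTo p K ≫ i.hom) p (Spec.map (CommRingCat.ofHom (algebraMap k K))) :=
    h.of_iso (Iso.refl _) (Iso.refl _) i (Iso.refl _) (by simp) (by simp) (by simp) (by simp [w])
  IsPullback.isoIsPullback _ _ h' h

theorem actIso_proj (τ : K ≃ₐ[k] K) : (actIso p τ).hom ≫ BrSev.proj p K = BrSev.proj p K :=
  IsPullback.isoIsPullback_hom_fst _ _ _ _

theorem actIso_bcTo (τ : K ≃ₐ[k] K) :
    (actIso p τ).hom ≫ BrSev.bcTo p K = BrSev.bcTo p K ≫ Spec.map (CommRingCat.ofHom (τ : K →+* K)) :=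
  IsPullback.isoIsPullback_hom_snd _ _ _ _

variable {p} {n : ℕ}

theorem isPullback_bcTo_chi (e : BrSev.Splitting p K n) :
    IsPullback (e.iso.hom ≫ chi n K) (BrSev.bcTo p K) (CohB1.ProjSpace.toSpec n (ULift.{u} ℤ))
      (specULiftZIsTerminal.from (Spec (CommRingCat.of K))) :=
  (ProjPic26.isPullback_chi n K).of_iso e.iso.symm (Iso.refl _) (Iso.refl _) (Iso.refl _) (by simp)
    (by simp [← e.comm]) (by simp) (by simp)

/-- The twisting sheaf is the pullback from the integers. -/
theorem pull_chi_twist (e : BrSev.Splitting p K n) (j : ℤ) :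
    Nonempty ((Scheme.Modules.pullback (e.iso.hom ≫ chi n K)).obj (Twist.twistProjSpace n (ULift.{u} ℤ) j) ≅
      e.twist j) := by
  have h : Nonempty ((Scheme.Modules.pullback (chi n K)).obj (Twist.twistProjSpace n (ULift.{u} ℤ) j) ≅
      Twist.twistProjSpace n K j) := by
    refine (Cube.clsMod_eq_iff (Ample.isInvertible_pullback _ (ProjPic26.isInvertible_twistProjSpace n _ j))
      (ProjPic26.isInvertible_twistProjSpace n K j)).1 ?_
    rw [Cube.clsMod_pullback]
    exact ProjPic26.pull_chi_tw n K j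
  exact ⟨((Scheme.Modules.pullbackComp e.iso.hom (chi n K)).app _).symm ≪≫
    (Scheme.Modules.pullback e.iso.hom).mapIso h.some⟩

/-- A finite morphism to a point over an algebraically closed field does not extend it. -/
theorem bijective_point [IsAlgClosed K] {R : Type u} [CommRing R] [Algebra K R] [Module.Finite K R]
    (y : Spec (CommRingCat.of R)) (ι : CommRingCat.of K ⟶ (Spec (CommRingCat.of R)).residueField y)
    (hι : (Spec (CommRingCat.of R)).fromSpecResidueField y ≫ Spec.map (CommRingCat.ofHom (algebraMap K R)) =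
      Spec.map ι) : Function.Bijective ι := by
  haveI : IsArtinianRing R := isArtinian_of_tower K inferInstance
  haveI : DiscreteTopology (Spec (CommRingCat.of R)) := inferInstanceAs (DiscreteTopology (PrimeSpectrum R))
  haveI : IsClosedImmersion ((Spec (CommRingCat.of R)).fromSpecResidueField y) :=
    IsClosedImmersion.of_isPreimmersion _ (isClosed_discrete _)
  haveI : IsFinite (Spec.map (CommRingCat.ofHom (algebraMap K R))) :=
    (IsFinite.SpecMap_iff _).2 (RingHom.finite_algebraMap.2 inferInstance)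
  haveI : IsFinite (Spec.map ι) := hι ▸ inferInstance
  have hf : ι.hom.Finite := (IsFinite.SpecMap_iff _).1 ‹_›
  letI := ι.hom.toAlgebra
  haveI : Module.Finite K ((Spec (CommRingCat.of R)).residueField y) := hf
  haveI : Algebra.IsIntegral K ((Spec (CommRingCat.of R)).residueField y) := inferInstance
  exact ⟨ι.hom.injective, (IsAlgClosed.algebraMap_bijective_of_isIntegral (k := K) (K := (Spec (CommRingCat.of R)).residueField y)).2⟩

/-- **Existence of a module isotypical of twisting type.** -/
theorem exists_twPow [IsProper p] [IsAlgClosure k K] (e : BrSev.Splitting p K n) (j : ℤ) :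
    ∃ (M : X.Modules) (d : ℕ), FlatMod.IsFinLocFree M ∧ 0 < d ∧
      Nonempty (BrSev.bcMod p K M ≅ ∐ fun _ : Fin d => e.twist j) := by
  haveI : IsAlgClosed K := IsAlgClosure.isAlgClosed k
  haveI : Algebra.IsAlgebraic k K := IsAlgClosure.isAlgebraic
  letI : X.Over (Spec (CommRingCat.of k)) := ⟨p⟩
  haveI : IsProper (X ↘ Spec (CommRingCat.of k)) := ‹IsProper p›
  haveI := Euler.isNoetherian_of_proper (X := X) k
  have hF : PicF.IsInvertible (e.twist j) := PicLoc.isInvertible_pullback e.iso.hom (isInvertible_tw j)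
  haveI : (e.twist j).IsQuasicoherent := InvExt.isQuasicoherent_of_isInvertible hF
  obtain ⟨S, hS, Y, g, q, π', G, hY, hπg, hπq, hG, ⟨φG⟩⟩ := exists_stage_module p K (e.twist j)
    (LocFree8.isFP_of_isFinLocFree _ (Euler.isFinLocFree_of_isInvertible hF))
  haveI := hG.1
  have hSf : IsField S := isField_of_isIntegral_of_isField' (R := k) (S := S) (Field.toIsField k)
  haveI : IsNoetherianRing S := isNoetherian_of_tower k inferInstance
  haveI : IsFinite (Spec.map (CommRingCat.ofHom (algebraMap k S))) :=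
    (IsFinite.SpecMap_iff _).2 (RingHom.finite_algebraMap.2 inferInstance)
  haveI : IsFinite g := MorphismProperty.of_isPullback hY.flip inferInstance
  have hX : IsPullback (BrSev.proj p K) (BrSev.bcTo p K) p (Spec.map (CommRingCat.ofHom (algebraMap k K))) :=
    IsPullback.of_hasPullback _ _
  have hSK : Spec.map (CommRingCat.ofHom (algebraMap S K)) ≫ Spec.map (CommRingCat.ofHom (algebraMap k S)) =
      Spec.map (CommRingCat.ofHom (algebraMap k K)) :=
    (Spec.map_comp _ _).symm.trans (congrArg Spec.map (CommRingCat.hom_ext (RingHom.ext fun _ => rfl)))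
  have hπ' : IsPullback π' (BrSev.bcTo p K) q (Spec.map (CommRingCat.ofHom (algebraMap S K))) := by
    refine IsPullback.of_right ?_ hπq hY
    rw [hπg, hSK]
    exact hX
  haveI : Flat (Spec.map (CommRingCat.ofHom (algebraMap S K))) := by
    letI := hSf.toField
    exact AlgSp.flat_to_field (k := S) _
  haveI : Surjective (Spec.map (CommRingCat.ofHom (algebraMap S K))) := ⟨fun y => by
    letI := hSf.toField
    haveI : Subsingleton (Spec (CommRingCat.of S)) := inferInstanceAs (Subsingleton (PrimeSpectrum S))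
    exact ⟨Classical.arbitrary _, Subsingleton.elim _ _⟩⟩
  haveI : Flat π' := MorphismProperty.of_isPullback hπ'.flip inferInstance
  haveI : Surjective π' := MorphismProperty.of_isPullback hπ'.flip inferInstance
  haveI : QuasiCompact π' := MorphismProperty.of_isPullback hπ'.flip inferInstance
  have hGinv : PicF.IsInvertible G :=
    ParaPair.isInvertible_of_pullback π' G (ParaPair.isInvertible_of_iso φG hF)
  -- the fibre product
  let R := K ⊗[k] S
  let sL : Spec (CommRingCat.of R) ⟶ Spec (CommRingCat.of K) :=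
    Spec.map (CommRingCat.ofHom (algebraMap K R))
  let sR : Spec (CommRingCat.of R) ⟶ Spec (CommRingCat.of S) :=
    Spec.map (CommRingCat.ofHom (Algebra.TensorProduct.includeRight : S →ₐ[k] R).toRingHom)
  have hsq : sR ≫ Spec.map (CommRingCat.ofHom (algebraMap k S)) =
      sL ≫ Spec.map (CommRingCat.ofHom (algebraMap k K)) := by
    refine (Spec.map_comp _ _).symm.trans (Eq.trans (congrArg Spec.map (CommRingCat.hom_ext (RingHom.ext fun x => ?_)))
      (Spec.map_comp _ _))
    show (Algebra.TensorProduct.includeRight : S →ₐ[k] R) (algebraMap k S x) = algebraMap K R (algebraMap k K x)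
    rw [AlgHom.commutes, ← IsScalarTower.algebraMap_apply]
  let P := pullback (BrSev.bcTo p K) sL
  let g' : P ⟶ BrSev.bc p K := pullback.fst _ _
  let θ : P ⟶ Spec (CommRingCat.of R) := pullback.snd _ _
  have hP : IsPullback g' θ (BrSev.bcTo p K) sL := IsPullback.of_hasPullback _ _
  let π'' : P ⟶ Y := hY.lift (g' ≫ BrSev.proj p K) (θ ≫ sR) (by
    rw [Category.assoc, hX.w, ← Category.assoc, hP.w, Category.assoc, Category.assoc, hsq])
  have hπ''g : π'' ≫ g = g' ≫ BrSev.proj p K := hY.lift_fst _ _ _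
  have hπ''q : π'' ≫ q = θ ≫ sR := hY.lift_snd _ _ _
  have hR : IsPullback sL sR (Spec.map (CommRingCat.ofHom (algebraMap k K)))
      (Spec.map (CommRingCat.ofHom (algebraMap k S))) := isPullback_SpecMap_of_isPushout _ _ _ _
    (CommRingCat.isPushout_tensorProduct k K S)
  have hbig : IsPullback g' (π'' ≫ q) (BrSev.proj p K ≫ p) (Spec.map (CommRingCat.ofHom (algebraMap k S))) := by
    rw [hX.w, hπ''q]
    exact hP.paste_vert hR
  have hBC : IsPullback g' π'' (BrSev.proj p K) g := IsPullback.of_bot hbig hπ''g.symm hY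
  haveI : IsArtinianRing R := isArtinian_of_tower K inferInstance
  haveI : DiscreteTopology (Spec (CommRingCat.of R)) := inferInstanceAs (DiscreteTopology (PrimeSpectrum R))
  have hPZ : IsPullback (g' ≫ e.iso.hom ≫ chi n K) θ (CohB1.ProjSpace.toSpec n (ULift.{u} ℤ))
      (specULiftZIsTerminal.from (Spec (CommRingCat.of R))) := by
    rw [specULiftZIsTerminal.hom_ext (specULiftZIsTerminal.from (Spec (CommRingCat.of R)))
      (sL ≫ specULiftZIsTerminal.from (Spec (CommRingCat.of K)))]
    exact hP.paste_horiz (isPullback_bcTo_chi e)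
  let η : P ≅ CohB1.ProjSpaceOver n (Spec (CommRingCat.of R)) := hPZ.isoPullback
  have hη₁ : η.hom ≫ pr n (Spec (CommRingCat.of R)) = g' ≫ e.iso.hom ≫ chi n K := hPZ.isoPullback_hom_fst
  have hη₂ : η.hom ≫ CohB1.ProjSpaceOver.toBase n (Spec (CommRingCat.of R)) = θ := hPZ.isoPullback_hom_snd
  let N := (Scheme.Modules.pullback η.inv).obj ((Scheme.Modules.pullback π'').obj G)
  have hN : PicF.IsInvertible N :=
    PicLoc.isInvertible_pullback η.inv (PicLoc.isInvertible_pullback π'' hGinv)
  obtain ⟨ψ⟩ : Nonempty (N ≅ Twist.twistOver n (Spec (CommRingCat.of R)) j) := by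
    refine nonempty_iso_twistOver N hN j fun y ω hω1 hω2 => ?_
    obtain ⟨ι, hι⟩ := Spec.map_surjective
      ((Spec (CommRingCat.of R)).fromSpecResidueField y ≫ sL)
    have hιb := bijective_point y ι hι.symm
    let u := RingEquiv.ofBijective ι.hom hιb
    obtain ⟨σ₀, hσ₀⟩ := Spec.map_surjective ((Spec (CommRingCat.of R)).fromSpecResidueField y ≫ sR)
    let σ : S →ₐ[k] K :=
      { u.symm.toRingHom.comp σ₀.hom with
        commutes' := fun x => by
          show u.symm (σ₀.hom (algebraMap k S x)) = algebraMap k K x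
          rw [RingEquiv.symm_apply_eq]
          have h := congrArg ((Spec (CommRingCat.of R)).fromSpecResidueField y ≫ ·) hsq
          simp only [← Category.assoc] at h
          rw [← hσ₀, ← hι, ← Spec.map_comp, ← Spec.map_comp] at h
          exact congrArg (fun t => t.hom x) (Spec.map_injective h) }
    haveI : Algebra.IsIntegral k S := Algebra.IsIntegral.of_finite k S
    obtain ⟨τ, hτ⟩ := exists_algEquiv_extend S σ
    let v : CohB1.ProjSpace n ((Spec (CommRingCat.of R)).residueField y) ⟶ BrSev.bc p K := ω ≫ η.inv ≫ g'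
    have hvθ : (ω ≫ η.inv) ≫ θ = CohB1.ProjSpace.toSpec n _ ≫ (Spec (CommRingCat.of R)).fromSpecResidueField y := by
      rw [← hη₂, Category.assoc, Iso.inv_hom_id_assoc, hω2]
      rfl
    have hvb : v ≫ BrSev.bcTo p K = CohB1.ProjSpace.toSpec n _ ≫ Spec.map ι := by
      rw [hι, show v ≫ BrSev.bcTo p K = (ω ≫ η.inv) ≫ g' ≫ BrSev.bcTo p K by simp [v], hP.w, ← Category.assoc,
        hvθ, Category.assoc]
    have hvc : v ≫ e.iso.hom ≫ chi n K = chi n _ := by
      rw [← hω1, show v ≫ e.iso.hom ≫ chi n K = ω ≫ η.inv ≫ g' ≫ e.iso.hom ≫ chi n K by simp [v], ← hη₁,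
        Iso.inv_hom_id_assoc]
    have hv : IsPullback v (CohB1.ProjSpace.toSpec n _) (BrSev.bcTo p K) (Spec.map ι) := by
      refine IsPullback.of_right ?_ hvb (isPullback_bcTo_chi e)
      rw [hvc, specULiftZIsTerminal.hom_ext (Spec.map ι ≫ specULiftZIsTerminal.from _) (specULiftZIsTerminal.from _)]
      exact ProjPic26.isPullback_chi n _
    haveI : IsIso ι := (ConcreteCategory.isIso_iff_bijective ι).2 hιb
    haveI : IsIso v := hv.isIso_fst_of_isIso
    have hm : ω ≫ η.inv ≫ π'' = v ≫ (actIso p τ).hom ≫ π' := by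
      refine hY.hom_ext ?_ ?_
      · simp only [Category.assoc, hπg, hπ''g, actIso_proj, v]
      · calc (ω ≫ η.inv ≫ π'') ≫ q = ω ≫ η.inv ≫ (π'' ≫ q) := by simp only [Category.assoc]
          _ = ω ≫ η.inv ≫ θ ≫ sR := by rw [hπ''q]
          _ = ((ω ≫ η.inv) ≫ θ) ≫ sR := by simp only [Category.assoc]
          _ = CohB1.ProjSpace.toSpec n _ ≫ Spec.map σ₀ := by rw [hvθ, Category.assoc, ← hσ₀]
          _ = CohB1.ProjSpace.toSpec n _ ≫ Spec.map ι ≫ Spec.map (CommRingCat.ofHom (τ : K →+* K)) ≫
              Spec.map (CommRingCat.ofHom (algebraMap S K)) := ?_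
          _ = (v ≫ BrSev.bcTo p K) ≫ Spec.map (CommRingCat.ofHom (τ : K →+* K)) ≫
              Spec.map (CommRingCat.ofHom (algebraMap S K)) := by rw [hvb, Category.assoc]
          _ = v ≫ ((actIso p τ).hom ≫ BrSev.bcTo p K) ≫ Spec.map (CommRingCat.ofHom (algebraMap S K)) := by
            rw [actIso_bcTo]; simp only [Category.assoc]
          _ = v ≫ (actIso p τ).hom ≫ (π' ≫ q) := by rw [hπq]; simp only [Category.assoc]
          _ = (v ≫ (actIso p τ).hom ≫ π') ≫ q := by simp only [Category.assoc]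
        rw [← Spec.map_comp, ← Spec.map_comp]
        refine congrArg (_ ≫ ·) (congrArg Spec.map (CommRingCat.hom_ext (RingHom.ext fun s => ?_)))
        show σ₀.hom s = u (τ (s : K))
        rw [hτ]
        exact (u.apply_symm_apply _).symm
    let c : CohB1.ProjSpace n ((Spec (CommRingCat.of R)).residueField y) ⟶ CohB1.ProjSpace n K := v ≫ e.iso.hom
    have hc : Nonempty ((Scheme.Modules.pullback c).obj (Twist.twistProjSpace n K j) ≅
        Twist.twistProjSpace n ((Spec (CommRingCat.of R)).residueField y) j) := by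
      refine (Cube.clsMod_eq_iff (Ample.isInvertible_pullback _ (ProjPic26.isInvertible_twistProjSpace n _ j))
        (ProjPic26.isInvertible_twistProjSpace n _ j)).1 ?_
      rw [Cube.clsMod_pullback]
      show Cube.pull c (ProjPic26.tw n K j) = ProjPic26.tw n _ j
      rw [← ProjPic26.pull_chi_tw n K j, Cube.pull_comp,
        show c ≫ chi n K = chi n _ from (Category.assoc _ _ _).trans hvc, ProjPic26.pull_chi_tw]
    let α : CohB1.ProjSpace n K ≅ CohB1.ProjSpace n K := e.iso.symm ≪≫ actIso p τ ≪≫ e.iso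
    obtain ⟨a⟩ := nonempty_pullback_tw_iso α j
    let Q := fun {A B : Scheme.{u}} (f : A ⟶ B) => Scheme.Modules.pullback f
    exact ⟨(Scheme.Modules.pullbackComp ω η.inv).app _ ≪≫ (Scheme.Modules.pullbackComp (ω ≫ η.inv) π'').app G ≪≫
      (Scheme.Modules.pullbackCongr (show (ω ≫ η.inv) ≫ π'' = (c ≫ α.hom ≫ e.iso.inv) ≫ π' by
        rw [Category.assoc, hm]; simp [c, α])).app G ≪≫
      ((Scheme.Modules.pullbackComp (c ≫ α.hom ≫ e.iso.inv) π').app G).symm ≪≫
      (Q (c ≫ α.hom ≫ e.iso.inv)).mapIso φG ≪≫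
      (Scheme.Modules.pullbackComp (c ≫ α.hom ≫ e.iso.inv) e.iso.hom).app _ ≪≫
      (Scheme.Modules.pullbackCongr (show (c ≫ α.hom ≫ e.iso.inv) ≫ e.iso.hom = c ≫ α.hom by simp)).app _ ≪≫
      ((Scheme.Modules.pullbackComp c α.hom).app _).symm ≪≫ (Q c).mapIso a ≪≫ hc.some⟩
  obtain ⟨t⟩ := pull_chi_twist e j
  let ν : (Scheme.Modules.pullback π'').obj G ≅ (Scheme.Modules.pullback g').obj (e.twist j) :=
    ((Scheme.Modules.pullbackId P).app _).symm ≪≫
      ((Scheme.Modules.pullbackCongr η.hom_inv_id).app _).symm ≪≫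
      ((Scheme.Modules.pullbackComp η.hom η.inv).app _).symm ≪≫ (Scheme.Modules.pullback η.hom).mapIso ψ ≪≫
      (Scheme.Modules.pullbackComp η.hom (pr n _)).app _ ≪≫
      (Scheme.Modules.pullbackCongr hη₁).app _ ≪≫
      ((Scheme.Modules.pullbackComp g' (e.iso.hom ≫ chi n K)).app _).symm ≪≫
      (Scheme.Modules.pullback g').mapIso t
  -- the direct image
  haveI : Flat (Spec.map (CommRingCat.ofHom (algebraMap k K))) := AlgSp.flat_to_field _
  haveI : Flat (BrSev.proj p K) := MorphismProperty.of_isPullback hX.flip inferInstance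
  haveI : Surjective (Spec.map (CommRingCat.ofHom (algebraMap k K))) := ⟨fun y => by
    haveI : Subsingleton (Spec (CommRingCat.of k)) := inferInstanceAs (Subsingleton (PrimeSpectrum k))
    exact ⟨Classical.arbitrary _, Subsingleton.elim _ _⟩⟩
  haveI : Surjective (BrSev.proj p K) := MorphismProperty.of_isPullback hX.flip inferInstance
  let M := (Scheme.Modules.pushforward g).obj G
  have hM : Coh.IsCoh M := isCoh_push_finite g hG
  haveI := hM.1
  haveI := FlatBC.isIso_bcMap hBC.flip G
  obtain ⟨d, ⟨φ⟩⟩ := exists_push_structure_free (BrSev.bcTo p K) g' θ hP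
  obtain ⟨μ⟩ := nonempty_push_pull_iso g' (Euler.isFinLocFree_of_isInvertible hF) φ
  let iso : BrSev.bcMod p K M ≅ ∐ fun _ : Fin d => e.twist j :=
    asIso (AffBC.bcMap hBC.flip G) ≪≫ (Scheme.Modules.pushforward g').mapIso ν ≪≫ μ
  letI := overBC p K
  haveI : IsProper ((BrSev.bc p K) ↘ Spec (CommRingCat.of K)) := MorphismProperty.pullback_snd p _ ‹IsProper p›
  haveI : IsAffineHom (BrSev.proj p K) := MorphismProperty.of_isPullback hX.flip inferInstance
  haveI := Euler.isNoetherian_of_proper (X := BrSev.bc p K) K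
  have hlf : FlatMod.IsFinLocFree (∐ fun _ : Fin d => e.twist j) :=
    OX.isFinLocFree_sigma _ fun _ => Euler.isFinLocFree_of_isInvertible hF
  have hK : FlatMod.IsFinLocFree (BrSev.bcMod p K M) := fun x => by
    obtain ⟨U, r, hx, ⟨b⟩⟩ := hlf x
    exact ⟨U, r, hx, ⟨(Scheme.Modules.restrictFunctor U.ι).mapIso iso ≪≫ b⟩⟩
  refine ⟨M, d, FTDesc.isFinLocFree_of_pullback (BrSev.proj p K) M hK (Euler.isCoh_of_isFinLocFree hK).2, ?_, ⟨iso⟩⟩
  -- nonvanishing
  by_contra hd
  obtain rfl : d = 0 := by omega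
  have hz : IsZero ((Scheme.Modules.pushforward g').obj (Coh.structureModule P)) :=
    IsZero.of_iso ((IsZero.iff_id_eq_zero _).2 (Sigma.hom_ext _ _ fun i => i.elim0)) φ
  haveI : Nontrivial R := Module.nontrivial_of_finrank_pos (R := K) (by
    rw [show Module.finrank K R = Module.finrank k S from Module.finrank_baseChange]
    exact Module.finrank_pos)
  haveI : Nonempty (CohB1.ProjSpace n K) := (ProjDim.isIntegral_proj K n).nonempty
  obtain ⟨x₀⟩ := ‹Nonempty (CohB1.ProjSpace n K)›
  obtain ⟨r₀⟩ : Nonempty (Spec (CommRingCat.of R)) := inferInstanceAs (Nonempty (PrimeSpectrum R))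
  haveI : Subsingleton (Spec (CommRingCat.of K)) := inferInstanceAs (Subsingleton (PrimeSpectrum K))
  obtain ⟨z, -, -⟩ := Scheme.Pullback.exists_preimage_pullback (f := BrSev.bcTo p K) (g := sL)
    (e.iso.inv x₀) r₀ (Subsingleton.elim _ _)
  haveI : Nonempty ((⊤ : P.Opens) : Scheme.{u}) := ⟨⟨z, trivial⟩⟩
  haveI : Nontrivial Γ(P, ⊤) := @Scheme.component_nontrivial P ⊤ ⟨⟨z, trivial⟩⟩
  exact one_ne_zero (α := Γ(P, ⊤)) (congrArg (fun t : (Scheme.Modules.pushforward g').obj (Coh.structureModule P) ⟶
    (Scheme.Modules.pushforward g').obj (Coh.structureModule P) => t.app ⊤ (1 : Γ(P, ⊤))) (hz.eq_of_src (𝟙 _) 0))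

end GrothLib.ASBun21
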