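import Groth.Agent.Lib.ModDesc.Descend
import Groth.Agent.Lib.LimDesc.Basic
import Groth.Agent.Lib.LimDescend.FgAlg
import Groth.Prelude.Def_BrSev
import Groth.Prelude.Def_CohB1

/-!
# Modules on an algebraic base change come from a finite stage
-/

set_option autoImplicit false
set_option linter.style.haveILetI false
set_option backward.isDefEq.respectTransparency false
set_option maxHeartbeats 1000000

universe u

open CategoryTheory CategoryTheory.Limits AlgebraicGeometry Opposite

noncomputable section

namespace GrothLib.ASBun21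

open GrothLib.LimDescend.Rel (FgSub fgDiagram fgCone isLimitFgCone)

variable {k : Type u} [Field k] {X : Scheme.{u}} (p : X ⟶ Spec (CommRingCat.of k))
  (K : Type u) [Field K] [Algebra k K]

variable (k) in
/-- The smallest stage. -/
def stage₀ : (FgSub k K)ᵒᵖ := op ⟨⊥, Subalgebra.fg_bot⟩

/-- The structure map to the smallest stage. -/
def toStage₀ : X ⟶ (fgDiagram k K).obj (stage₀ k K) :=
  p ≫ Spec.map (CommRingCat.ofHom (Algebra.botEquiv k K).toAlgHom.toRingHom)

theorem algebraMap_comp_botEquiv (S : Subalgebra k K) :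
    ((Subalgebra.inclusion (bot_le : (⊥ : Subalgebra k K) ≤ S)).toRingHom).comp
      (Algebra.botEquiv k K).symm.toAlgHom.toRingHom = algebraMap k S :=
  RingHom.ext fun x => ((Subalgebra.inclusion (bot_le : (⊥ : Subalgebra k K) ≤ S)).comp
    (Algebra.botEquiv k K).symm.toAlgHom).commutes x

/-- The smallest stage is the base field. -/
def stage₀Iso : Spec (CommRingCat.of k) ≅ (fgDiagram k K).obj (stage₀ k K) :=
  Scheme.Spec.mapIso (Algebra.botEquiv k K).toRingEquiv.toCommRingCatIso.op

theorem toStage₀_eq : toStage₀ p K = p ≫ (stage₀Iso (k := k) K).hom := rfl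

theorem isPullback_toStage₀ {P : Scheme.{u}} {S : (FgSub k K)ᵒᵖ} (φ : S ⟶ stage₀ k K) {g : P ⟶ X}
    {q : P ⟶ (fgDiagram k K).obj S} :
    IsPullback g q (toStage₀ p K) ((fgDiagram k K).map φ) ↔
      IsPullback g q p (Spec.map (CommRingCat.ofHom (algebraMap k ↥S.unop.1))) := by
  have e : (fgDiagram k K).map φ =
      Spec.map (CommRingCat.ofHom (algebraMap k ↥S.unop.1)) ≫ (stage₀Iso (k := k) K).hom := by
    rw [stage₀Iso, Functor.mapIso_hom]
    refine Eq.trans ?_ (Spec.map_comp _ _)
    refine congrArg Spec.map (CommRingCat.hom_ext (RingHom.ext fun x => ?_))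
    obtain ⟨y, rfl⟩ := (Algebra.botEquiv k K).symm.surjective x
    show Subalgebra.inclusion _ ((Algebra.botEquiv k K).symm y) =
      algebraMap k ↥S.unop.1 ((Algebra.botEquiv k K) ((Algebra.botEquiv k K).symm y))
    rw [AlgEquiv.apply_symm_apply]
    exact DFunLike.congr_fun (algebraMap_comp_botEquiv K S.unop.1) y
  rw [e, toStage₀_eq]
  refine ⟨fun h => ?_, fun h => ?_⟩
  · exact h.of_iso (Iso.refl _) (Iso.refl _) (Iso.refl _) (stage₀Iso (k := k) K).symm (by simp) (by simp)
      (by simp) (by simp)
  · exact h.of_iso (Iso.refl _) (Iso.refl _) (Iso.refl _) (stage₀Iso (k := k) K) (by simp) (by simp)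
      (by simp) (by simp)

theorem isPullback_top :
    IsPullback (BrSev.proj p K) (BrSev.bcTo p K) (toStage₀ p K) ((fgCone k K).π.app (stage₀ k K)) := by
  have e : (fgCone k K).π.app (stage₀ k K) =
      Spec.map (CommRingCat.ofHom (algebraMap k K)) ≫ (stage₀Iso (k := k) K).hom := by
    rw [stage₀Iso, Functor.mapIso_hom]
    refine Eq.trans ?_ (Spec.map_comp _ _)
    refine congrArg Spec.map (CommRingCat.hom_ext (RingHom.ext fun x => ?_))
    obtain ⟨y, rfl⟩ := (Algebra.botEquiv k K).symm.surjective x
    show ((Algebra.botEquiv k K).symm y : K) =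
      algebraMap k K ((Algebra.botEquiv k K) ((Algebra.botEquiv k K).symm y))
    rw [AlgEquiv.apply_symm_apply]
    exact ((Subalgebra.val _).comp (Algebra.botEquiv k K).symm.toAlgHom).commutes y
  rw [e, toStage₀_eq]
  exact (IsPullback.of_hasPullback p (Spec.map (CommRingCat.ofHom (algebraMap k K)))).of_iso (Iso.refl _) (Iso.refl _)
    (Iso.refl _) (stage₀Iso (k := k) K) (by simp) (by simp) (by simp) (by simp)

/-- **A finitely presented module on an algebraic base change comes from a finite stage.** -/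
theorem exists_stage_module [IsProper p] [Algebra.IsAlgebraic k K] (F : (BrSev.bc p K).Modules) [F.IsQuasicoherent]
    (hF : CohB1.IsFP F) :
    ∃ (S : Subalgebra k K) (_ : FiniteDimensional k S) (Y : Scheme.{u}) (g : Y ⟶ X)
      (q : Y ⟶ Spec (CommRingCat.of S)) (π' : BrSev.bc p K ⟶ Y) (G : Y.Modules),
      IsPullback g q p (Spec.map (CommRingCat.ofHom (algebraMap k S))) ∧ π' ≫ g = BrSev.proj p K ∧
        π' ≫ q = BrSev.bcTo p K ≫ Spec.map (CommRingCat.ofHom (algebraMap S K)) ∧ Coh.IsCoh G ∧
        Nonempty ((Scheme.Modules.pullback π').obj G ≅ F) := by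
  let D := fgDiagram k K
  let a := toStage₀ p K
  have hfin : ∀ S : FgSub k K, FiniteDimensional k S.1 := fun S => by
    haveI : Algebra.FiniteType k S.1 := (Subalgebra.fg_iff_finiteType S.1).1 S.2
    haveI : Algebra.IsIntegral k S.1 :=
      ⟨fun x => (isIntegral_algHom_iff S.1.val Subtype.val_injective).1 (Algebra.IsIntegral.isIntegral (x : K))⟩
    exact Algebra.IsIntegral.finite
  haveI : CompactSpace X := QuasiCompact.compactSpace_of_compactSpace p
  haveI : LocallyOfFiniteType a := by
    show LocallyOfFiniteType (p ≫ (stage₀Iso (k := k) K).hom)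
    infer_instance
  haveI : ∀ j : Over (stage₀ k K), IsLocallyNoetherian ((LimDesc.diag D (stage₀ k K) a).obj j) := fun j => by
    haveI := hfin j.left.unop
    haveI : IsNoetherianRing ↥j.left.unop.1 := isNoetherian_of_tower k inferInstance
    haveI : IsLocallyNoetherian (D.obj j.left) := inferInstanceAs (IsLocallyNoetherian (Spec (CommRingCat.of _)))
    haveI : LocallyOfFiniteType (pullback.snd a (D.map j.hom)) := inferInstance
    exact LocallyOfFiniteType.isLocallyNoetherian (pullback.snd a (D.map j.hom))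
  haveI : ∀ (j l : Over (stage₀ k K)) (φ : j ⟶ l), IsAffineHom ((LimDesc.diag D (stage₀ k K) a).map φ) :=
    fun j l φ => LimDesc.isAffineHom_map D (stage₀ k K) a φ
  let top : Over (stage₀ k K) := Over.mk (𝟙 _)
  haveI : CompactSpace ((LimDesc.diag D (stage₀ k K) a).obj top) := LimDesc.compactSpace_obj D (stage₀ k K) a top
  obtain ⟨j, -, G, hG, ⟨e⟩⟩ := ModDesc.exists_descend (LimDesc.diag D (stage₀ k K) a)
    (LimDesc.cone D (stage₀ k K) a (isPullback_top p K))
    (LimDesc.isLimitCone D (stage₀ k K) a (isPullback_top p K) (isLimitFgCone k K)) top F hF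
  exact ⟨j.left.unop.1, hfin _, _, pullback.fst a (D.map j.hom), pullback.snd a (D.map j.hom),
    (LimDesc.cone D (stage₀ k K) a (isPullback_top p K)).π.app j, G,
    (isPullback_toStage₀ p K j.hom).1 (IsPullback.of_hasPullback a (D.map j.hom)),
    LimDesc.π_fst D (stage₀ k K) a (isPullback_top p K) j,
    LimDesc.π_snd D (stage₀ k K) a (isPullback_top p K) j, hG, ⟨e⟩⟩

end GrothLib.ASBun21
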