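import Groth.Agent.Lib.ASBun21.Isotypical
import Groth.Agent.Lib.Ref1.Frame
import Groth.Agent.Lib.AssPts.Primary
import Groth.Agent.Lib.ModDesc.Approx
import Mathlib.Algebra.Module.Projective
import Mathlib.RingTheory.LocalRing.Module

/-!
# Summands of isotypical modules
-/

set_option autoImplicit false
set_option linter.style.haveILetI false
set_option backward.isDefEq.respectTransparency false
set_option maxHeartbeats 1000000

universe u

open CategoryTheory CategoryTheory.Limits AlgebraicGeometry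

noncomputable section

namespace GrothLib.ASBun21

attribute [local instance] Abelian.hasFiniteBiproducts

/-- A direct summand of a finite locally free module is finite locally free. -/
theorem isFinLocFree_of_retract {X : Scheme.{u}} [IsLocallyNoetherian X] {A M : X.Modules} (i : A ⟶ M)
    (q : M ⟶ A) (h : i ≫ q = 𝟙 A) (hM : FlatMod.IsFinLocFree M) : FlatMod.IsFinLocFree A := by
  have hMc := Euler.isCoh_of_isFinLocFree hM
  have hAc := isCoh_of_retract i q h hMc
  refine (Ref1.isFinLocFree_iff_free (HomSh.hasRel_of_isCoh hAc)).2 fun x => ?_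
  haveI := (Ref1.isFinLocFree_iff_free (HomSh.hasRel_of_isCoh hMc)).1 hM x
  haveI := Primary.moduleFinite_stalk M hMc (x := x)
  have hs : (QCoh.stalkLin q x).comp (QCoh.stalkLin i x) = LinearMap.id := LinearMap.ext fun e => by
    rw [LinearMap.comp_apply, ← QCoh.stalkLin_comp, h, QCoh.stalkLin_id, LinearMap.id_apply]
  haveI : Module.Projective (X.presheaf.stalk x) (A.presheaf.stalk x) :=
    Module.Projective.of_split (QCoh.stalkLin i x) (QCoh.stalkLin q x) hs
  haveI : Module.Finite (X.presheaf.stalk x) (A.presheaf.stalk x) :=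
    Module.Finite.of_surjective (QCoh.stalkLin q x) fun e => ⟨QCoh.stalkLin i x e, LinearMap.congr_fun hs e⟩
  exact Module.free_of_flat_of_isLocalRing

variable {k : Type u} [Field k] {X : Scheme.{u}} (p : X ⟶ Spec (CommRingCat.of k)) [IsProper p]
  (K : Type u) [Field K] [Algebra k K]

/-- Two indecomposables isotypical of the same type are isomorphic. -/
theorem nonempty_iso_of_isotypical [Algebra.IsAlgebraic k K] {E E' : X.Modules} (hEc : Coh.IsCoh E)
    (hE'c : Coh.IsCoh E') (hEi : Indec E) (hE'i : Indec E') {W : (BrSev.bc p K).Modules} {r s : ℕ}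
    (a : BrSev.bcMod p K E ≅ npow W r) (b : BrSev.bcMod p K E' ≅ npow W s) : Nonempty (E ≅ E') := by
  letI : X.Over (Spec (CommRingCat.of k)) := ⟨p⟩
  haveI : IsProper (X ↘ Spec (CommRingCat.of k)) := ‹IsProper p›
  haveI := Euler.isNoetherian_of_proper (X := X) k
  haveI := finite_hom k hEc hEc
  haveI := hEc.1
  haveI := hE'c.1
  have hs : s ≠ 0 := fun h => hE'i.1 (isZero_of_isZero_bc p K (isZero_of_npow_zero h ⟨b⟩))
  exact nonempty_iso_of_npow_npow k hEi hE'i hs (nonempty_iso_of_bc p K (isCoh_npow hEc s) (isCoh_npow hE'c r)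
    ((nonempty_map_npow (Scheme.Modules.pullback (BrSev.proj p K)) E s).some ≪≫ (npow_swap a b).some ≪≫
      (nonempty_map_npow (Scheme.Modules.pullback (BrSev.proj p K)) E' r).some.symm))

/-- The decomposition of an isotypical module. -/
theorem exists_isotypical_decomp {E : X.Modules} (hE : FlatMod.IsFinLocFree E) {L : (BrSev.bc p K).Modules}
    (hL : Indec L) (hLc : Coh.IsCoh L) {r : ℕ} (e : BrSev.bcMod p K E ≅ npow L r) :
    ∃ l : List X.Modules, Nonempty (E ≅ lsum l) ∧
      ∀ a ∈ l, Indec a ∧ FlatMod.IsFinLocFree a ∧ Coh.IsCoh a ∧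
        ∃ t, 0 < t ∧ t ≤ r ∧ Nonempty (BrSev.bcMod p K a ≅ npow L t) := by
  classical
  letI : X.Over (Spec (CommRingCat.of k)) := ⟨p⟩
  haveI : IsProper (X ↘ Spec (CommRingCat.of k)) := ‹IsProper p›
  haveI := Euler.isNoetherian_of_proper (X := X) k
  letI := overBC p K
  haveI : IsProper ((BrSev.bc p K) ↘ Spec (CommRingCat.of K)) :=
    MorphismProperty.pullback_snd p _ ‹IsProper p›
  haveI := Euler.isNoetherian_of_proper (X := BrSev.bc p K) K
  have hEc := Euler.isCoh_of_isFinLocFree hE
  haveI := finite_hom k hEc hEc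
  obtain ⟨l, hl, ⟨el⟩⟩ := exists_decomp k E
  refine ⟨l, ⟨el⟩, fun a ha => ?_⟩
  let f : E ≅ a ⊞ lsum (l.erase a) := el ≪≫ (nonempty_lsum_perm (List.perm_cons_erase ha)).some
  have hret : (biprod.inl ≫ f.inv) ≫ f.hom ≫ biprod.fst = 𝟙 a := by simp
  have hac := isCoh_of_retract _ _ hret hEc
  have hrc : Coh.IsCoh (lsum (l.erase a)) :=
    isCoh_of_retract (biprod.inr ≫ f.inv) (f.hom ≫ biprod.snd) (by simp) hEc
  haveI := preservesBinaryBiproducts_of_preservesBiproducts (Scheme.Modules.pullback (BrSev.proj p K))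
  have hcK : ∀ {M : X.Modules}, Coh.IsCoh M → Coh.IsCoh (BrSev.bcMod p K M) := fun hM =>
    ModDesc.isCoh_pullback _ _ hM
  haveI := finite_hom K (hcK hac) (hcK hac)
  haveI := finite_hom K (hcK hrc) (hcK hrc)
  obtain ⟨t, t', htr, ⟨et⟩, -⟩ := exists_npow_of_summand K hL
    (A := BrSev.bcMod p K a) (B := BrSev.bcMod p K (lsum (l.erase a)))
    ⟨((Scheme.Modules.pullback (BrSev.proj p K)).mapBiprod a (lsum (l.erase a))).symm ≪≫
      ((Scheme.Modules.pullback (BrSev.proj p K)).mapIso f).symm ≪≫ e⟩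
  haveI := hac.1
  exact ⟨(hl a ha).1, isFinLocFree_of_retract _ _ hret hE, hac, t,
    Nat.pos_of_ne_zero fun h => (hl a ha).1.1 (isZero_of_isZero_bc p K (isZero_of_npow_zero h ⟨et⟩)),
    by omega, ⟨et⟩⟩

end GrothLib.ASBun21
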