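import Groth.Agent.Lib.ASBun21.Existence

/-!
# Absolutely split modules on a Severi–Brauer variety
-/

set_option autoImplicit false
set_option linter.style.haveILetI false
set_option backward.isDefEq.respectTransparency false
set_option maxHeartbeats 1000000

universe u

open CategoryTheory CategoryTheory.Limits AlgebraicGeometry

noncomputable section

namespace GrothLib.ASBun21

attribute [local instance] Abelian.hasFiniteBiproducts

variable {k : Type u} [Field k] {X : Scheme.{u}} {p : X ⟶ Spec (CommRingCat.of k)} [IsProper p]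
  {K : Type u} [Field K] [Algebra k K] [IsAlgClosure k K] {n : ℕ} (e : BrSev.Splitting p K n)

omit [IsProper p] [IsAlgClosure k K] in
theorem isInvertible_twist (j : ℤ) : PicF.IsInvertible (e.twist j) :=
  PicLoc.isInvertible_pullback e.iso.hom (isInvertible_tw j)

theorem indec_twist (j : ℤ) : Indec (e.twist j) := by
  haveI : IsAlgClosed K := IsAlgClosure.isAlgClosed k
  haveI : IsIntegral (CohB1.ProjSpace n K) := ProjDim.isIntegral_proj K n
  haveI : Nonempty (BrSev.bc p K) := ⟨e.iso.inv (Classical.arbitrary _)⟩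
  haveI : IsIntegral (BrSev.bc p K) := isIntegral_of_isOpenImmersion e.iso.hom
  letI := overBC p K
  haveI : IsProper ((BrSev.bc p K) ↘ Spec (CommRingCat.of K)) :=
    MorphismProperty.pullback_snd p _ ‹IsProper p›
  exact indec_of_scalar (K := K) (not_isZero_of_isInvertible (isInvertible_twist e j))
    fun φ => exists_eq_smul (K := K) (isInvertible_twist e j) φ

/-- Every twisting sheaf is the type of an indecomposable module. -/
theorem exists_indec_twPow (j : ℤ) :
    ∃ (W : X.Modules) (r : ℕ), FlatMod.IsFinLocFree W ∧ Indec W ∧ 0 < r ∧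
      Nonempty (BrSev.bcMod p K W ≅ ∐ fun _ : Fin r => e.twist j) := by
  haveI : Algebra.IsAlgebraic k K := IsAlgClosure.isAlgebraic
  obtain ⟨M, d, hM, hd, ⟨iM⟩⟩ := exists_twPow e j
  letI := overBC p K
  haveI : IsProper ((BrSev.bc p K) ↘ Spec (CommRingCat.of K)) :=
    MorphismProperty.pullback_snd p _ ‹IsProper p›
  haveI := Euler.isNoetherian_of_proper (X := BrSev.bc p K) K
  have hc := Euler.isCoh_of_isFinLocFree (Euler.isFinLocFree_of_isInvertible (isInvertible_twist e j))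
  obtain ⟨m⟩ := nonempty_pow_npow (e.twist j) d
  obtain ⟨l, ⟨el⟩, hl⟩ := exists_isotypical_decomp p K hM (indec_twist e j) hc (iM ≪≫ m)
  match l, el, hl with
  | [], el, _ =>
    exfalso
    have hz := ((Scheme.Modules.pullback (BrSev.proj p K)).map_isZero (IsZero.of_iso isZero_lsum_nil el)).of_iso
      (iM ≪≫ m).symm
    haveI := finite_hom K hc hc
    have := eq_of_npow_iso K (indec_twist e j) (r := d) (s := 0) ⟨hz.iso isZero_lsum_nil⟩
    omega
  | c :: l, el, hl =>
    obtain ⟨hci, hcf, -, t, ht, -, ⟨et⟩⟩ := hl c List.mem_cons_self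
    obtain ⟨m'⟩ := nonempty_pow_npow (e.twist j) t
    exact ⟨c, t, hcf, hci, ht, ⟨et ≪≫ m'.symm⟩⟩

omit [IsProper p] [IsAlgClosure k K] in
theorem exists_iso_twist {L : (BrSev.bc p K).Modules} (hL : PicF.IsInvertible L) :
    ∃ j, Nonempty (L ≅ e.twist j) :=
  exists_iso_pullback_tw e.iso hL

/-- The indecomposable constituents of an absolutely split module are isotypical of twisting type. -/
theorem isTwPow_of_mem {E : X.Modules} (hE : FlatMod.IsFinLocFree E) {s : ℕ}
    {Ls : Fin s → (BrSev.bc p K).Modules} (hLs : ∀ i, PicF.IsInvertible (Ls i))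
    (hsplit : BrSev.bcMod p K E ≅ ∐ Ls) {l : List X.Modules} (el : E ≅ lsum l) (hl : ∀ a ∈ l, Indec a)
    {a : X.Modules} (ha : a ∈ l) : ∃ (j : ℤ) (r : ℕ), 0 < r ∧ BrSev.IsTwPow e j r a := by
  classical
  letI : X.Over (Spec (CommRingCat.of k)) := ⟨p⟩
  haveI : IsProper (X ↘ Spec (CommRingCat.of k)) := ‹IsProper p›
  haveI := Euler.isNoetherian_of_proper (X := X) k
  choose j hj using fun i => exists_iso_twist e (hLs i)
  choose W r hWf hWi hr hWt using fun i => exists_indec_twPow e (j i)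
  let N := ∏ i, r i
  have hN : 0 < N := Finset.prod_pos fun i _ => hr i
  choose m hm using fun i => (Finset.dvd_prod_of_mem r (Finset.mem_univ i) : r i ∣ N)
  let J := Σ i : Fin s, Fin (m i)
  let σ : Fin (Fintype.card J) ≃ J := (Fintype.equivFin J).symm
  have hlf : ∀ b ∈ l, Module.Finite k (b ⟶ b) := fun b hb => by
    let g : E ≅ b ⊞ lsum (l.erase b) := el ≪≫ (nonempty_lsum_perm (List.perm_cons_erase hb)).some
    have hbc := isCoh_of_retract (biprod.inl ≫ g.inv) (g.hom ≫ biprod.fst) (by simp) (Euler.isCoh_of_isFinLocFree hE)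
    exact finite_hom k hbc hbc
  let E₂ : X.Modules := ∐ fun x : Fin (Fintype.card J) => W (σ x).1
  let E₁ : X.Modules := ∐ fun _ : Fin N => E
  have h₁ : FlatMod.IsFinLocFree E₁ := OX.isFinLocFree_sigma _ fun _ => hE
  have h₂ : FlatMod.IsFinLocFree E₂ := OX.isFinLocFree_sigma _ fun _ => hWf _
  let Φ := Scheme.Modules.pullback (BrSev.proj p K)
  haveI : PreservesColimitsOfSize.{0, 0} Φ := preservesColimitsOfSize_shrink.{0, u, 0, u} _
  let T := fun i => e.twist (j i)
  let c₁ : BrSev.bcMod p K E₁ ≅ ∐ fun x : Σ _ : Fin N, Fin s => T x.2 :=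
    PreservesCoproduct.iso Φ _ ≪≫ Sigma.mapIso (fun _ => hsplit ≪≫ Sigma.mapIso fun i => (hj i).some) ≪≫
      sigmaSigmaIso (fun _ : Fin N => Fin s) (fun _ i => T i)
  let c₂ : BrSev.bcMod p K E₂ ≅ ∐ fun x : Σ y : Fin (Fintype.card J), Fin (r (σ y).1) => T (σ x.1).1 :=
    PreservesCoproduct.iso Φ _ ≪≫ Sigma.mapIso (fun y => (hWt (σ y).1).some) ≪≫
      sigmaSigmaIso (fun y : Fin (Fintype.card J) => Fin (r (σ y).1)) (fun y _ => T (σ y).1)
  let q : (Σ y : Fin (Fintype.card J), Fin (r (σ y).1)) ≃ Σ _ : Fin N, Fin s :=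
    (Equiv.sigmaCongrLeft (β := fun x : J => Fin (r x.1)) σ).trans <|
      (Equiv.sigmaAssoc fun i (_ : Fin (m i)) => Fin (r i)).trans <|
        (Equiv.sigmaCongrRight fun i => (Equiv.sigmaEquivProd _ _).trans
          (finProdFinEquiv.trans (finCongr (show m i * r i = N from (mul_comm _ _).trans (hm i).symm)))).trans <|
        (Equiv.sigmaEquivProd (Fin s) (Fin N)).trans <| (Equiv.prodComm _ _).trans (Equiv.sigmaEquivProd _ _).symm
  have hq : ∀ x, (q x).2 = (σ x.1).1 := fun x => rfl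
  obtain ⟨i₁₂⟩ := nonempty_iso_of_bc p K (Euler.isCoh_of_isFinLocFree h₁) (Euler.isCoh_of_isFinLocFree h₂)
    (c₁ ≪≫ (Sigma.whiskerEquiv q fun x => eqToIso (by rw [hq x])).symm ≪≫ c₂.symm)
  obtain ⟨n₁⟩ := nonempty_pow_npow E N
  obtain ⟨n₂⟩ := nonempty_npow_lsum el N
  obtain ⟨n₃⟩ := nonempty_coprod_lsum fun x : Fin (Fintype.card J) => W (σ x).1
  have hp := map_cls_perm k (List.replicate N l).flatten (List.ofFn fun x : Fin (Fintype.card J) => W (σ x).1)
    (fun b hb => by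
      obtain ⟨t, ht, hbt⟩ := List.mem_flatten.1 hb
      exact hl b ((List.mem_replicate.1 ht).2 ▸ hbt))
    (fun b hb => by
      obtain ⟨t, ht, hbt⟩ := List.mem_flatten.1 hb
      exact hlf b ((List.mem_replicate.1 ht).2 ▸ hbt))
    (fun b hb => by
      obtain ⟨x, rfl⟩ := List.mem_ofFn.1 hb
      exact hWi _)
    ⟨n₂.symm ≪≫ n₁.symm ≪≫ i₁₂ ≪≫ n₃⟩
  have hmem : cls a ∈ (List.ofFn fun x : Fin (Fintype.card J) => W (σ x).1).map cls :=
    hp.mem_iff.1 (List.mem_map.2 ⟨a, List.mem_flatten.2 ⟨l, List.mem_replicate.2 ⟨hN.ne', rfl⟩, ha⟩, rfl⟩)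
  obtain ⟨b, hb, hba⟩ := List.mem_map.1 hmem
  obtain ⟨x, rfl⟩ := List.mem_ofFn.1 hb
  obtain ⟨φ⟩ := cls_eq.1 hba.symm
  exact ⟨_, _, hr (σ x).1, ⟨Φ.mapIso φ ≪≫ (hWt (σ x).1).some⟩⟩

/-- **Decomposition of absolutely split modules.** -/
theorem exists_decomp_twPow {E : X.Modules} (hE : FlatMod.IsFinLocFree E) {s : ℕ}
    {Ls : Fin s → (BrSev.bc p K).Modules} (hLs : ∀ i, PicF.IsInvertible (Ls i))
    (hsplit : BrSev.bcMod p K E ≅ ∐ Ls) :
    ∃ (l : List X.Modules), Nonempty (E ≅ lsum l) ∧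
      ∀ a ∈ l, FlatMod.IsFinLocFree a ∧ Indec a ∧ ∃ (j : ℤ) (r : ℕ), 0 < r ∧ BrSev.IsTwPow e j r a := by
  classical
  letI : X.Over (Spec (CommRingCat.of k)) := ⟨p⟩
  haveI : IsProper (X ↘ Spec (CommRingCat.of k)) := ‹IsProper p›
  haveI := Euler.isNoetherian_of_proper (X := X) k
  have hEc := Euler.isCoh_of_isFinLocFree hE
  haveI := finite_hom k hEc hEc
  obtain ⟨l, hl, ⟨el⟩⟩ := exists_decomp k E
  refine ⟨l, ⟨el⟩, fun a ha => ⟨?_, (hl a ha).1,
    isTwPow_of_mem e hE hLs hsplit el (fun b hb => (hl b hb).1) ha⟩⟩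
  let g : E ≅ a ⊞ lsum (l.erase a) := el ≪≫ (nonempty_lsum_perm (List.perm_cons_erase ha)).some
  exact isFinLocFree_of_retract (biprod.inl ≫ g.inv) (g.hom ≫ biprod.fst) (by simp) hE

end GrothLib.ASBun21
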