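import Groth.Agent.Lib.ASBun21.TautCor
import Groth.Agent.Lib.EtSite.FpqcDescent
import Groth.Agent.Lib.Chow.Prod
import Groth.Agent.Lib.ProjSp.Section
import Mathlib.RingTheory.Algebraic.Integral

/-!
# Extension of splittings to larger fields
-/

set_option autoImplicit false
set_option linter.style.haveILetI false
set_option backward.isDefEq.respectTransparency false
set_option maxHeartbeats 2000000

universe u

open CategoryTheory CategoryTheory.Limits AlgebraicGeometry

noncomputable section

namespace GrothLib.ASBun21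

open GrothLib.ProjPic26 (chi)

variable {k : Type u} [Field k] {X : Scheme.{u}} {p : X ⟶ Spec (CommRingCat.of k)} {K : Type u} [Field K] [Algebra k K]
  {n : ℕ}

/-- A scheme split by a finite extension is proper. -/
theorem isProper_of_splitting [Module.Finite k K] (e : BrSev.Splitting p K n) : IsProper p := by
  let b := Spec.map (CommRingCat.ofHom (algebraMap k K))
  haveI : IsFinite b := (IsFinite.SpecMap_iff _).2 (RingHom.finite_algebraMap.2 inferInstance)
  haveI : Flat b := AlgSp.flat_to_field (k := k) _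
  haveI : Surjective b := ⟨fun y => by
    haveI : Subsingleton (Spec (CommRingCat.of k)) := inferInstanceAs (Subsingleton (PrimeSpectrum k))
    exact ⟨Classical.arbitrary _, Subsingleton.elim _ _⟩⟩
  haveI : IsLocallyNoetherian (Spec (CommRingCat.of k)) := inferInstance
  haveI : LocallyOfFinitePresentation b := inferInstance
  have h : IsProper (BrSev.bcTo p K) := by
    rw [← e.comm]
    haveI := Chow.isProper_toSpec n K
    infer_instance
  exact MorphismProperty.of_isPullback_of_descendsAlong (P := @IsProper)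
    (Q := @Surjective ⊓ @Flat ⊓ @LocallyOfFinitePresentation)
    (IsPullback.of_hasPullback p b).flip ⟨⟨inferInstance, inferInstance⟩, inferInstance⟩ h

/-- A splitting extends to every larger field. -/
theorem exists_splitting_ext (e : BrSev.Splitting p K n) (L : Type u) [Field L] [Algebra k L] [Algebra K L]
    [IsScalarTower k K L] :
    ∃ (ε : BrSev.Splitting p L n) (φ : BrSev.bc p L ⟶ BrSev.bc p K), φ ≫ BrSev.proj p K = BrSev.proj p L ∧
      ∀ j, Nonempty (ε.twist j ≅ (Scheme.Modules.pullback φ).obj (e.twist j)) := by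
  let c := Spec.map (CommRingCat.ofHom (algebraMap K L))
  have hc : c ≫ Spec.map (CommRingCat.ofHom (algebraMap k K)) = Spec.map (CommRingCat.ofHom (algebraMap k L)) :=
    (Spec.map_comp _ _).symm.trans (congrArg Spec.map (CommRingCat.hom_ext (IsScalarTower.algebraMap_eq k K L).symm))
  let φ : BrSev.bc p L ⟶ BrSev.bc p K := pullback.lift (BrSev.proj p L) (BrSev.bcTo p L ≫ c)
    (by rw [Category.assoc, hc]; exact pullback.condition)
  have hφ : φ ≫ BrSev.proj p K = BrSev.proj p L := pullback.lift_fst _ _ _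
  have h1 : IsPullback φ (BrSev.bcTo p L) (BrSev.bcTo p K) c := by
    refine IsPullback.of_right ?_ (pullback.lift_snd _ _ _) (IsPullback.of_hasPullback _ _)
    rw [hφ, hc]
    exact IsPullback.of_hasPullback _ _
  have h2 := h1.paste_horiz (isPullback_bcTo_chi e)
  rw [show c ≫ specULiftZIsTerminal.from (Spec (CommRingCat.of K)) = specULiftZIsTerminal.from _ from
    specULiftZIsTerminal.hom_ext _ _] at h2
  let i := h2.isoIsPullback _ _ (ProjPic26.isPullback_chi n L)
  let ε : BrSev.Splitting p L n := ⟨i, IsPullback.isoIsPullback_hom_snd _ _ _ _⟩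
  refine ⟨ε, φ, hφ, fun j => ?_⟩
  obtain ⟨a⟩ := pull_chi_twist ε j
  obtain ⟨b⟩ := pull_chi_twist e j
  exact ⟨a.symm ≪≫ (Scheme.Modules.pullbackCongr (IsPullback.isoIsPullback_hom_fst _ _ h2 _)).app _ ≪≫
    ((Scheme.Modules.pullbackComp φ (e.iso.hom ≫ chi n K)).app _).symm ≪≫ (Scheme.Modules.pullback φ).mapIso b⟩

/-- The twisting type is unchanged by extension of the field. -/
theorem exists_ext (e : BrSev.Splitting p K n) (L : Type u) [Field L] [Algebra k L] [Algebra K L]
    [IsScalarTower k K L] :
    ∃ ε : BrSev.Splitting p L n, ∀ (M : X.Modules) (j : ℤ), BrSev.IsTwPow e j 1 M → BrSev.IsTwPow ε j 1 M := by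
  obtain ⟨ε, φ, hφ, h⟩ := exists_splitting_ext e L
  refine ⟨ε, fun M j ⟨m⟩ => ?_⟩
  obtain ⟨t⟩ := h j
  exact ⟨(Scheme.Modules.pullbackCongr hφ.symm).app _ ≪≫ ((Scheme.Modules.pullbackComp φ _).app _).symm ≪≫
    (Scheme.Modules.pullback φ).mapIso (m ≪≫ coproductUniqueIso fun _ : Fin 1 => e.twist j) ≪≫ t.symm ≪≫
    (coproductUniqueIso fun _ : Fin 1 => ε.twist j).symm⟩

theorem nonempty_iso_structure_zero (e : BrSev.Splitting p K 0) {M : (BrSev.bc p K).Modules}
    (hM : PicF.IsInvertible M) : Nonempty (M ≅ Coh.structureModule _) := by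
  haveI := ProjSp.isIso_toSpec_zero (R := K)
  haveI : IsIso (BrSev.bcTo p K) := by rw [← e.comm]; infer_instance
  haveI : Subsingleton (BrSev.bc p K) := by
    haveI : Subsingleton (Spec (CommRingCat.of K)) := inferInstanceAs (Subsingleton (PrimeSpectrum K))
    exact (BrSev.bcTo p K).homeomorph.toEquiv.subsingleton
  exact nonempty_iso_unit_of_discrete hM

/-- Two twists which agree over some splitting field agree in degree. -/
theorem eq_of_twist_iso_twist (hn : 1 ≤ n) (e : BrSev.Splitting p K n) {a b : ℤ} (φ : e.twist a ≅ e.twist b) :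
    a = b := by
  let P := Scheme.Modules.pullback e.iso.inv
  let ψ : ∀ j, P.obj (e.twist j) ≅ Twist.twistProjSpace n K j := fun j =>
    (Scheme.Modules.pullbackComp e.iso.inv e.iso.hom).app _ ≪≫
      (Scheme.Modules.pullbackCongr e.iso.inv_hom_id).app _ ≪≫ (Scheme.Modules.pullbackId _).app _
  exact ProjPic26.eq_of_twist_iso hn ((ψ a).symm ≪≫ P.mapIso φ ≪≫ ψ b)

theorem exists_twPow_of_zero {m : ℕ} (e : BrSev.Splitting p K m) (hm : m = 0) (j : ℤ) :
    ∃ L : X.Modules, PicF.IsInvertible L ∧ BrSev.IsTwPow e j 1 L := by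
  subst hm
  obtain ⟨φ⟩ := nonempty_iso_structure_zero e (isInvertible_twist e j)
  exact ⟨Coh.structureModule X, PicLoc.isInvertible_structureModule X,
    ⟨OX.pullUnitIso _ ≪≫ φ.symm ≪≫ (coproductUniqueIso fun _ : Fin 1 => e.twist j).symm⟩⟩

end GrothLib.ASBun21
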