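import Groth.Agent.Lib.CMReg.StructureMain
import Groth.Agent.Lib.CMReg.Free
import Groth.Agent.Lib.CurveMult.TwistSplit
import Groth.Agent.Lib.FunMor20.Datum
import Groth.Agent.Lib.RankTwo12.Kernel
import Groth.Agent.Lib.NegTwist.H0
import Groth.Agent.Lib.OX.OneDegLocus
import Groth.Agent.Lib.OmegaFree.Basic
import Groth.Agent.Lib.ProjFormula.Iso

/-!
# Restriction to a divisor and Horrocks' lifting argument, on any scheme
-/

set_option autoImplicit false
set_option linter.all false
set_option backward.isDefEq.respectTransparency false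

universe u

open CategoryTheory CategoryTheory.Limits AlgebraicGeometry TopologicalSpace Opposite
open GrothLib.Cohom (hhMap hhDelta)
open GrothLib.QCoh (stalkLin)

noncomputable section

namespace GrothLib.ASBun21.HorrocksGen


/-- An epimorphism between bundles of the same rank is an isomorphism. -/
theorem isIso_of_epi_rank {X : Scheme.{u}} {r : ℕ} {F E : X.Modules}
    (hF : FlatMod.IsFinLocFreeOfRank r F) (hE : FlatMod.IsFinLocFreeOfRank r E)
    (φ : F ⟶ E) [Epi φ] : IsIso φ := by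
  refine (OX.isIso_iff φ).2 fun x => ?_
  obtain ⟨bF⟩ := OmegaFree.exists_basis_stalk hF x
  obtain ⟨bE⟩ := OmegaFree.exists_basis_stalk hE x
  have hs : Function.Surjective (stalkLin φ x) :=
    (ModuleCat.epi_iff_surjective ((OX.stalk x).map φ)).1 ((OX.epi_iff φ).1 inferInstance x)
  let e := bE.equiv bF (Equiv.refl _)
  haveI := Module.Finite.of_basis bF
  have hi : Function.Injective (e.toLinearMap ∘ₗ stalkLin φ x) :=
    OrzechProperty.injective_of_surjective_endomorphism _ (e.surjective.comp hs)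
  exact (ConcreteCategory.isIso_iff_bijective _).2
    ⟨Function.Injective.of_comp (f := e) (g := stalkLin φ x) hi, hs⟩

/-- Tensoring with `D` and then with `A` is tensoring with their product, naturally. -/
def firstIso {X : Scheme.{u}} (A D B : X.Modules) (g : CohB1.tensorMod A D ≅ B) :
    (DCoh.tensorBi (X := X)).obj A ⋙ (DCoh.tensorBi (X := X)).flip.obj D ≅ (DCoh.tensorBi (X := X)).flip.obj B :=
  Functor.isoWhiskerRight ((OX.tensorBraiding (X := X)).app A).symm _ ≪≫
    (NatIso.ofComponents (fun M => OX.tensorAssoc M A D) (fun {M M'} f => by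
      show ((DCoh.tensorBi (X := X)).map (((DCoh.tensorBi (X := X)).map f).app A)).app D ≫ (OX.tensorAssoc M' A D).hom =
        (OX.tensorAssoc M A D).hom ≫ ((DCoh.tensorBi (X := X)).map f).app (CohB1.tensorMod A D)
      rw [OX.tMap_left, OX.tMap_left]
      refine (OX.tensorAssoc_natural f (𝟙 A) (𝟙 D)).trans (congrArg (_ ≫ ·) ?_)
      rw [OX.tMap_id]
      exact (OX.tMap_left f _).symm) :
      (DCoh.tensorBi (X := X)).flip.obj A ⋙ (DCoh.tensorBi (X := X)).flip.obj D ≅ (DCoh.tensorBi (X := X)).flip.obj (CohB1.tensorMod A D)) ≪≫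
    (DCoh.tensorBi (X := X)).flip.mapIso g

/-- A module spanned by sections that come from a map makes that map an epimorphism. -/
theorem epi_of_spanned {X : Scheme.{u}} {M N : X.Modules} (f : M ⟶ N) (hN : CMReg.Spanned N)
    (h : Function.Surjective (f.app ⊤)) : Epi f := by
  refine ⟨fun {P} a b hab => ?_⟩
  refine Scheme.Modules.hom_ext a b fun W => ?_
  ext (m : Γ(N, W))
  have hs : ∀ s : Γ(N, ⊤), a.app ⊤ s = b.app ⊤ s := fun s => by
    obtain ⟨y, rfl⟩ := h s
    rw [← ConcreteCategory.comp_apply, ← ConcreteCategory.comp_apply, ← Scheme.Modules.Hom.comp_app, hab]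
    rfl
  refine TopCat.Sheaf.eq_of_locally_eq' (F := ⟨P.presheaf, P.isSheaf⟩)
    (U := fun p : {x : X // x ∈ W} => (hN W m p.1 p.2).choose) W
    (fun p => homOfLE (hN W m p.1 p.2).choose_spec.choose)
    (fun x hx => Opens.mem_iSup.2 ⟨⟨x, hx⟩, (hN W m x hx).choose_spec.choose_spec.1⟩)
    _ _ fun p => ?_
  obtain ⟨-, hm⟩ := (hN W m p.1 p.2).choose_spec.choose_spec
  show InvExt.mres P _ (a.app W m) = InvExt.mres P _ (b.app W m)
  rw [← Ample.app_mres, ← Ample.app_mres]
  refine Submodule.span_induction ?_ ?_ ?_ ?_ hm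
  · rintro _ ⟨s, rfl⟩
    exact (Ample.app_mres a _ s).trans ((congrArg _ (hs s)).trans (Ample.app_mres b _ s).symm)
  · simp
  · intro x y _ _ hx hy
    rw [map_add, map_add, hx, hy]
  · intro c x _ hx
    rw [Ample.app_smul, Ample.app_smul, hx]

variable {k : Type u} [Field k] {X : Scheme.{u}} [X.Over (Spec (CommRingCat.of k))]

include k in
/-- A map surjective on the sections of a spanned invertible twist is an isomorphism. -/
theorem isIso_of_surjective_H0 {r : ℕ} {F E D D' : X.Modules}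
    (e : CohB1.tensorMod D D' ≅ Coh.structureModule X) (e' : CohB1.tensorMod D' D ≅ Coh.structureModule X)
    (hF : FlatMod.IsFinLocFreeOfRank r F) (hE : FlatMod.IsFinLocFreeOfRank r E) (φ : F ⟶ E)
    (hsp : CMReg.Spanned (CohB1.tensorMod E D))
    (h : Function.Surjective (hhMap k (((DCoh.tensorBi (X := X)).flip.obj D).map φ) 0)) : IsIso φ := by
  haveI : ((DCoh.tensorBi (X := X)).flip.obj D).IsEquivalence := CurveMult.isEquivalence_tF e e'
  suffices Epi φ from isIso_of_epi_rank hF hE φ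
  suffices Epi (((DCoh.tensorBi (X := X)).flip.obj D).map φ) from ((DCoh.tensorBi (X := X)).flip.obj D).epi_of_epi_map this
  refine epi_of_spanned _ hsp fun s => ?_
  obtain ⟨y, hy⟩ := h ((ProjCoh.H0top (((DCoh.tensorBi (X := X)).flip.obj D).obj E)).symm s)
  refine ⟨ProjCoh.H0top _ y, ?_⟩
  rw [← NegTwist.H0top_hhMap k, hy, AddEquiv.apply_symm_apply]

include k in
/-- A nonzero section bounds the sections of every invertible twist from below. -/
theorem finrank_le_of_section [IsIntegral X] [IsProper (X ↘ Spec (CommRingCat.of k))] {r : ℕ} {M D D' : X.Modules}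
    (e : CohB1.tensorMod D D' ≅ Coh.structureModule X) (e' : CohB1.tensorMod D' D ≅ Coh.structureModule X)
    (hM : FlatMod.IsFinLocFreeOfRank r M) (hMD : Coh.IsCoh (CohB1.tensorMod M D))
    (hne : Nontrivial (Coh.HH X M 0)) :
    Module.finrank k (Coh.HH X D 0) ≤ Module.finrank k (Coh.HH X (CohB1.tensorMod M D) 0) := by
  obtain ⟨u, hu⟩ := Euler.exists_ne_zero_section hne
  have hs : FinCov.homOfSection u ≠ 0 := fun h => hu (by
    have h1 := FinCov.homOfSection_one u ⊤
    rw [h] at h1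
    rw [show (homOfLE (le_top : (⊤ : X.Opens) ≤ ⊤)).op = 𝟙 _ from Subsingleton.elim _ _,
      CategoryTheory.Functor.map_id] at h1
    exact h1.symm)
  haveI := RankTwo12.mono_of_ne_zero (PicLoc.isInvertible_structureModule X) hM hs
  haveI : ((DCoh.tensorBi (X := X)).flip.obj D).IsEquivalence := CurveMult.isEquivalence_tF e e'
  generalize FinCov.homOfSection u = σ at *
  let m := ((DCoh.tensorBi (X := X)).flip.obj D).map σ
  haveI : Mono m := Functor.map_mono ((DCoh.tensorBi (X := X)).flip.obj D) σ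
  haveI := Euler.finiteDimensional_HH k hMD 0
  refine le_of_eq_of_le ?_ (LinearMap.finrank_le_finrank_of_injective (NegTwist.injective_hhMap_zero k m))
  exact (LinearEquiv.finrank_eq (Euler.hhEquiv (A := k) (OX.tensorUnitLeftIso D) 0)).symm

section Divisor

variable {Y : Scheme.{u}} (j : Y ⟶ X) {K : X.Modules} (ι : K ⟶ Coh.structureModule X)
  (w : ι ≫ ClSub.unitToPush j = 0)

/-- The restriction sequence of a module. -/
abbrev resSeq (M : X.Modules) : ShortComplex X.Modules :=
  (ShortComplex.mk ι (ClSub.unitToPush j) w).map ((DCoh.tensorBi (X := X)).flip.obj M)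

/-- The restriction sequence, twisted by `D`. -/
abbrev twSeq (M D : X.Modules) : ShortComplex X.Modules :=
  (resSeq j ι w M).map ((DCoh.tensorBi (X := X)).flip.obj D)

theorem resSeq_comm {M N : X.Modules} (φ : M ⟶ N) :
    ((DCoh.tensorBi (X := X)).flip.map φ).app (Coh.structureModule X) ≫ (resSeq j ι w N).g =
      (resSeq j ι w M).g ≫
        ((DCoh.tensorBi (X := X)).flip.map φ).app ((Scheme.Modules.pushforward j).obj (Coh.structureModule Y)) :=
  (((DCoh.tensorBi (X := X)).flip.map φ).naturality (ClSub.unitToPush j)).symm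

theorem resSeq_shortExact (hS : (ShortComplex.mk ι (ClSub.unitToPush j) w).ShortExact)
    {M : X.Modules} (hM : FlatMod.IsFinLocFree M) : (resSeq j ι w M).ShortExact :=
  OX.tensor_map_shortExact (OX.flat_of_isFinLocFree hM) hS

theorem twSeq_shortExact (hS : (ShortComplex.mk ι (ClSub.unitToPush j) w).ShortExact)
    {M D : X.Modules} (hM : FlatMod.IsFinLocFree M) (hD : FlatMod.IsFinLocFree D) :
    (twSeq j ι w M D).ShortExact :=
  OX.tensor_map_shortExact (OX.flat_of_isFinLocFree hD) (resSeq_shortExact j ι w hS hM)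

/-- The first term. -/
def firstTerm (M D D' : X.Modules) (g : CohB1.tensorMod K D ≅ D') :
    (twSeq j ι w M D).X₁ ≅ CohB1.tensorMod M D' :=
  (firstIso K D D' g).app M

/-- The second term. -/
def secondTerm (M D : X.Modules) : (twSeq j ι w M D).X₂ ≅ CohB1.tensorMod M D :=
  ((DCoh.tensorBi (X := X)).flip.obj D).mapIso (OX.tensorUnitLeftIso M)

theorem nonempty_thirdTerm [IsAffineHom j] {M D : X.Modules} (hM : FlatMod.IsFinLocFree M)
    (hD : FlatMod.IsFinLocFree D) {DY : Y.Modules} (g : (Scheme.Modules.pullback j).obj D ≅ DY) :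
    Nonempty ((twSeq j ι w M D).X₃ ≅
      (Scheme.Modules.pushforward j).obj (CohB1.tensorMod ((Scheme.Modules.pullback j).obj M) DY)) := by
  obtain ⟨q⟩ := CMReg.nonempty_tensorMod_push j M hM
  haveI := ProjFormula.isIso_projHom j hD ((Scheme.Modules.pullback j).obj M)
  exact ⟨((DCoh.tensorBi (X := X)).flip.obj D).mapIso q ≪≫ GrTilde.tensorModComm _ _ ≪≫
    asIso (ProjFormula.projHom j D ((Scheme.Modules.pullback j).obj M)) ≪≫
    (Scheme.Modules.pushforward j).mapIso (GrTilde.tensorModComm _ _ ≪≫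
      Ample.LineData.tensorModMapIso (Iso.refl _) g)⟩

include k in
/-- Vanishing passes to the divisor. -/
theorem vanish_restrict [IsAffineHom j] (hS : (ShortComplex.mk ι (ClSub.unitToPush j) w).ShortExact)
    {M D D' : X.Modules} (hM : FlatMod.IsFinLocFree M) (hD : FlatMod.IsFinLocFree D)
    (g : CohB1.tensorMod K D ≅ D') {DY : Y.Modules} (gY : (Scheme.Modules.pullback j).obj D ≅ DY)
    (hq : (CohB1.tensorMod ((Scheme.Modules.pullback j).obj M) DY).IsQuasicoherent) (i : ℕ)
    (h2 : Subsingleton (Coh.HH X (CohB1.tensorMod M D) i))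
    (h1 : Subsingleton (Coh.HH X (CohB1.tensorMod M D') (i + 1))) :
    Subsingleton (Coh.HH Y (CohB1.tensorMod ((Scheme.Modules.pullback j).obj M) DY) i) := by
  obtain ⟨e3⟩ := nonempty_thirdTerm j ι w hM hD gY
  haveI := hq
  obtain ⟨q⟩ := Cohom.nonempty_HH_equiv_pushforward j
    (CohB1.tensorMod ((Scheme.Modules.pullback j).obj M) DY) i
  haveI := CMReg.subsingleton_of_iso e3 (CMReg.subsingleton_X₃ (twSeq_shortExact j ι w hS hM hD)
    (CMReg.subsingleton_of_iso (secondTerm j ι w M D).symm h2)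
    (CMReg.subsingleton_of_iso (firstTerm j ι w M D D' g).symm h1))
  exact q.toEquiv.subsingleton

include k in
/-- A splitting on the divisor lifts. -/
theorem exists_lift (hS : (ShortComplex.mk ι (ClSub.unitToPush j) w).ShortExact)
    {E : X.Modules} (hE : FlatMod.IsFinLocFree E) {r : ℕ} (L : Fin r → X.Modules)
    (hF : FlatMod.IsFinLocFree (∐ L))
    (hinv : ∀ l, ∃ M : X.Modules, Nonempty (CohB1.tensorMod (L l) M ≅ Coh.structureModule X) ∧
      Nonempty (CohB1.tensorMod M (L l) ≅ Coh.structureModule X) ∧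
      Subsingleton (Coh.HH X (twSeq j ι w E M).X₁ 1))
    (c : (resSeq j ι w (∐ L)).X₃ ≅ (resSeq j ι w E).X₃) :
    ∃ φ : ∐ L ⟶ E,
      IsIso (((DCoh.tensorBi (X := X)).flip.map φ).app ((Scheme.Modules.pushforward j).obj (Coh.structureModule Y))) := by
  classical
  let α : ∐ L ⟶ (resSeq j ι w E).X₃ :=
    (OX.tensorUnitLeftIso (∐ L)).inv ≫ (resSeq j ι w (∐ L)).g ≫ c.hom
  have hl : ∀ l, ∃ ψ : L l ⟶ E,
      ψ ≫ (OX.tensorUnitLeftIso E).inv ≫ (resSeq j ι w E).g = Sigma.ι L l ≫ α := fun l => by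
    obtain ⟨M, ⟨x⟩, ⟨y⟩, hv⟩ := hinv l
    obtain ⟨ψ, hψ⟩ := CurveMult.exists_lift_of_H1 k (resSeq_shortExact j ι w hS hE) x y
      (Sigma.ι L l ≫ α) hv
    refine ⟨ψ ≫ (OX.tensorUnitLeftIso E).hom, ?_⟩
    rw [Category.assoc, Iso.hom_inv_id_assoc]
    exact hψ
  choose ψ hψ using hl
  refine ⟨Sigma.desc ψ, ?_⟩
  have hφ : Sigma.desc ψ ≫ (OX.tensorUnitLeftIso E).inv ≫ (resSeq j ι w E).g = α :=
    Sigma.hom_ext _ _ fun l => by rw [Sigma.ι_desc_assoc]; exact hψ l
  haveI : Epi (resSeq j ι w (∐ L)).g := (resSeq_shortExact j ι w hS hF).epi_g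
  have h5 : (OX.tensorUnitLeftIso (∐ L)).inv ≫
      ((DCoh.tensorBi (X := X)).obj (Coh.structureModule X)).map (Sigma.desc ψ) =
      Sigma.desc ψ ≫ (OX.tensorUnitLeftIso E).inv := by
    rw [Iso.inv_comp_eq, ← Category.assoc, Iso.eq_comp_inv]
    exact FunMor20.tensorUnitLeftIso_natural _
  have hc : ((DCoh.tensorBi (X := X)).flip.map (Sigma.desc ψ)).app
      ((Scheme.Modules.pushforward j).obj (Coh.structureModule Y)) = c.hom := by
    rw [← cancel_epi (resSeq j ι w (∐ L)).g]
    refine (resSeq_comm j ι w (Sigma.desc ψ)).symm.trans ?_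
    rw [← cancel_epi (OX.tensorUnitLeftIso (∐ L)).inv]
    refine (Category.assoc _ _ _).symm.trans ?_
    refine (congrArg (· ≫ (resSeq j ι w E).g) h5).trans ?_
    exact (Category.assoc _ _ _).trans hφ
  rw [hc]
  infer_instance

include k in
/-- Surjectivity on sections propagates upwards from the divisor. -/
theorem surjective_H0_step (hS : (ShortComplex.mk ι (ClSub.unitToPush j) w).ShortExact)
    {F E D D' : X.Modules} (hF : FlatMod.IsFinLocFree F) (hE : FlatMod.IsFinLocFree E)
    (hD : FlatMod.IsFinLocFree D) (g : CohB1.tensorMod K D ≅ D') (φ : F ⟶ E)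
    (hφ : IsIso (((DCoh.tensorBi (X := X)).flip.map φ).app ((Scheme.Modules.pushforward j).obj (Coh.structureModule Y))))
    (hF1 : Subsingleton (Coh.HH X (CohB1.tensorMod F D') 1))
    (h : Function.Surjective (hhMap k (((DCoh.tensorBi (X := X)).flip.obj D').map φ) 0)) :
    Function.Surjective (hhMap k (((DCoh.tensorBi (X := X)).flip.obj D).map φ) 0) := by
  have hSF := twSeq_shortExact j ι w hS hF hD
  have hSE := twSeq_shortExact j ι w hS hE hD
  let τ : resSeq j ι w F ⟶ resSeq j ι w E :=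
    (ShortComplex.mk ι (ClSub.unitToPush j) w).mapNatTrans ((DCoh.tensorBi (X := X)).flip.map φ)
  let σ : twSeq j ι w F D ⟶ twSeq j ι w E D := ((DCoh.tensorBi (X := X)).flip.obj D).mapShortComplex.map τ
  have hσ1 : Function.Surjective (hhMap k σ.τ₁ 0) := by
    have hb : σ.τ₁ ≫ (firstTerm j ι w E D D' g).hom =
        (firstTerm j ι w F D D' g).hom ≫ ((DCoh.tensorBi (X := X)).flip.obj D').map φ :=
      (firstIso K D D' g).hom.naturality φ
    intro x
    obtain ⟨y, hy⟩ := h (hhMap k (firstTerm j ι w E D D' g).hom 0 x)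
    refine ⟨hhMap k (firstTerm j ι w F D D' g).inv 0 y, ?_⟩
    refine (Euler.hhEquiv (A := k) (firstTerm j ι w E D D' g) 0).injective ?_
    show hhMap k (firstTerm j ι w E D D' g).hom 0 _ = hhMap k (firstTerm j ι w E D D' g).hom 0 x
    rw [← Euler.hhMap_comp, hb, Euler.hhMap_comp,
      ← Euler.hhMap_comp (A := k) (firstTerm j ι w F D D' g).inv (firstTerm j ι w F D D' g).hom,
      Iso.inv_hom_id, Euler.hhMap_id]
    exact hy
  haveI : IsIso σ.τ₃ := by
    haveI : IsIso τ.τ₃ := hφ
    exact Functor.map_isIso ((DCoh.tensorBi (X := X)).flip.obj D) τ.τ₃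
  have hF1' : Subsingleton (Coh.HH X (twSeq j ι w F D).X₁ 1) :=
    CMReg.subsingleton_of_iso (firstTerm j ι w F D D' g).symm hF1
  have hσ2 : Function.Surjective (hhMap k σ.τ₂ 0) := by
    intro x
    obtain ⟨y, hy⟩ := (Cohom.exact₃ (A := k) hSF 0
      (hhMap k (inv σ.τ₃) 0 (hhMap k (twSeq j ι w E D).g 0 x))).1 (@Subsingleton.elim _ hF1' _ _)
    have hd0 : hhMap k (twSeq j ι w E D).g 0 (x - hhMap k σ.τ₂ 0 y) = 0 := by
      rw [map_sub, ← Euler.hhMap_comp, σ.comm₂₃, Euler.hhMap_comp, hy,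
        ← Euler.hhMap_comp (A := k) (inv σ.τ₃), IsIso.inv_hom_id, Euler.hhMap_id, sub_self]
    obtain ⟨t, ht⟩ := (Cohom.exact₂ (A := k) hSE 0 _).1 hd0
    obtain ⟨s, rfl⟩ := hσ1 t
    refine ⟨hhMap k (twSeq j ι w F D).f 0 s + y, ?_⟩
    rw [map_add, ← Euler.hhMap_comp, ← σ.comm₁₂, Euler.hhMap_comp, ht, sub_add_cancel]
  intro x
  have h6 : σ.τ₂ ≫ (secondTerm j ι w E D).hom =
      (secondTerm j ι w F D).hom ≫ ((DCoh.tensorBi (X := X)).flip.obj D).map φ :=
    (((DCoh.tensorBi (X := X)).flip.obj D).map_comp _ _).symm.trans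
      ((congrArg ((DCoh.tensorBi (X := X)).flip.obj D).map (FunMor20.tensorUnitLeftIso_natural φ)).trans
        (((DCoh.tensorBi (X := X)).flip.obj D).map_comp _ _))
  obtain ⟨y, hy⟩ := hσ2 (hhMap k (secondTerm j ι w E D).inv 0 x)
  refine ⟨hhMap k (secondTerm j ι w F D).hom 0 y, ?_⟩
  refine (Euler.hhMap_comp (A := k) (secondTerm j ι w F D).hom
    (((DCoh.tensorBi (X := X)).flip.obj D).map φ) 0 y).symm.trans ?_
  refine (congrArg (fun q => hhMap k q 0 y) h6.symm).trans ?_
  rw [Euler.hhMap_comp, hy, ← Euler.hhMap_comp, Iso.inv_hom_id]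
  exact Euler.hhMap_id _ _ _

end Divisor

end GrothLib.ASBun21.HorrocksGen
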