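import Groth.Agent.Lib.ASBun21.RatType
import Groth.Agent.Lib.ASBun21.SplitExt
import Groth.Agent.Lib.GradedAlg.ProjClosed
import Groth.Agent.Lib.ProjPic26.Chart

/-!
# Algebras split by the function field of a Severi-Brauer scheme
-/

set_option autoImplicit false
set_option linter.style.haveILetI false
set_option backward.isDefEq.respectTransparency false
set_option maxHeartbeats 2000000

universe u

open CategoryTheory CategoryTheory.Limits AlgebraicGeometry TopologicalSpace Opposite Matrix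
open scoped TensorProduct

noncomputable section

namespace GrothLib.ASBun21

open GrothLib.BrauerEquiv

/-- Every point of a scheme isomorphic to projective space lies in an affine open with factorial functions. -/
theorem exists_ufd_nhd {K : Type u} [Field K] {n : ℕ} {Y : Scheme.{u}} [IsIntegral Y]
    (ε : Y ≅ CohB1.ProjSpace n K) (y : Y) :
    ∃ V : Y.Opens, IsAffineOpen V ∧ y ∈ V ∧ IsDomain Γ(Y, V) ∧ UniqueFactorizationMonoid Γ(Y, V) := by
  obtain ⟨j, hj⟩ := (Ample.ProjMap.pcoc n K).exists_mem (ε.hom y)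
  let 𝒜 := CohB1.polyGrading n K
  let D := Proj.basicOpen 𝒜 (MvPolynomial.X j.down)
  have hDa : IsAffineOpen D := Proj.isAffineOpen_basicOpen 𝒜 _ (Ample.ProjMap.X_mem j.down) one_pos
  let V := ε.hom ⁻¹ᵁ D
  have hb := GradedAlg.awayToSection_bijective (𝒜 := 𝒜) (MvPolynomial.X j.down) (Ample.ProjMap.X_mem j.down) one_pos
  obtain ⟨_, _⟩ := ProjPic26.isUFD_away (R := K) (n := n) j.down
  haveI : Nonempty V := ⟨⟨y, hj⟩⟩
  let e1 := RingEquiv.ofBijective (Proj.awayToSection 𝒜 (MvPolynomial.X j.down)).hom hb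
  let e2 := RingEquiv.ofBijective (ε.hom.app D).hom (ConcreteCategory.bijective_of_isIso (ε.hom.app D))
  exact ⟨V, hDa.preimage ε.hom, hj, inferInstance, (e1.trans e2).toMulEquiv.uniqueFactorizationMonoid inferInstance⟩

section Module

variable {k : Type u} [Field k] {X : Scheme.{u}} [X.Over (Spec (CommRingCat.of k))] [IsIntegral X]
  [IsProper (X ↘ Spec (CommRingCat.of k))] {K : Type u} [Field K] [Algebra k K] [IsAlgClosure k K] {n : ℕ}

attribute [local instance] Curv2.stalkAlgebra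

/-- An algebra split by the function field acts on an isotypical module of the same multiplicity. -/
theorem exists_module_of_splits (ε : BrSev.Splitting (X ↘ Spec (CommRingCat.of k)) K n)
    {B : Type u} [Ring B] [Algebra k B] [Algebra.IsCentral k B] [IsSimpleRing B] [FiniteDimensional k B] {m : ℕ}
    (hB : Module.finrank k B = (m + 1) * (m + 1)) (hs : Curves.Splits k B X.functionField) :
    ∃ (W : X.Modules) (j : ℤ), FlatMod.IsFinLocFree W ∧ BrSev.IsTwPow ε j (m + 1) W ∧
      Nonempty (B →ₐ[k] End W) := by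
  classical
  haveI : IsAlgClosed K := IsAlgClosure.isAlgClosed k
  obtain ⟨m', hm', ⟨eF⟩⟩ := hs
  have hm : m' = m + 1 := by
    have h := eF.toLinearEquiv.finrank_eq
    rw [Module.finrank_baseChange, hB, Module.finrank_matrix, Fintype.card_fin, Module.finrank_self, mul_one] at h
    exact Nat.mul_self_inj.mp h.symm
  subst hm
  obtain ⟨mK, -, ⟨eK⟩⟩ := CSA.splits_algClosed (k := k) (A := B) K
  have hmK : mK = m + 1 := by
    have h := eK.toLinearEquiv.finrank_eq
    rw [Module.finrank_baseChange, hB, Module.finrank_matrix, Fintype.card_fin, Module.finrank_self, mul_one] at h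
    exact Nat.mul_self_inj.mp h.symm
  subst hmK
  let p := X ↘ Spec (CommRingCat.of k)
  haveI : IsIntegral (CohB1.ProjSpace n K) := ProjDim.isIntegral_proj K n
  haveI : Nonempty (BrSev.bc p K) := ⟨ε.iso.inv (Classical.arbitrary _)⟩
  haveI : IsIntegral (BrSev.bc p K) := isIntegral_of_isOpenImmersion ε.iso.hom
  haveI : Flat (Spec.map (CommRingCat.ofHom (algebraMap k K))) := AlgSp.flat_to_field (k := k) _
  haveI : Surjective (Spec.map (CommRingCat.ofHom (algebraMap k K))) := ⟨fun y => by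
    haveI : Subsingleton (Spec (CommRingCat.of k)) := inferInstanceAs (Subsingleton (PrimeSpectrum k))
    exact ⟨Classical.arbitrary _, Subsingleton.elim _ _⟩⟩
  haveI : Flat (BrSev.proj p K) := MorphismProperty.pullback_fst p _ inferInstance
  haveI : Surjective (BrSev.proj p K) := MorphismProperty.pullback_fst p _ inferInstance
  haveI : QuasiCompact (BrSev.proj p K) := MorphismProperty.pullback_fst p _ inferInstance
  let b := Module.finBasisOfFinrankEq k B hB
  let d := (m + 1) * (m + 1)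
  let F := X.functionField
  let c := coordEquiv b F
  let E₁ : Matrix (Fin (m + 1)) (Fin (m + 1)) F := 1 - Matrix.single 0 0 1
  let g : (Fin d → F) →ₗ[F] (Fin d → F) :=
    c.symm.toLinearMap ∘ₗ eF.symm.toLinearMap ∘ₗ LinearMap.mulRight F E₁ ∘ₗ eF.toLinearMap ∘ₗ c.toLinearMap
  let M := LinearMap.toMatrix' g
  have hMg : ∀ v, M *ᵥ v = g v := fun v => LinearMap.toMatrix'_mulVec g v
  have hM0 : ∀ v, M *ᵥ v = 0 ↔ eF (c v) * E₁ = 0 := fun v => by
    rw [hMg]
    show c.symm (eF.symm (eF (c v) * E₁)) = 0 ↔ _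
    rw [map_eq_zero_iff _ c.symm.injective, map_eq_zero_iff _ eF.symm.injective]
  have hM : ∀ (a : B) (v : Fin d → F), M *ᵥ v = 0 →
      M *ᵥ ((Algebra.leftMulMatrix b a).map (algebraMap k F) *ᵥ v) = 0 := fun a v hv => by
    rw [hM0] at hv ⊢
    rw [coord_leftMul, map_mul, mul_assoc, hv, mul_zero]
  let f : (Fin (m + 1) → F) →ₗ[F] (Fin d → F) :=
    { toFun := fun u => c.symm (eF.symm (Matrix.vecMulVec u (Pi.single 0 1)))
      map_add' := fun u u' => by rw [← map_add, ← map_add, Matrix.add_vecMulVec]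
      map_smul' := fun a u => by rw [RingHom.id_apply, ← map_smul, ← map_smul, Matrix.smul_vecMulVec] }
  have hfi : Function.Injective f := fun u u' h => by
    funext x
    have h1 := congrFun (congrFun (eF.symm.injective (c.symm.injective h)) x) 0
    simpa [Matrix.vecMulVec_apply] using h1
  have hker : LinearMap.ker M.mulVecLin = LinearMap.range f := by
    ext v
    rw [LinearMap.mem_ker, Matrix.mulVecLin_apply, hM0, LinearMap.mem_range]
    constructor
    · intro h
      refine ⟨fun i => eF (c v) i 0, ?_⟩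
      show c.symm (eF.symm _) = v
      rw [LinearEquiv.symm_apply_eq, ← eF.injective.eq_iff, AlgEquiv.apply_symm_apply]
      ext i l
      rw [show eF (c v) * E₁ = eF (c v) - eF (c v) * Matrix.single 0 0 1 by rw [mul_sub, mul_one]] at h
      have h1 := congrFun (congrFun h i) l
      simp [Matrix.mul_apply, Matrix.single_apply] at h1
      simp [Matrix.vecMulVec_apply, Pi.single_apply]
      by_cases hl : l = 0
      · subst hl; simp
      · simp [hl, Ne.symm hl] at h1 ⊢
        exact h1.symm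
    · rintro ⟨u, rfl⟩
      show eF (c (c.symm (eF.symm _))) * E₁ = 0
      rw [LinearEquiv.apply_symm_apply, AlgEquiv.apply_symm_apply]
      ext i l
      simp [E₁, mul_sub, Matrix.mul_apply, Matrix.vecMulVec_apply, Matrix.single_apply, Pi.single_apply]
      by_cases hl : l = 0
      · subst hl; simp
      · simp [hl, Ne.symm hl]
  have hMd : Module.finrank F (LinearMap.ker M.mulVecLin) = m + 1 := by
    rw [hker, LinearMap.finrank_range_of_inj hfi, Module.finrank_fin_fun]
  obtain ⟨r, i₀, hr, ⟨φ⟩⟩ := exists_iso_line eK b (BrSev.proj p K) (BrSev.bcTo p K) pullback.condition M hM hMd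
  have hL := isInvertible_line hr (exists_ufd_nhd ε.iso)
  obtain ⟨j, ⟨t⟩⟩ := exists_iso_twist ε hL
  haveI := isQuasicoherent_rker M
  have hP : FlatMod.IsFinLocFree ((Scheme.Modules.pullback (BrSev.proj p K)).obj (rker M)) :=
    DCoh.isFinLocFree_of_iso φ.symm (OX.isFinLocFree_sigma _ fun _ => Euler.isFinLocFree_of_isInvertible hL)
  exact ⟨rker M, j, FTDesc.isFinLocFree_of_pullback (BrSev.proj p K) (rker M) hP (Euler.isCoh_of_isFinLocFree hP).2,
    ⟨φ ≪≫ Sigma.mapIso fun _ => t⟩, ⟨rkerAct M (Algebra.leftMulMatrix b) hM⟩⟩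

omit [IsIntegral X] in
/-- Algebras of maximal dimension acting on modules of the same type are Brauer equivalent. -/
theorem beq_of_actions (ε : BrSev.Splitting (X ↘ Spec (CommRingCat.of k)) K n) {j : ℤ}
    {T₁ T₂ : X.Modules} (h₁ : FlatMod.IsFinLocFree T₁) (h₂ : FlatMod.IsFinLocFree T₂) {N₁ N₂ : ℕ}
    (hN₁ : N₁ ≠ 0) (hN₂ : N₂ ≠ 0) (t₁ : BrSev.IsTwPow ε j N₁ T₁) (t₂ : BrSev.IsTwPow ε j N₂ T₂)
    {B₁ B₂ : Type u} [Ring B₁] [Algebra k B₁] [IsSimpleRing B₁] [FiniteDimensional k B₁]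
    [Ring B₂] [Algebra k B₂] [IsSimpleRing B₂] [FiniteDimensional k B₂]
    (hB₁ : Module.finrank k B₁ = N₁ * N₁) (hB₂ : Module.finrank k B₂ = N₂ * N₂)
    (σ₁ : B₁ →ₐ[k] End T₁) (σ₂ : B₂ →ₐ[k] End T₂) : BEq k B₁ B₂ := by
  haveI : Algebra.IsAlgebraic k K := IsAlgClosure.isAlgebraic
  haveI : IsAlgClosed K := IsAlgClosure.isAlgClosed k
  let p := X ↘ Spec (CommRingCat.of k)
  haveI := Euler.isNoetherian_of_proper (X := X) k
  letI := overBC p K
  haveI : IsProper ((BrSev.bc p K) ↘ Spec (CommRingCat.of K)) :=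
    MorphismProperty.pullback_snd p _ (inferInstance : IsProper p)
  haveI : IsIntegral (CohB1.ProjSpace n K) := ProjDim.isIntegral_proj K n
  haveI : Nonempty (BrSev.bc p K) := ⟨ε.iso.inv (Classical.arbitrary _)⟩
  haveI : IsIntegral (BrSev.bc p K) := isIntegral_of_isOpenImmersion ε.iso.hom
  let L := ε.twist j
  have hL := isInvertible_twist ε j
  have hL0 : ¬ IsZero L := not_isZero_of_isInvertible hL
  have hLs : ∀ φ : L ⟶ L, ∃ c : K, φ = c • 𝟙 L := exists_eq_smul (K := K) hL
  have key : ∀ {T : X.Modules} {N : ℕ}, FlatMod.IsFinLocFree T → BrSev.IsTwPow ε j N T → N ≠ 0 →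
      ∀ {C : Type u} [Ring C] [Algebra k C] [IsSimpleRing C] [FiniteDimensional k C],
      Module.finrank k C = N * N → ∀ σ : C →ₐ[k] End T, Nonempty (C ≃ₐ[k] End T) := by
    intro T N hT ⟨iT⟩ hN C _ _ _ _ hC σ
    have hTc := Euler.isCoh_of_isFinLocFree hT
    haveI := finite_hom k hTc hTc
    have hdT : Module.finrank k (T ⟶ T) = N * N := by
      rw [finrank_hom_bc p K hTc hTc, ← finrank_end_pow K hL0 hLs N]
      exact (endCongr K iT).toLinearEquiv.finrank_eq
    haveI : Nontrivial (End T) := Module.nontrivial_of_finrank_pos (R := k)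
      (show 0 < Module.finrank k (T ⟶ T) by rw [hdT]; positivity)
    haveI : FiniteDimensional k (End T) := inferInstanceAs (FiniteDimensional k (T ⟶ T))
    have hinj : Function.Injective σ := σ.toRingHom.injective
    exact ⟨AlgEquiv.ofBijective σ ⟨hinj, (LinearMap.injective_iff_surjective_of_finrank_eq_finrank
      (f := σ.toLinearMap) (hC.trans hdT.symm)).1 hinj⟩⟩
  obtain ⟨e₁⟩ := key h₁ t₁ hN₁ hB₁ σ₁
  obtain ⟨e₂⟩ := key h₂ t₂ hN₂ hB₂ σ₂
  obtain ⟨i₁⟩ := t₁
  obtain ⟨i₂⟩ := t₂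
  let Φ := Scheme.Modules.pullback (BrSev.proj p K)
  haveI : PreservesColimitsOfSize.{0, 0} Φ := preservesColimitsOfSize_shrink.{0, u, 0, u} _
  have flat : ∀ (a b : ℕ), (∐ fun _ : Fin a => ∐ fun _ : Fin b => L) ≅ ∐ fun _ : Fin (a * b) => L := fun a b =>
    sigmaSigmaIso (fun _ : Fin a => Fin b) (fun _ _ => L) ≪≫
      Sigma.whiskerEquiv ((Equiv.sigmaEquivProd (Fin a) (Fin b)).trans finProdFinEquiv)
        (g := fun _ : Fin (a * b) => L) (fun _ => Iso.refl _)
  obtain ⟨α⟩ := nonempty_iso_of_bc p K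
    (Euler.isCoh_of_isFinLocFree (OX.isFinLocFree_sigma (fun _ : Fin N₂ => T₁) fun _ => h₁))
    (Euler.isCoh_of_isFinLocFree (OX.isFinLocFree_sigma (fun _ : Fin N₁ => T₂) fun _ => h₂))
    (PreservesCoproduct.iso Φ _ ≪≫ Sigma.mapIso (fun _ => i₁) ≪≫ flat N₂ N₁ ≪≫
      eqToIso (by rw [mul_comm]) ≪≫ (flat N₁ N₂).symm ≪≫ (Sigma.mapIso fun _ => i₂).symm ≪≫
      (PreservesCoproduct.iso Φ _).symm)
  exact ⟨N₂, N₁, hN₂, hN₁, ⟨e₁.mapMatrix.trans ((endPowEquiv k T₁ N₂).symm.trans
    ((endCongr k α).trans ((endPowEquiv k T₂ N₁).trans e₂.symm.mapMatrix)))⟩⟩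

/-- **Amitsur's theorem**: the algebras split by the function field are powers of the algebra. -/
theorem exists_beq_tpow_of_splits {A : Type u} [Ring A] [Algebra k A] [Algebra.IsCentral k A] [IsSimpleRing A]
    {nA : ℕ} (hn : 0 < nA) (hA : Module.finrank k A = nA * nA)
    (hX : BrSev.IsSBOf k A (nA * nA - nA) (X ↘ Spec (CommRingCat.of k)))
    (ε : BrSev.Splitting (X ↘ Spec (CommRingCat.of k)) K (nA - 1))
    (B : Type u) [Ring B] [Algebra k B] [Algebra.IsCentral k B] [IsSimpleRing B] [FiniteDimensional k B]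
    (hs : Curves.Splits k B X.functionField) : ∃ i : ℕ, BEq k B (CSAGal.tpow k A i) := by
  haveI : FiniteDimensional k A := Module.finite_of_finrank_pos (hA ▸ Nat.mul_pos hn hn)
  obtain ⟨m₀, hm₀⟩ := CSA.finrank_isSquare k B
  obtain ⟨m, rfl⟩ : ∃ m, m₀ = m + 1 := Nat.exists_eq_succ_of_ne_zero fun h => by
    have := Module.finrank_pos (R := k) (M := B)
    rw [hm₀, h] at this
    simp at this
  obtain ⟨W, j, hW, hWt, ⟨σ⟩⟩ := exists_module_of_splits ε hm₀ hs
  -- an invertible twist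
  obtain ⟨d, hd⟩ := exists_isIndex (k := k) A
  obtain ⟨c, hc⟩ := index_dvd_degree hd (hA.trans (sq nA).symm)
  have hn' : BEq k (CSAGal.tpow k A nA) k := hc ▸ beq_tpow_mul (beq_tpow_index hd) c
  obtain ⟨L, rL, hL, hLi, hrL, hLt⟩ := exists_indec_twPow ε (-((j.natAbs * nA : ℕ) : ℤ))
  have hidx := isIndex_of_isTwPow hn hA hX ε _ hL hLi hrL hLt
  obtain rfl := index_tpow_eq_one (by
    rw [Int.natAbs_neg, Int.natAbs_natCast, mul_comm]
    exact beq_tpow_mul hn' _) hidx
  obtain ⟨i, hi⟩ : ∃ i : ℕ, j + -((j.natAbs * nA : ℕ) : ℤ) = -(i : ℤ) := by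
    refine ⟨((j.natAbs * nA : ℕ) - j : ℤ).toNat, ?_⟩
    have h1 : j.natAbs ≤ j.natAbs * nA := Nat.le_mul_of_pos_right _ hn
    have h2 : j ≤ (j.natAbs : ℤ) := Int.le_natAbs
    have h3 : (j.natAbs : ℤ) ≤ ((j.natAbs * nA : ℕ) : ℤ) := Int.ofNat_le.2 h1
    rw [Int.toNat_of_nonneg (by omega)]
    ring
  obtain ⟨T, hT, hTt, ⟨τ⟩⟩ := exists_tpow_taut hn hA hX ε i
  have hWL := isTwPow_tensor ε hWt hLt
  rw [hi, mul_one] at hWL
  obtain ⟨_, _, _⟩ := csa_tpow (k := k) A i
  exact ⟨i, beq_of_actions ε (OX.isFinLocFree_tensor hW hL) hT (Nat.succ_ne_zero m) (pow_ne_zero _ hn.ne') hWL hTt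
    hm₀ (by rw [finrank_tpow, hA, mul_pow]) ((endTensorLeft k W L).comp σ) τ⟩

end Module

end GrothLib.ASBun21
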