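import Groth.Agent.S14209
import Groth.Agent.S14220
import Groth.Agent.Lib.ProjDim.Const
import Groth.Agent.Lib.FlatFactor.OrbitImmersion
import Groth.Agent.Lib.SpreadLfp9.Birational

/-!
# Birational Severi-Brauer schemes
-/

set_option autoImplicit false
set_option linter.style.haveILetI false
set_option backward.isDefEq.respectTransparency false
set_option maxHeartbeats 2000000

universe u

open CategoryTheory CategoryTheory.Limits AlgebraicGeometry
open scoped TensorProduct

noncomputable section

namespace GrothLib.ASBun21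

variable {k : Type u} [Field k]

/-- A scheme split by some extension is integral. -/
theorem isIntegral_of_splitting {X : Scheme.{u}} {p : X ⟶ Spec (CommRingCat.of k)} {K : Type u} [Field K]
    [Algebra k K] {n : ℕ} (e : BrSev.Splitting p K n) : IsIntegral X := by
  let b := Spec.map (CommRingCat.ofHom (algebraMap k K))
  haveI : Flat b := AlgSp.flat_to_field (k := k) _
  haveI : Surjective b := ⟨fun y => by
    haveI : Subsingleton (Spec (CommRingCat.of k)) := inferInstanceAs (Subsingleton (PrimeSpectrum k))
    exact ⟨Classical.arbitrary _, Subsingleton.elim _ _⟩⟩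
  haveI : Surjective (BrSev.proj p K) :=
    MorphismProperty.of_isPullback (IsPullback.of_hasPullback p b).flip (inferInstanceAs (Surjective b))
  haveI : Flat (BrSev.proj p K) :=
    MorphismProperty.of_isPullback (IsPullback.of_hasPullback p b).flip (inferInstanceAs (Flat b))
  haveI : IsIntegral (CohB1.ProjSpace n K) := GrothLib.ProjDim.isIntegral_proj K n
  haveI : Nonempty (BrSev.bc p K) := ⟨e.iso.inv (Classical.arbitrary _)⟩
  haveI : IsIntegral (BrSev.bc p K) := isIntegral_of_isOpenImmersion e.iso.hom
  haveI : IsReduced X := GrothLib.FlatFactor.isReduced_of_flat_surjective (BrSev.proj p K)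
  haveI : IrreducibleSpace X :=
    { isPreirreducible_univ := by
        rw [← Set.range_eq_univ.2 (BrSev.proj p K).surjective, ← Set.image_univ]
        exact (PreirreducibleSpace.isPreirreducible_univ (X := BrSev.bc p K)).image _
          (BrSev.proj p K).continuous.continuousOn
      toNonempty := ⟨BrSev.proj p K (Classical.arbitrary _)⟩ }
  exact isIntegral_of_irreducibleSpace_of_isReduced X

attribute [local instance] Curv2.stalkAlgebra in
theorem fromSpecStalk_generic_comp {X : Scheme.{u}} [X.Over (Spec (CommRingCat.of k))] [IsIntegral X] :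
    X.fromSpecStalk (genericPoint X) ≫ (X ↘ Spec (CommRingCat.of k)) =
      Spec.map (CommRingCat.ofHom (algebraMap k X.functionField)) := by
  refine ext_of_isAffine ?_
  rw [Scheme.Hom.comp_appTop, Scheme.fromSpecStalk_appTop]
  refine (cancel_epi (Scheme.ΓSpecIso (CommRingCat.of k)).inv).1 ?_
  rw [← Scheme.ΓSpecIso_inv_naturality (CommRingCat.ofHom (algebraMap k X.functionField))]
  rfl

attribute [local instance] Curv2.stalkAlgebra in
/-- Birational integral schemes have isomorphic function fields over the base field. -/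
theorem nonempty_algEquiv_functionField {X Y : Scheme.{u}} [X.Over (Spec (CommRingCat.of k))]
    [Y.Over (Spec (CommRingCat.of k))] [IsIntegral X] [IsIntegral Y]
    (h : Scheme.BirationalOver (X ↘ Spec (CommRingCat.of k)) (Y ↘ Spec (CommRingCat.of k))) :
    Nonempty (X.functionField ≃ₐ[k] Y.functionField) := by
  obtain ⟨hs, e, he⟩ := GrothLib.SpreadLfp9.exists_iso_of_birationalOver _ _ h
  have h2 := (GrothLib.SpreadLfp9.stalk_compat_iff _ _ hs e.hom).1 he
  rw [fromSpecStalk_generic_comp, fromSpecStalk_generic_comp, ← Spec.map_comp] at h2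
  refine ⟨AlgEquiv.ofRingEquiv (f := e.commRingCatIsoToRingEquiv) fun c => ?_⟩
  exact congr(($(Spec.map_injective h2)).hom c)

attribute [local instance] Curv2.stalkAlgebra in
/-- An algebra split by the function field of a birational Severi-Brauer scheme. -/
theorem exists_beq_tpow_of_birational {A B : Type u} [Ring A] [Algebra k A] [Algebra.IsCentral k A]
    [IsSimpleRing A] [Ring B] [Algebra k B] [Algebra.IsCentral k B] [IsSimpleRing B]
    {n m : ℕ} (hn : 0 < n) (hm : 0 < m) (hA : Module.finrank k A = n * n) (hB : Module.finrank k B = m * m)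
    {X Y : Scheme.{u}} (f : X ⟶ Spec (CommRingCat.of k)) (g : Y ⟶ Spec (CommRingCat.of k))
    (hX : BrSev.IsSBOf k A (n * n - n) f) (hY : BrSev.IsSBOf k B (m * m - m) g)
    (hb : Scheme.BirationalOver f g) :
    ∃ i, GrothLib.BrauerEquiv.BEq k B (CSAGal.tpow k A i) := by
  haveI : FiniteDimensional k A := Module.finite_of_finrank_pos (hA ▸ Nat.mul_pos hn hn)
  haveI : FiniteDimensional k B := Module.finite_of_finrank_pos (hB ▸ Nat.mul_pos hm hm)
  obtain ⟨K, hKF, hKA, -, -, ⟨e⟩⟩ := Groth.Agent.S14209.result k A n hn hA f hX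
  obtain ⟨L, hLF, hLA, -, -, ⟨e'⟩⟩ := Groth.Agent.S14209.result k B m hm hB g hY
  letI : X.Over (Spec (CommRingCat.of k)) := ⟨f⟩
  letI : Y.Over (Spec (CommRingCat.of k)) := ⟨g⟩
  haveI : IsIntegral X := @isIntegral_of_splitting k _ X f K hKF hKA _ e
  haveI : IsIntegral Y := @isIntegral_of_splitting k _ Y g L hLF hLA _ e'
  obtain ⟨ψ⟩ := nonempty_algEquiv_functionField (k := k) (X := X) (Y := Y) hb
  have h1 : Curves.Splits k B Y.functionField := (Groth.Agent.S14220.result k B m hm hB Y hY B).2
    ⟨1, (GrothLib.BrauerEquiv.beq_tpow_one (k := k) (A := B)).symm⟩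
  obtain ⟨i, p, q, hp, hq, φ⟩ :=
    (Groth.Agent.S14220.result k A n hn hA X hX B).1 (GrothLib.CSA.splits_mono ψ.symm.toAlgHom h1)
  exact ⟨i, p, q, hp, hq, φ⟩

end GrothLib.ASBun21
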