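import Groth.Agent.S9680
import Groth.Agent.Lib.ASBun21.Birational
import Groth.Agent.Lib.SBAut21.SplitBC
import Groth.Agent.Lib.ProjPic26.Chart
import Groth.Agent.Lib.ProjDim.Const
import Groth.Agent.Lib.AlgSp.FieldBase
import Mathlib.AlgebraicGeometry.Geometrically.Integral
import Mathlib.Algebra.MvPolynomial.Equiv

/-!
# Stable birationality of Severi-Brauer schemes
-/

set_option autoImplicit false
set_option linter.style.haveILetI false
set_option backward.isDefEq.respectTransparency false
set_option maxHeartbeats 2000000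

universe u

open CategoryTheory CategoryTheory.Limits AlgebraicGeometry
open scoped TensorProduct

noncomputable section

namespace GrothLib.ASBun21

section Integral

/-- Integrality descends along flat surjections. -/
theorem isIntegral_of_flat_surjective {A B : Scheme.{u}} (f : A ⟶ B) [Flat f] [Surjective f]
    [IsIntegral A] : IsIntegral B := by
  haveI : IsReduced B := GrothLib.FlatFactor.isReduced_of_flat_surjective f
  haveI : IrreducibleSpace B :=
    { isPreirreducible_univ := by
        rw [← Set.range_eq_univ.2 f.surjective, ← Set.image_univ]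
        exact (PreirreducibleSpace.isPreirreducible_univ (X := A)).image _ f.continuous.continuousOn
      toNonempty := ⟨f (Classical.arbitrary _)⟩ }
  exact isIntegral_of_irreducibleSpace_of_isReduced B

variable {k : Type u} [Field k]

/-- A split scheme over a field is geometrically integral. -/
theorem geometricallyIntegral_of_splitting {X : Scheme.{u}} {p : X ⟶ Spec (CommRingCat.of k)} {K : Type u} [Field K]
    [Algebra k K] {n : ℕ} (e : BrSev.Splitting p K n) : GeometricallyIntegral p := by
  refine ⟨geometrically_iff_of_commRing.2 ?_⟩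
  intro L _ _ Z fst snd h
  obtain ⟨M, hM⟩ := Ideal.exists_maximal (L ⊗[k] K)
  let L' := (L ⊗[k] K) ⧸ M
  letI : Field L' := Ideal.Quotient.field M
  letI : Algebra K L' := ((Ideal.Quotient.mk M).comp
    (Algebra.TensorProduct.includeRight (R := k) (A := L) (B := K)).toRingHom).toAlgebra
  haveI : IsScalarTower k K L' := IsScalarTower.of_algebraMap_eq fun c => by
    show Ideal.Quotient.mk M (algebraMap k (L ⊗[k] K) c) = Ideal.Quotient.mk M _
    exact congrArg _ ((Algebra.TensorProduct.includeRight (R := k) (A := L) (B := K)).commutes c).symm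
  obtain ⟨ε, -, -, -⟩ := exists_splitting_ext e L'
  let c := Spec.map (CommRingCat.ofHom (algebraMap L L'))
  have hc : c ≫ Spec.map (CommRingCat.ofHom (algebraMap k L)) = Spec.map (CommRingCat.ofHom (algebraMap k L')) :=
    (Spec.map_comp _ _).symm.trans (congrArg Spec.map (CommRingCat.hom_ext (IsScalarTower.algebraMap_eq k L L').symm))
  let ψ : BrSev.bc p L' ⟶ Z := h.lift (BrSev.proj p L') (BrSev.bcTo p L' ≫ c)
    (by rw [Category.assoc, hc]; exact pullback.condition)
  have h1 : IsPullback ψ (BrSev.bcTo p L') snd c := by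
    refine IsPullback.of_right ?_ (h.lift_snd _ _ _) h
    rw [h.lift_fst, hc]
    exact IsPullback.of_hasPullback _ _
  haveI : Flat c := AlgSp.flat_to_field (k := L) _
  haveI : Surjective c := ⟨fun y => by
    haveI : Subsingleton (Spec (CommRingCat.of L)) := inferInstanceAs (Subsingleton (PrimeSpectrum L))
    exact ⟨Classical.arbitrary _, Subsingleton.elim _ _⟩⟩
  haveI : Surjective ψ := MorphismProperty.of_isPullback h1.flip (inferInstanceAs (Surjective c))
  haveI : Flat ψ := MorphismProperty.of_isPullback h1.flip (inferInstanceAs (Flat c))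
  haveI : IsIntegral (CohB1.ProjSpace n L') := GrothLib.ProjDim.isIntegral_proj L' n
  haveI : Nonempty (BrSev.bc p L') := ⟨ε.iso.inv (Classical.arbitrary _)⟩
  haveI : IsIntegral (BrSev.bc p L') := isIntegral_of_isOpenImmersion ε.iso.hom
  exact isIntegral_of_flat_surjective ψ

/-- Projective space is split. -/
theorem nonempty_splitting_projSpace (n : ℕ) (K : Type u) [Field K] [Algebra k K] :
    Nonempty (BrSev.Splitting (CohB1.ProjSpace.toSpec n k) K n) := by
  have h := (IsPullback.of_hasPullback (CohB1.ProjSpace.toSpec n k)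
    (Spec.map (CommRingCat.ofHom (algebraMap k K)))).paste_horiz (ProjPic26.isPullback_chi n k)
  rw [show Spec.map (CommRingCat.ofHom (algebraMap k K)) ≫ specULiftZIsTerminal.from (Spec (CommRingCat.of k)) =
    specULiftZIsTerminal.from _ from specULiftZIsTerminal.hom_ext _ _] at h
  exact ⟨⟨h.isoIsPullback _ _ (ProjPic26.isPullback_chi n K), IsPullback.isoIsPullback_hom_snd _ _ _ _⟩⟩

end Integral

section Points

theorem map_genericPoint_of_mem_range {W Z : Scheme.{u}} [IrreducibleSpace W] [IrreducibleSpace Z] (h : W ⟶ Z)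
    (hη : genericPoint Z ∈ Set.range h) : h (genericPoint W) = genericPoint Z := by
  obtain ⟨w, hw⟩ := hη
  have h1 : h (genericPoint W) ⤳ genericPoint Z := hw ▸ (genericPoint_specializes w).map h.continuous
  exact (h1.antisymm (genericPoint_specializes _)).eq

/-- A preimmersed point over the generic point is the function field. -/
theorem exists_iso_of_point {Z : Scheme.{u}} [IsIntegral Z] {L : Type u} [Field L]
    (j : Spec (CommRingCat.of L) ⟶ Z) [IsPreimmersion j] (hη : genericPoint Z ∈ Set.range j) :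
    ∃ e : CommRingCat.of Z.functionField ≅ CommRingCat.of L,
      Spec.map e.hom ≫ Z.fromSpecStalk (genericPoint Z) = j := by
  have hpt : j (IsLocalRing.closedPoint L) = genericPoint Z := by
    obtain ⟨w, hw⟩ := hη
    haveI : Subsingleton (Spec (CommRingCat.of L)) := inferInstanceAs (Subsingleton (PrimeSpectrum L))
    rw [← hw, Subsingleton.elim w (IsLocalRing.closedPoint L)]
  let φ : CommRingCat.of Z.functionField ⟶ CommRingCat.of L :=
    eqToHom (congrArg Z.presheaf.stalk hpt.symm) ≫ Scheme.stalkClosedPointTo j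
  have hφ : Spec.map φ ≫ Z.fromSpecStalk (genericPoint Z) = j := by
    rw [Spec.map_comp, Category.assoc, GrothLib.SpreadLfp9.specMap_eqToHom_fromSpecStalk _ hpt.symm,
      Scheme.Spec_stalkClosedPointTo_fromSpecStalk]
  have hs : Function.Surjective (Scheme.stalkClosedPointTo j) :=
    (ConcreteCategory.bijective_of_isIso (stalkClosedPointIso (CommRingCat.of L)).hom).surjective.comp
      (j.stalkMap_surjective (IsLocalRing.closedPoint L))
  haveI : IsIso φ := by
    rw [ConcreteCategory.isIso_iff_bijective]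
    refine ⟨φ.hom.injective, ?_⟩
    exact hs.comp (ConcreteCategory.bijective_of_isIso (eqToHom (congrArg Z.presheaf.stalk hpt.symm))).surjective
  exact ⟨asIso φ, hφ⟩

end Points

section Fields

variable {k : Type u} [Field k]

/-- The field of rational functions in several variables. -/
abbrev RatFld (a : ℕ) (F : Type u) [Field F] : Type u := FractionRing (MvPolynomial (Fin a) F)

theorem exists_fractionRing_polynomial {R E : Type u} [CommRing R] [IsDomain R] [Field E] [Algebra R E]
    [IsFractionRing R E] [Algebra k R] [Algebra k E] [IsScalarTower k R E] :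
    Nonempty (FractionRing (Polynomial R) ≃ₐ[k] FractionRing (Polynomial E)) := by
  let ψ : Polynomial R →ₐ[k] FractionRing (Polynomial E) :=
    (IsScalarTower.toAlgHom k (Polynomial E) (FractionRing (Polynomial E))).comp
      (Polynomial.mapAlgHom (IsScalarTower.toAlgHom k R E))
  have hψ : Function.Injective ψ := fun a b h => Polynomial.map_injective (algebraMap R E)
    (IsFractionRing.injective R E) (IsFractionRing.injective (Polynomial E) (FractionRing (Polynomial E)) h)
  let φ : FractionRing (Polynomial R) →ₐ[k] FractionRing (Polynomial E) :=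
    IsFractionRing.liftAlgHom (K := FractionRing (Polynomial R)) (g := ψ) hψ
  have hφ : ∀ P, φ (algebraMap (Polynomial R) _ P) = ψ P := fun P => IsFractionRing.lift_algebraMap hψ P
  let S := φ.toRingHom.fieldRange
  have hR : ∀ r : R, algebraMap (Polynomial E) _ (Polynomial.C (algebraMap R E r)) ∈ S := fun r =>
    ⟨algebraMap _ _ (Polynomial.C r), (hφ _).trans (by simp [ψ])⟩
  have hX : algebraMap (Polynomial E) _ Polynomial.X ∈ S :=
    ⟨algebraMap _ _ Polynomial.X, (hφ _).trans (by simp [ψ])⟩
  have hC : ∀ x : E, algebraMap (Polynomial E) _ (Polynomial.C x) ∈ S := fun x => by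
    obtain ⟨a, b, -, rfl⟩ := IsFractionRing.div_surjective (A := R) x
    have : algebraMap (Polynomial E) (FractionRing (Polynomial E)) (Polynomial.C (algebraMap R E a / algebraMap R E b)) =
        algebraMap _ _ (Polynomial.C (algebraMap R E a)) / algebraMap _ _ (Polynomial.C (algebraMap R E b)) :=
      map_div₀ ((algebraMap (Polynomial E) (FractionRing (Polynomial E))).comp Polynomial.C) _ _
    rw [this]
    exact div_mem (hR a) (hR b)
  have hP : ∀ P : Polynomial E, algebraMap (Polynomial E) _ P ∈ S := fun P => by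
    induction P using Polynomial.induction_on with
    | C x => exact hC x
    | add p q hp hq => rw [map_add]; exact add_mem hp hq
    | monomial n x h => rw [pow_succ, ← mul_assoc, map_mul]; exact mul_mem h hX
  refine ⟨AlgEquiv.ofBijective φ ⟨φ.toRingHom.injective, fun z => ?_⟩⟩
  obtain ⟨a, b, -, rfl⟩ := IsFractionRing.div_surjective (A := Polynomial E) z
  exact div_mem (hP a) (hP b)

theorem ratFld_succ (a : ℕ) (F : Type u) [Field F] [Algebra k F] :
    Nonempty (RatFld (a + 1) F ≃ₐ[k] FractionRing (Polynomial (RatFld a F))) := by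
  obtain ⟨e⟩ := exists_fractionRing_polynomial (k := k) (R := MvPolynomial (Fin a) F) (E := RatFld a F)
  exact ⟨(IsFractionRing.algEquivOfAlgEquiv ((MvPolynomial.finSuccEquiv F a).restrictScalars k)).trans e⟩

/-- Adjoining one more variable to two isomorphic fields of rational functions. -/
theorem ratFld_congr_succ {a b : ℕ} {F G : Type u} [Field F] [Algebra k F] [Field G] [Algebra k G]
    (e : RatFld a F ≃ₐ[k] RatFld b G) : Nonempty (RatFld (a + 1) F ≃ₐ[k] RatFld (b + 1) G) := by
  obtain ⟨e1⟩ := ratFld_succ (k := k) a F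
  obtain ⟨e2⟩ := ratFld_succ (k := k) b G
  exact ⟨e1.trans ((IsFractionRing.algEquivOfAlgEquiv (Polynomial.mapAlgEquiv e)).trans e2.symm)⟩

end Fields

section Product

variable {k : Type u} [Field k]

/-- The preimmersed point of projective space given by the rational functions. -/
theorem exists_projSpace_point (a : ℕ) (F : Type u) [Field F] :
    ∃ j : Spec (CommRingCat.of (RatFld a F)) ⟶ CohB1.ProjSpace a F, IsPreimmersion j ∧
      j ≫ CohB1.ProjSpace.toSpec a F = Spec.map (CommRingCat.ofHom (algebraMap F (RatFld a F))) ∧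
      ∀ [IsIntegral (CohB1.ProjSpace a F)], genericPoint (CohB1.ProjSpace a F) ∈ Set.range j := by
  let P := CohB1.polyGrading a F
  let e := RingEquiv.ofBijective _ (ProjPic26.affChart_bijective (R := F) (n := a) 0)
  let ι : Spec (CommRingCat.of (MvPolynomial (Fin a) F)) ⟶ CohB1.ProjSpace a F :=
    Spec.map e.toCommRingCatIso.inv ≫ Proj.awayι P (MvPolynomial.X 0) (Ample.ProjMap.X_mem 0) one_pos
  haveI : IsIntegral (Spec (CommRingCat.of (MvPolynomial (Fin a) F))) := inferInstance
  let g := Spec.map (CommRingCat.ofHom (algebraMap (MvPolynomial (Fin a) F) (RatFld a F)))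
  haveI : IsPreimmersion g := IsPreimmersion.of_isLocalization (nonZeroDivisors (MvPolynomial (Fin a) F))
  refine ⟨g ≫ ι, inferInstance, ?_, ?_⟩
  · rw [Category.assoc, Category.assoc, Ample.ProjMap.awayι_toSpec, ← Spec.map_comp, ← Spec.map_comp]
    refine congrArg Spec.map (CommRingCat.hom_ext (RingHom.ext fun c => ?_))
    show algebraMap (MvPolynomial (Fin a) F) (RatFld a F) (e.symm (Ample.ProjMap.cst (MvPolynomial.X 0) c)) =
      algebraMap F (RatFld a F) c
    rw [IsScalarTower.algebraMap_apply F (MvPolynomial (Fin a) F) (RatFld a F)]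
    refine congrArg _ ((RingEquiv.symm_apply_eq e).2 ?_)
    simp [e, ProjPic26.affChart]
  · intro _
    refine ⟨IsLocalRing.closedPoint (RatFld a F), ?_⟩
    rw [Scheme.Hom.comp_apply]
    have h1 : g (IsLocalRing.closedPoint (RatFld a F)) =
        genericPoint (Spec (CommRingCat.of (MvPolynomial (Fin a) F))) := by
      rw [genericPoint_eq_bot_of_affine]
      refine PrimeSpectrum.ext ?_
      show Ideal.comap _ (IsLocalRing.maximalIdeal (RatFld a F)) = ⊥
      rw [IsLocalRing.maximalIdeal_eq_bot, ← RingHom.ker_eq_comap_bot]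
      exact (RingHom.injective_iff_ker_eq_bot _).1 (IsFractionRing.injective _ _)
    rw [h1]
    exact genericPoint_eq_of_isOpenImmersion ι

/-- The function field of a product with a scheme becoming projective space over the first function field. -/
theorem exists_product_point {X Y : Scheme.{u}} (f : X ⟶ Spec (CommRingCat.of k)) (g : Y ⟶ Spec (CommRingCat.of k))
    [IsIntegral X] [IsIntegral (pullback f g)] [Surjective (pullback.fst f g)] {F : Type u} [Field F] [Algebra k F]
    (j₀ : Spec (CommRingCat.of F) ⟶ X) [IsPreimmersion j₀] (hη : genericPoint X ∈ Set.range j₀)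
    (hj₀ : j₀ ≫ f = Spec.map (CommRingCat.ofHom (algebraMap k F))) {a : ℕ} (e : BrSev.Splitting g F a) :
    ∃ j : Spec (CommRingCat.of (RatFld a F)) ⟶ pullback f g, IsPreimmersion j ∧
      genericPoint (pullback f g : Scheme.{u}) ∈ Set.range j ∧
      j ≫ pullback.fst f g ≫ f = Spec.map (CommRingCat.ofHom (algebraMap k (RatFld a F))) := by
  let θ : BrSev.bc g F ⟶ pullback f g := pullback.lift (BrSev.bcTo g F ≫ j₀) (BrSev.proj g F)
    (by rw [Category.assoc, hj₀]; exact pullback.condition.symm)
  have h1 : IsPullback θ (BrSev.bcTo g F) (pullback.fst f g) j₀ := by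
    refine IsPullback.of_right ?_ (pullback.lift_fst _ _ _) (IsPullback.of_hasPullback f g).flip
    rw [pullback.lift_snd, hj₀]
    exact IsPullback.of_hasPullback _ _
  haveI : IsPreimmersion θ := MorphismProperty.of_isPullback h1.flip (inferInstanceAs (IsPreimmersion j₀))
  haveI : IsIntegral (CohB1.ProjSpace a F) := GrothLib.ProjDim.isIntegral_proj F a
  haveI : Nonempty (BrSev.bc g F) := ⟨e.iso.inv (Classical.arbitrary _)⟩
  haveI : IsIntegral (BrSev.bc g F) := isIntegral_of_isOpenImmersion e.iso.hom
  obtain ⟨j₁, hj₁, hc₁, hr₁⟩ := exists_projSpace_point a F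
  obtain ⟨w, hw⟩ := hr₁
  have hθ : θ (genericPoint (BrSev.bc g F)) = genericPoint (pullback f g : Scheme.{u}) := by
    refine map_genericPoint_of_mem_range θ ?_
    obtain ⟨y, hy⟩ := hη
    obtain ⟨z, hz, -⟩ := Scheme.Pullback.exists_preimage_pullback (f := pullback.fst f g) (g := j₀)
      (genericPoint (pullback f g : Scheme.{u})) y
      (by rw [hy]; exact map_generic (pullback.fst f g))
    exact ⟨h1.isoPullback.inv z, by rw [← Scheme.Hom.comp_apply, h1.isoPullback_inv_fst, hz]⟩
  refine ⟨j₁ ≫ e.iso.inv ≫ θ, inferInstance, ⟨w, ?_⟩, ?_⟩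
  · rw [Scheme.Hom.comp_apply, Scheme.Hom.comp_apply, hw, genericPoint_eq_of_isOpenImmersion e.iso.inv, hθ]
  · rw [Category.assoc, Category.assoc, ← Category.assoc θ, pullback.lift_fst, Category.assoc, hj₀,
      ← Category.assoc e.iso.inv, show e.iso.inv ≫ BrSev.bcTo g F = CohB1.ProjSpace.toSpec a F by
        rw [← e.comm, Iso.inv_hom_id_assoc], reassoc_of% hc₁, ← Spec.map_comp]
    exact congrArg Spec.map (CommRingCat.hom_ext (IsScalarTower.algebraMap_eq k F (RatFld a F)).symm)

end Product

section Birational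

variable {k : Type u} [Field k]

/-- Integral schemes of finite type with isomorphic fields of rational points at the generic points. -/
theorem birationalOver_of_points {W V : Scheme.{u}} (s : W ⟶ Spec (CommRingCat.of k))
    (t : V ⟶ Spec (CommRingCat.of k)) [IsIntegral W] [IsIntegral V] [LocallyOfFinitePresentation s]
    [LocallyOfFinitePresentation t] {L M : Type u} [Field L] [Algebra k L] [Field M] [Algebra k M]
    (j : Spec (CommRingCat.of L) ⟶ W) [IsPreimmersion j] (hj : genericPoint W ∈ Set.range j)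
    (hjs : j ≫ s = Spec.map (CommRingCat.ofHom (algebraMap k L)))
    (i : Spec (CommRingCat.of M) ⟶ V) [IsPreimmersion i] (hi : genericPoint V ∈ Set.range i)
    (hit : i ≫ t = Spec.map (CommRingCat.ofHom (algebraMap k M)))
    (φ : L ≃ₐ[k] M) : Scheme.BirationalOver s t := by
  obtain ⟨e, he⟩ := exists_iso_of_point j hj
  obtain ⟨e', he'⟩ := exists_iso_of_point i hi
  haveI : Subsingleton (Spec (CommRingCat.of k)) := inferInstanceAs (Subsingleton (PrimeSpectrum k))
  refine (Groth.Agent.S9680.result s t).2 ⟨Subsingleton.elim _ _, e ≪≫ φ.toRingEquiv.toCommRingCatIso ≪≫ e'.symm, ?_⟩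
  refine (GrothLib.SpreadLfp9.stalk_compat_iff s t (Subsingleton.elim _ _) _).2 ?_
  haveI : Epi (Spec.map e'.hom) := inferInstance
  rw [← cancel_epi (Spec.map e'.hom), reassoc_of% he', hit, Iso.trans_hom, Iso.trans_hom, Iso.symm_hom,
    Spec.map_comp, Spec.map_comp]
  simp only [Category.assoc]
  rw [← Spec.map_comp_assoc e'.inv, Iso.inv_hom_id, Spec.map_id, Category.id_comp, reassoc_of% he, hjs,
    ← Spec.map_comp]
  exact congrArg Spec.map (CommRingCat.hom_ext (RingHom.ext fun c => φ.commutes c))

attribute [local instance] Curv2.stalkAlgebra in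
/-- Stable birationality of Severi-Brauer schemes whose function fields split each other. -/
theorem exists_stablyBirational {A B : Type u} [Ring A] [Algebra k A] [Algebra.IsCentral k A]
    [IsSimpleRing A] [Ring B] [Algebra k B] [Algebra.IsCentral k B] [IsSimpleRing B]
    {n m : ℕ} (hn : 0 < n) (hm : 0 < m) (hA : Module.finrank k A = n * n) (hB : Module.finrank k B = m * m)
    {i j : ℕ} (h₁ : GrothLib.BrauerEquiv.BEq k (CSAGal.tpow k A i) B)
    (h₂ : GrothLib.BrauerEquiv.BEq k (CSAGal.tpow k B j) A)
    {X Y : Scheme.{u}} (f : X ⟶ Spec (CommRingCat.of k)) (g : Y ⟶ Spec (CommRingCat.of k))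
    (hX : BrSev.IsSBOf k A (n * n - n) f) (hY : BrSev.IsSBOf k B (m * m - m) g) :
    Scheme.BirationalOver (pullback.fst f (CohB1.ProjSpace.toSpec m k) ≫ f)
      (pullback.fst g (CohB1.ProjSpace.toSpec n k) ≫ g) := by
  haveI : FiniteDimensional k A := Module.finite_of_finrank_pos (hA ▸ Nat.mul_pos hn hn)
  haveI : FiniteDimensional k B := Module.finite_of_finrank_pos (hB ▸ Nat.mul_pos hm hm)
  obtain ⟨K₁, hK₁F, hK₁A, hK₁fin, -, ⟨ε₁⟩⟩ := Groth.Agent.S14209.result k A n hn hA f hX
  obtain ⟨K₂, hK₂F, hK₂A, hK₂fin, -, ⟨ε₂⟩⟩ := Groth.Agent.S14209.result k B m hm hB g hY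
  letI : X.Over (Spec (CommRingCat.of k)) := ⟨f⟩
  letI : Y.Over (Spec (CommRingCat.of k)) := ⟨g⟩
  haveI : IsProper f := @isProper_of_splitting k _ X f K₁ hK₁F hK₁A _ hK₁fin ε₁
  haveI : IsProper g := @isProper_of_splitting k _ Y g K₂ hK₂F hK₂A _ hK₂fin ε₂
  haveI : IsIntegral X := @isIntegral_of_splitting k _ X f K₁ hK₁F hK₁A _ ε₁
  haveI : IsIntegral Y := @isIntegral_of_splitting k _ Y g K₂ hK₂F hK₂A _ ε₂
  haveI : GeometricallyIntegral g := @geometricallyIntegral_of_splitting k _ Y g K₂ hK₂F hK₂A _ ε₂
  haveI : IsLocallyNoetherian X := LocallyOfFiniteType.isLocallyNoetherian f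
  haveI : IsLocallyNoetherian Y := LocallyOfFiniteType.isLocallyNoetherian g
  haveI := Chow.isProper_toSpec m k
  haveI := Chow.isProper_toSpec n k
  haveI : GeometricallyIntegral (CohB1.ProjSpace.toSpec m k) :=
    geometricallyIntegral_of_splitting (nonempty_splitting_projSpace (k := k) m k).some
  haveI : GeometricallyIntegral (CohB1.ProjSpace.toSpec n k) :=
    geometricallyIntegral_of_splitting (nonempty_splitting_projSpace (k := k) n k).some
  haveI : Flat g := AlgSp.flat_to_field g
  haveI : Flat f := AlgSp.flat_to_field f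
  haveI : Flat (CohB1.ProjSpace.toSpec m k) := AlgSp.flat_to_field _
  haveI : Flat (CohB1.ProjSpace.toSpec n k) := AlgSp.flat_to_field _
  obtain ⟨n', rfl⟩ : ∃ n', n = n' + 1 := ⟨n - 1, by omega⟩
  obtain ⟨m', rfl⟩ : ∃ m', m = m' + 1 := ⟨m - 1, by omega⟩
  let F := X.functionField
  let G := Y.functionField
  have hsA : Curves.Splits k A F := Groth.Agent.S14220.splits_functionField hn hA hX
  have hsB : Curves.Splits k B G := Groth.Agent.S14220.splits_functionField hm hB hY
  obtain ⟨_, _, _⟩ := GrothLib.BrauerEquiv.csa_tpow (k := k) A i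
  obtain ⟨_, _, _⟩ := GrothLib.BrauerEquiv.csa_tpow (k := k) B j
  have hsBF : Curves.Splits k B F := GrothLib.BrauerEquiv.splits_congr_beq h₁ (GrothLib.BrauerEquiv.splits_tpow hsA i)
  have hsAG : Curves.Splits k A G := GrothLib.BrauerEquiv.splits_congr_beq h₂ (GrothLib.BrauerEquiv.splits_tpow hsB j)
  obtain ⟨r, -, ⟨eB⟩⟩ := hsBF
  obtain rfl : r = m' + 1 := by
    have h := eB.toLinearEquiv.finrank_eq
    rw [Module.finrank_baseChange, hB, Module.finrank_matrix, Fintype.card_fin, Module.finrank_self, mul_one] at h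
    exact (Nat.mul_self_inj.mp h).symm
  obtain ⟨r, -, ⟨eA⟩⟩ := hsAG
  obtain rfl : r = n' + 1 := by
    have h := eA.toLinearEquiv.finrank_eq
    rw [Module.finrank_baseChange, hA, Module.finrank_matrix, Fintype.card_fin, Module.finrank_self, mul_one] at h
    exact (Nat.mul_self_inj.mp h).symm
  obtain ⟨sX⟩ := hX
  obtain ⟨sY⟩ := hY
  obtain ⟨eYF⟩ := GrothLib.SBAut21.nonempty_splitting eB sY
  obtain ⟨eXG⟩ := GrothLib.SBAut21.nonempty_splitting eA sX
  have hF : genericPoint X ∈ Set.range (X.fromSpecStalk (genericPoint X)) := ⟨_, X.fromSpecStalk_closedPoint⟩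
  have hG : genericPoint Y ∈ Set.range (Y.fromSpecStalk (genericPoint Y)) := ⟨_, Y.fromSpecStalk_closedPoint⟩
  have hfX : X.fromSpecStalk (genericPoint X) ≫ f = Spec.map (CommRingCat.ofHom (algebraMap k F)) :=
    fromSpecStalk_generic_comp (k := k) (X := X)
  have hgY : Y.fromSpecStalk (genericPoint Y) ≫ g = Spec.map (CommRingCat.ofHom (algebraMap k G)) :=
    fromSpecStalk_generic_comp (k := k) (X := Y)
  obtain ⟨jZ, _, hjZ, hjZs⟩ := exists_product_point f g (X.fromSpecStalk _) hF hfX eYF
  haveI : Surjective f := inferInstance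
  haveI : IsIntegral (pullback g f) := inferInstance
  obtain ⟨jZ', _, hjZ', hjZs'⟩ := exists_product_point g f (Y.fromSpecStalk _) hG hgY eXG
  obtain ⟨e1, he1⟩ := exists_iso_of_point jZ hjZ
  obtain ⟨e2, he2⟩ := exists_iso_of_point (jZ' ≫ (pullbackSymmetry f g).inv) (by
    obtain ⟨w, hw⟩ := hjZ'
    exact ⟨w, by rw [Scheme.Hom.comp_apply, hw, genericPoint_eq_of_isOpenImmersion]⟩)
  let ψ := e1.symm ≪≫ e2
  have hψ : CommRingCat.ofHom (algebraMap k (RatFld m' F)) ≫ ψ.hom =
      CommRingCat.ofHom (algebraMap k (RatFld n' G)) := by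
    refine Spec.map_injective ?_
    rw [Spec.map_comp, ← hjZs, ← he1, Category.assoc, ← Spec.map_comp_assoc, Iso.trans_hom, Iso.symm_hom,
      Iso.hom_inv_id_assoc, reassoc_of% he2, pullbackSymmetry_inv_comp_fst_assoc, ← hjZs', pullback.condition]
  obtain ⟨E⟩ := ratFld_congr_succ (k := k) (a := m') (b := n')
    (AlgEquiv.ofRingEquiv (f := ψ.commRingCatIsoToRingEquiv) fun c => RingHom.congr_fun (congrArg CommRingCat.Hom.hom hψ) c)
  obtain ⟨εX⟩ := nonempty_splitting_projSpace (k := k) (m' + 1) F
  obtain ⟨εY⟩ := nonempty_splitting_projSpace (k := k) (n' + 1) G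
  obtain ⟨jW, _, hjW, hjWs⟩ := exists_product_point f (CohB1.ProjSpace.toSpec (m' + 1) k) (X.fromSpecStalk _) hF
    hfX εX
  obtain ⟨jV, _, hjV, hjVs⟩ := exists_product_point g (CohB1.ProjSpace.toSpec (n' + 1) k) (Y.fromSpecStalk _) hG
    hgY εY
  exact birationalOver_of_points _ _ jW hjW hjWs jV hjV hjVs E

end Birational

end GrothLib.ASBun21
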