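import Groth.Agent.Lib.ASBun21.TautIndex
import Groth.Agent.Lib.BrauerEquiv.PiTensor
import Mathlib.Data.Nat.Choose.Lucas
import Mathlib.Data.Nat.Factorization.Basic

/-!
# Consequences of the index theorem for the isotypical modules
-/

set_option autoImplicit false
set_option linter.style.haveILetI false
set_option backward.isDefEq.respectTransparency false
set_option maxHeartbeats 2000000

universe u

open CategoryTheory CategoryTheory.Limits AlgebraicGeometry

noncomputable section

namespace GrothLib.ASBun21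

open GrothLib.BrauerEquiv

section Choose

theorem not_dvd_choose_pred_pow {q : ℕ} (hq : q.Prime) :
    ∀ (b c : ℕ), 0 < c → ¬ q ∣ (q ^ b * c - 1).choose (q ^ b - 1) := by
  haveI : Fact q.Prime := ⟨hq⟩
  intro b
  induction b with
  | zero => intro c _; simp [hq.one_lt.ne']
  | succ b ih =>
    intro c hc hd
    have hdm : ∀ m, 0 < m → (q * m - 1) % q = q - 1 ∧ (q * m - 1) / q = m - 1 := fun m hm => by
      have h1 : q * m - 1 = (q - 1) + q * (m - 1) := by
        obtain ⟨m', rfl⟩ := Nat.exists_eq_succ_of_ne_zero hm.ne'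
        simp only [Nat.succ_sub_one, Nat.mul_succ]
        have := hq.pos
        omega
      have hlt : q - 1 < q := Nat.sub_lt hq.pos one_pos
      rw [h1, Nat.add_mul_mod_self_left, Nat.add_mul_div_left _ _ hq.pos, Nat.mod_eq_of_lt hlt,
        Nat.div_eq_of_lt hlt, zero_add]
      exact ⟨rfl, rfl⟩
    have hpos : 0 < q ^ b := pow_pos hq.pos b
    obtain ⟨h1, h2⟩ := hdm (q ^ b * c) (Nat.mul_pos hpos hc)
    obtain ⟨h3, h4⟩ := hdm (q ^ b) hpos
    rw [show q ^ (b + 1) * c = q * (q ^ b * c) by ring, show q ^ (b + 1) = q * q ^ b by ring] at hd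
    have key := Choose.choose_modEq_choose_mod_mul_choose_div_nat (p := q)
      (n := q * (q ^ b * c) - 1) (k := q * q ^ b - 1)
    rw [h1, h2, h3, h4, Nat.choose_self, one_mul] at key
    exact ih c hc (Nat.modEq_zero_iff_dvd.1 (key.symm.trans (Nat.modEq_zero_iff_dvd.2 hd)))

theorem not_dvd_factor {q : ℕ} (hq : q.Prime) {n b : ℕ} (hn : 0 < n) (hb : q ^ b ∣ n) :
    ∃ C : ℕ, n.choose (q ^ b) = n / q ^ b * C ∧ ¬ q ∣ C := by
  obtain ⟨c, rfl⟩ := hb
  have hpos : 0 < q ^ b := pow_pos hq.pos b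
  have hc : 0 < c := Nat.pos_of_mul_pos_left hn
  refine ⟨_, ?_, not_dvd_choose_pred_pow hq b c hc⟩
  rw [Nat.mul_div_cancel_left _ hpos]
  have := Nat.add_one_mul_choose_eq (q ^ b * c - 1) (q ^ b - 1)
  rw [Nat.sub_add_cancel (Nat.mul_pos hpos hc), Nat.sub_add_cancel hpos] at this
  refine (Nat.eq_of_mul_eq_mul_left hpos ?_).symm
  rw [← mul_assoc, this, mul_comm]

end Choose

section Index

variable {k : Type u} [Field k] {A : Type u} [Ring A] [Algebra k A] [Algebra.IsCentral k A] [IsSimpleRing A]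
  [FiniteDimensional k A]

theorem index_tpow_dvd_of_modEq {d a b c r s : ℕ} (hd : BEq k (CSAGal.tpow k A d) k) (h : a ≡ b * c [MOD d])
    (hr : CSAGal.IsIndex k (CSAGal.tpow k A a) r) (hs : CSAGal.IsIndex k (CSAGal.tpow k A b) s) : r ∣ s := by
  obtain ⟨_, _, _⟩ := csa_tpow (k := k) A a
  obtain ⟨_, _, _⟩ := csa_tpow (k := k) A b
  obtain ⟨_, _, _⟩ := csa_tpow (k := k) (CSAGal.tpow k A b) c
  exact index_tpow_dvd_index hs (isIndex_congr ((beq_tpow_congr hd h).trans (beq_tpow_tpow b c).symm) hr)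

theorem index_tpow_eq_of_dvd {d a b r s : ℕ} (hd0 : 0 < d) (hd : BEq k (CSAGal.tpow k A d) k)
    (h : (d : ℤ) ∣ (a : ℤ) - b ∨ (d : ℤ) ∣ (a : ℤ) + b)
    (hr : CSAGal.IsIndex k (CSAGal.tpow k A a) r) (hs : CSAGal.IsIndex k (CSAGal.tpow k A b) s) : r = s := by
  rcases h with h | h
  · have h' : a ≡ b [MOD d] := Nat.modEq_iff_dvd.2 (by rw [← dvd_neg, neg_sub]; exact h)
    exact Nat.dvd_antisymm (index_tpow_dvd_of_modEq (c := 1) hd (by rwa [mul_one]) hr hs)
      (index_tpow_dvd_of_modEq (c := 1) hd (by rw [mul_one]; exact h'.symm) hs hr)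
  · have key : ∀ x y : ℕ, (d : ℤ) ∣ (x : ℤ) + y → x ≡ y * (d - 1) [MOD d] := fun x y hxy => by
      refine Nat.modEq_iff_dvd.2 ?_
      push_cast [Nat.cast_sub (Nat.one_le_iff_ne_zero.2 hd0.ne')]
      have : (y : ℤ) * ((d : ℤ) - 1) - x = (d : ℤ) * y - ((x : ℤ) + y) := by ring
      rw [this]
      exact dvd_sub (dvd_mul_right _ _) hxy
    exact Nat.dvd_antisymm (index_tpow_dvd_of_modEq hd (key a b h) hr hs)
      (index_tpow_dvd_of_modEq hd (key b a (by rwa [add_comm])) hs hr)

theorem index_tpow_eq_one {a r : ℕ} (h : BEq k (CSAGal.tpow k A a) k)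
    (hr : CSAGal.IsIndex k (CSAGal.tpow k A a) r) : r = 1 := by
  obtain ⟨_, _, _⟩ := csa_tpow (k := k) A a
  exact index_unique_of_division (GrothLib.BrauerEquiv.BEq.refl _) hr (isIndex_one_of_beq_k h)

/-- The indices of the tensor powers of an algebra whose period equals its index. -/
theorem index_tpow_of_period_eq_index {p : ℕ} (hp : CSAGal.IsPeriod k A p) (hi : CSAGal.IsIndex k A p)
    (i : ℕ) {d : ℕ} (hd : CSAGal.IsIndex k (CSAGal.tpow k A i) d) : d = p / Nat.gcd p i := by
  have hp0 : 0 < p := hp.1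
  set g := Nat.gcd p i with hg
  have hg0 : 0 < g := Nat.gcd_pos_of_pos_left i hp0
  obtain ⟨_, _, _⟩ := csa_tpow (k := k) A i
  obtain ⟨p', hp'⟩ := Nat.gcd_dvd_left p i
  obtain ⟨i', hi'⟩ := Nat.gcd_dvd_right p i
  have hp'0 : p' ≠ 0 := by rintro rfl; simp at hp'; omega
  rw [← hg] at hp' hi'
  have hdiv : p / g = p' := by rw [hp', Nat.mul_div_cancel_left _ hg0]
  rw [hdiv]
  refine Nat.dvd_antisymm ?_ ?_
  · have hd0 : d ≠ 0 := (hd.1).ne'
    rw [← Nat.factorization_le_iff_dvd hd0 hp'0]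
    intro q
    by_cases hq : q.Prime
    · set b := g.factorization q
      have hb : q ^ b ∣ g := Nat.ordProj_dvd g q
      have hbi : q ^ b ∣ i := hb.trans (Dvd.intro i' hi'.symm)
      have hbp : q ^ b ∣ p := hb.trans (Dvd.intro p' hp'.symm)
      obtain ⟨_, _, _⟩ := csa_tpow (k := k) A (q ^ b)
      obtain ⟨e, he⟩ := exists_isIndex (k := k) (CSAGal.tpow k A (q ^ b))
      have h1 : d ∣ e := by
        obtain ⟨c, hc⟩ := hbi
        exact index_tpow_dvd_of_modEq (beq_tpow_index hi) (by rw [hc]) hd he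
      have h2 := h1.trans (index_tpow_dvd_choose_index hi (q ^ b) he)
      obtain ⟨C, hC, hqC⟩ := not_dvd_factor hq hp0 hbp
      have hC0 : C ≠ 0 := fun h => hqC (h ▸ dvd_zero q)
      have hpb : p / q ^ b ≠ 0 :=
        (Nat.div_pos (Nat.le_of_dvd hp0 hbp) (pow_pos hq.pos b)).ne'
      have h3 := (Nat.factorization_le_iff_dvd hd0 (by rw [hC]; exact mul_ne_zero hpb hC0)).2 h2 q
      rw [hC, Nat.factorization_mul hpb hC0, Finsupp.add_apply,
        Nat.factorization_eq_zero_of_not_dvd hqC, add_zero, Nat.factorization_div hbp] at h3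
      simp only [Finsupp.coe_tsub, Pi.sub_apply, Nat.factorization_pow, Finsupp.smul_apply,
        hq.factorization_self, smul_eq_mul, mul_one] at h3
      rw [hp', Nat.factorization_mul hg0.ne' hp'0, Finsupp.add_apply] at h3
      exact h3.trans (by omega)
    · simp [Nat.factorization_eq_zero_of_not_prime, hq]
  · have h := beq_tpow_index hd
    have h2 : p ∣ i * d := (period_dvd_iff hp _).1 ((beq_tpow_tpow i d).symm.trans h)
    rw [hp', hi', mul_assoc] at h2
    have hco : Nat.Coprime p' i' := by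
      have := Nat.coprime_div_gcd_div_gcd (m := p) (n := i) (hg ▸ hg0)
      rwa [← hg, hdiv, hi', Nat.mul_div_cancel_left _ hg0] at this
    exact hco.dvd_of_dvd_mul_left (Nat.dvd_of_mul_dvd_mul_left hg0 h2)

theorem isPeriod_isIndex_of_prime {n : ℕ} (hq : n.Prime) (hA : Module.finrank k A = n * n)
    (hns : ¬ Curves.Splits k A k) : CSAGal.IsPeriod k A n ∧ CSAGal.IsIndex k A n := by
  obtain ⟨d, hd⟩ := exists_isIndex (k := k) A
  have hdn : d = n := by
    refine (hq.eq_one_or_self_of_dvd d (index_dvd_degree hd (by rw [hA, sq]))).resolve_left ?_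
    rintro rfl
    exact hns (splits_iff.2 (beq_k_of_isIndex_one hd))
  subst hdn
  refine ⟨⟨hq.pos, (splits_tpow_iff d).2 (beq_tpow_index hd), fun e he hed hs => ?_⟩, hd⟩
  exact absurd (Nat.le_of_dvd he (prime_dvd_of_beq_tpow hd ((splits_tpow_iff e).1 hs) hq dvd_rfl))
    (by omega)

end Index

section Inv

variable {k : Type u} [Field k] {X : Scheme.{u}} {f : X ⟶ Spec (CommRingCat.of k)}
  {K : Type u} [Field K] [Algebra k K]

/-- A module of twisting type and multiplicity one is invertible. -/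
theorem isInvertible_of_isTwPow_one {m : ℕ} (ε : BrSev.Splitting f K m) {W : X.Modules}
    (hW : FlatMod.IsFinLocFree W) {j : ℤ} (h : BrSev.IsTwPow ε j 1 W) : PicF.IsInvertible W := by
  obtain ⟨e⟩ := h
  let b := Spec.map (CommRingCat.ofHom (algebraMap k K))
  haveI : Flat b := AlgSp.flat_to_field (k := k) _
  haveI : Surjective b := ⟨fun y => by
    haveI : Subsingleton (Spec (CommRingCat.of k)) := inferInstanceAs (Subsingleton (PrimeSpectrum k))
    exact ⟨Classical.arbitrary _, Subsingleton.elim _ _⟩⟩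
  have hsq : IsPullback (BrSev.proj f K) (BrSev.bcTo f K) f b := IsPullback.of_hasPullback _ _
  haveI : Flat (BrSev.proj f K) := MorphismProperty.of_isPullback hsq.flip inferInstance
  haveI : Surjective (BrSev.proj f K) := MorphismProperty.of_isPullback hsq.flip inferInstance
  haveI : QuasiCompact (BrSev.proj f K) := MorphismProperty.of_isPullback hsq.flip inferInstance
  haveI : W.IsQuasicoherent := (Euler.isCoh_of_isFinLocFree hW).1
  exact ParaPair.isInvertible_of_pullback _ W
    (ParaPair.isInvertible_of_iso (e ≪≫ coproductUniqueIso fun _ : Fin 1 => ε.twist j)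
      (isInvertible_twist ε j))

end Inv

end GrothLib.ASBun21
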