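import Groth.Agent.Lib.ASBun21.LineEmbed
import Groth.Agent.Lib.ASBun21.StablyBirational
import Groth.Agent.Lib.ASBun21.TautCor
import Groth.Agent.Lib.ASBun21.SplitExt
import Groth.Agent.Lib.CurveMult.DegBound
import Groth.Agent.Lib.ProjCohom.Corollaries
import Groth.Agent.Lib.VA.ProjSpace
import Groth.Agent.Lib.VA.Powers
import Groth.Agent.Lib.VA.Disjoint

/-!
# The embedding of a split-type variety by a descended twist
-/

set_option linter.style.haveILetI false
set_option autoImplicit false
set_option backward.isDefEq.respectTransparency false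

universe u

open CategoryTheory CategoryTheory.Limits AlgebraicGeometry TopologicalSpace Opposite
open GrothLib.Ample (Cocycle)

noncomputable section

namespace GrothLib.ASBun21

open GrothLib.ProjPic26 (isInvertible_twistProjSpace tw_eq_zpow)

/-- Positive twists are very ample. -/
theorem isRelVeryAmple_twist (n : ℕ) (K : Type u) [Field K] {d : ℕ} (hd : 0 < d) :
    RelProj.IsRelVeryAmple (CohB1.ProjSpace.toSpec n K) (Twist.twistProjSpace n K (d : ℤ)) := by
  have h := VA.isRelVeryAmple_tensorPow (isInvertible_twistProjSpace n K 1) (VA.isRelVeryAmple_projSpace n K) hd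
  refine VA.isRelVeryAmple_of_cls (Ample.isInvertible_tensorPow (isInvertible_twistProjSpace n K 1) d)
    (isInvertible_twistProjSpace n K d) ?_ h
  rw [Cube.clsMod_tensorPow]
  show GrothLib.ProjPic26.tw n K 1 ^ d = GrothLib.ProjPic26.tw n K (d : ℤ)
  rw [tw_eq_zpow n K (d : ℤ), zpow_natCast]

/-- The sections of a twist. -/
theorem finrank_twist (n : ℕ) (K : Type u) [Field K] (d : ℕ) :
    Module.finrank K (Coh.HH (CohB1.ProjSpace n K) (Twist.twistProjSpace n K (d : ℤ)) 0) = (n + d).choose d := by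
  obtain ⟨e⟩ := ProjCohom.nonempty_HH_zero (n := n) (R := K) d
  rw [e.finrank_eq, ProjCohom.finrank_forms]

variable {k : Type u} [Field k] {X : Scheme.{u}} (p : X ⟶ Spec (CommRingCat.of k)) [IsProper p]
  {K : Type u} [Field K] [Algebra k K] {n : ℕ}

/-- A module of type `O(d)`, `d > 0`, embeds a split-type variety by its complete linear system. -/
theorem exists_embedding (e : BrSev.Splitting p K n) {d : ℕ} (hd : 0 < d) {W : X.Modules}
    (hW : PicF.IsInvertible W) (hWt : BrSev.IsTwPow e (d : ℤ) 1 W) {N : ℕ} (hN : N + 1 = (n + d).choose d) :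
    ∃ ρ : X ⟶ CohB1.ProjSpace N k, IsClosedImmersion ρ ∧ ρ ≫ CohB1.ProjSpace.toSpec N k = p ∧
      Nonempty ((Scheme.Modules.pullback ρ).obj (Twist.twistProjSpace N k 1) ≅ W) := by
  letI : X.Over (Spec (CommRingCat.of k)) := ⟨p⟩
  haveI : IsProper (X ↘ Spec (CommRingCat.of k)) := ‹IsProper p›
  letI : (BrSev.bc p K).Over (Spec (CommRingCat.of K)) := ⟨BrSev.bcTo p K⟩
  haveI hp' : IsProper ((BrSev.bc p K) ↘ Spec (CommRingCat.of K)) :=
    MorphismProperty.pullback_snd p _ ‹IsProper p›
  haveI : GeometricallyIntegral p := geometricallyIntegral_of_splitting e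
  haveI : IsIntegral (BrSev.bc p K) := isIntegral_bc p K
  haveI : IsIntegral X := isIntegral_of_splitting e
  have H : IsPullback (BrSev.proj p K) ((BrSev.bc p K) ↘ Spec (CommRingCat.of K)) (X ↘ Spec (CommRingCat.of k))
      (Spec.map (CommRingCat.ofHom (algebraMap k K))) := IsPullback.of_hasPullback _ _
  haveI : W.IsQuasicoherent := Euler.isQuasicoherent_of_isFinLocFree (Euler.isFinLocFree_of_isInvertible hW)
  obtain ⟨c, ⟨eW⟩⟩ := Ample.exists_cocycle hW
  obtain ⟨a⟩ := hWt
  obtain ⟨b⟩ := c.nonempty_pullback_iso (BrSev.proj p K) eW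
  let α : (Scheme.Modules.pullback e.iso.hom).obj (Twist.twistProjSpace n K (d : ℤ)) ≅
      (c.comap (BrSev.proj p K)).twist 1 :=
    (a ≪≫ coproductUniqueIso fun _ : Fin 1 => e.twist (d : ℤ)).symm ≪≫ b
  have hva : RelProj.IsRelVeryAmple ((BrSev.bc p K) ↘ Spec (CommRingCat.of K))
      ((c.comap (BrSev.proj p K)).twist 1) := by
    refine VA.isRelVeryAmple_of_iso α ?_
    have h := VA.isRelVeryAmple_precomp e.iso.hom (isRelVeryAmple_twist n K hd)
    rwa [e.comm] at h
  have hN' : Module.finrank K (Coh.HH (BrSev.bc p K) ((c.comap (BrSev.proj p K)).twist 1) 0) = N + 1 := by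
    rw [hN, ← finrank_twist n K d]
    letI : (CohB1.ProjSpace n K).Over (Spec (CommRingCat.of K)) := ⟨CohB1.ProjSpace.toSpec n K⟩
    haveI : IsProper ((CohB1.ProjSpace n K) ↘ Spec (CommRingCat.of K)) := Chow.isProper_toSpec n K
    haveI : (Twist.twistProjSpace n K (d : ℤ)).IsQuasicoherent :=
      Euler.isQuasicoherent_of_isFinLocFree (Euler.isFinLocFree_of_isInvertible (isInvertible_twistProjSpace n K d))
    have Hi : IsPullback e.iso.hom ((BrSev.bc p K) ↘ Spec (CommRingCat.of K))
        ((CohB1.ProjSpace n K) ↘ Spec (CommRingCat.of K)) (Spec.map (CommRingCat.ofHom (RingHom.id K))) :=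
      haveI : IsIso (Spec.map (CommRingCat.ofHom (RingHom.id K))) := by
        rw [show CommRingCat.ofHom (RingHom.id K) = 𝟙 _ from rfl, Spec.map_id]; infer_instance
      IsPullback.of_horiz_isIso ⟨by
        rw [show CommRingCat.ofHom (RingHom.id K) = 𝟙 _ from rfl, Spec.map_id, Category.comp_id]
        exact e.comm⟩
    exact (Euler.hhEquiv (A := K) α 0).finrank_eq.symm.trans
      (CurveMult.finrank_HH_baseChange (RingHom.id K) e.iso.hom Hi (Twist.twistProjSpace n K (d : ℤ)) 0)
  have hNk : Module.finrank k (Coh.HH X (c.twist 1) 0) = N + 1 := by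
    rw [← hN']
    haveI : (c.twist 1).IsQuasicoherent :=
      Euler.isQuasicoherent_of_isFinLocFree (Euler.isFinLocFree_of_isInvertible (c.isInvertible_twist 1))
    obtain ⟨b'⟩ := c.nonempty_pullback_twist (BrSev.proj p K) 1
    exact ((Euler.hhEquiv (A := K) b' 0).finrank_eq.symm.trans
      (CurveMult.finrank_HH_baseChange (algebraMap k K) (BrSev.proj p K) H (c.twist 1) 0)).symm
  exact exists_closedImmersion_of_veryAmple k K (BrSev.proj p K) H c eW hva hNk hN'

end GrothLib.ASBun21
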