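import Groth.Agent.Lib.CMReg.NegGrowth
import Groth.Agent.Lib.CMReg.StructureMain
import Groth.Agent.Lib.CMReg.Free
import Groth.Agent.Lib.CurveMult.P1Split
import Groth.Agent.Lib.ASBun21.HorrocksGen
import Groth.Agent.Lib.ASBun21.TwistEmbed

/-!
# Horrocks' splitting criterion on projective space over any field
-/

set_option autoImplicit false
set_option linter.all false
set_option maxHeartbeats 400000
set_option backward.isDefEq.respectTransparency false

universe u

open CategoryTheory CategoryTheory.Limits AlgebraicGeometry TopologicalSpace Opposite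
open GrothLib.Cohom (hhMap hhDelta)
open GrothLib.CMReg (Ft ftFun)

noncomputable section

namespace GrothLib.ASBun21.Horrocks

variable {n : ℕ} {k : Type u} [Field k]

local notation "PP" => CohB1.ProjSpace n k
local notation "O" => Twist.twistProjSpace n k

theorem isIntegral_PP (n : ℕ) (k : Type u) [Field k] : IsIntegral (CohB1.ProjSpace n k) :=
  ProjDim.isIntegral_proj k n

attribute [local instance] isIntegral_PP

/-- Twists are locally free. -/
theorem locFree_twist (d : ℤ) : FlatMod.IsFinLocFree (O d) :=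
  Euler.isFinLocFree_of_isInvertible (CMReg.isInvertible_twist d)

/-- Opposite twists are inverse. -/
def invIso (a b : ℤ) (h : a + b = 0) : CohB1.tensorMod (O a) (O b) ≅ Coh.structureModule PP :=
  (CMReg.nonempty_twist_add h).some ≪≫ CMReg.nonempty_twist_zero.some

/-- The twist of a bundle of rank `r` has rank `r`. -/
theorem rank_tensor {X : Scheme.{u}} {r : ℕ} {E L : X.Modules} (hE : FlatMod.IsFinLocFreeOfRank r E)
    (hL : FlatMod.IsFinLocFreeOfRank 1 L) : FlatMod.IsFinLocFreeOfRank r (CohB1.tensorMod E L) := fun x => by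
  obtain ⟨U, hxU, ⟨i⟩⟩ := hE x
  obtain ⟨W, hxW, ⟨j⟩⟩ := hL x
  obtain ⟨i'⟩ := DCoh.exists_free_restrict_le (inf_le_left : U ⊓ W ≤ U) i
  obtain ⟨j'⟩ := DCoh.exists_free_restrict_le (inf_le_right : U ⊓ W ≤ W) j
  let R := Scheme.Modules.restrictFunctorIsoPullback (U ⊓ W).ι
  refine ⟨U ⊓ W, ⟨hxU, hxW⟩, ⟨R.app _ ≪≫ OX.pullTensorIso (U ⊓ W).ι E L ≪≫
    ((DCoh.tensorBi (X := (U ⊓ W : X.Opens).toScheme)).mapIso ((R.app E).symm ≪≫ i')).app _ ≪≫
    ((DCoh.tensorBi (X := (U ⊓ W : X.Opens).toScheme)).obj _).mapIso ((R.app L).symm ≪≫ j') ≪≫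
    OX.tensorFreeIso _ r 1 ≪≫ eqToIso (by rw [mul_one])⟩⟩

theorem add_one_le_choose (hn : 1 ≤ n) (C : ℕ) : C + 1 ≤ (n + C).choose C :=
  calc C + 1 = (1 + C).choose C := by rw [Nat.add_comm 1 C, Nat.choose_succ_self_right]
    _ ≤ (n + C).choose C := Nat.choose_le_choose C (by omega)

/-- Very negative twists of a bundle have no sections. -/
theorem subsingleton_H0_neg (hn : 1 ≤ n) {r : ℕ} {E : (PP).Modules}
    (hE : FlatMod.IsFinLocFreeOfRank r E) :
    ∃ P : ℕ, ∀ d : ℤ, d ≤ -(P : ℤ) → Subsingleton (Coh.HH PP (Ft E d) 0) := by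
  have hEc : Coh.IsCoh E := Euler.isCoh_of_isFinLocFree (FinCov.isFinLocFree_of_rank hE)
  obtain ⟨C, hC⟩ := CMReg.exists_bound 0 E hEc
  refine ⟨C, fun d hd => ?_⟩
  by_contra hne
  rw [not_subsingleton_iff_nontrivial] at hne
  have h1 := HorrocksGen.finrank_le_of_section (k := k) (invIso (C : ℤ) (-C) (by omega))
    (invIso (-C : ℤ) C (by omega))
    (rank_tensor hE (Euler.isFinLocFreeOfRank_one_of_invertible (CMReg.isInvertible_twist d)))
    (CMReg.isCoh_Ft (CMReg.isCoh_Ft hEc d) (C : ℤ)) hne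
  rw [finrank_twist] at h1
  obtain ⟨p, hp⟩ : ∃ p : ℕ, d + (C : ℤ) = -(p : ℤ) := ⟨(-(d + C)).toNat, by omega⟩
  obtain ⟨g⟩ := CMReg.nonempty_Ft_Ft E d (C : ℤ) (-(p : ℤ)) hp
  have h2 : Module.finrank k (Coh.HH PP (Ft (Ft E d) (C : ℤ)) 0) = CMReg.hdim E p 0 :=
    LinearEquiv.finrank_eq (Euler.hhEquiv (A := k) g 0)
  have h4 := hC p
  have h5 := add_one_le_choose hn C
  rw [pow_zero, mul_one] at h4
  have h6 : Module.finrank k (Coh.HH PP (Ft (Ft E d) (C : ℤ)) 0) ≤ C := h2.le.trans h4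
  exact absurd (h5.trans (h1.trans h6)) (by omega)

/-- A coproduct of twists. -/
abbrev split (n : ℕ) (k : Type u) [Field k] {r : ℕ} (a : Fin r → ℤ) : (CohB1.ProjSpace n k).Modules :=
  ∐ fun l => Twist.twistProjSpace n k (a l)

theorem nonempty_Ft_split {r : ℕ} (a : Fin r → ℤ) (d : ℤ) :
    Nonempty (Ft (split n k a) d ≅ split n k fun l => a l + d) :=
  ⟨CMReg.tensorSigmaIso (fun l => O (a l)) (O d) ≪≫
    Sigma.mapIso fun l => (CMReg.nonempty_twist_add (n := n) (k := k) (rfl : a l + d = a l + d)).some⟩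

theorem rank_split {r : ℕ} (a : Fin r → ℤ) : FlatMod.IsFinLocFreeOfRank r (split n k a) := fun x => by
  choose U hx e using fun j =>
    Euler.isFinLocFreeOfRank_one_of_invertible (CMReg.isInvertible_twist (n := n) (k := k) (a j)) x
  let V : (PP).Opens := ⟨⋂ j, (U j : Set PP), isOpen_iInter_of_finite fun j => (U j).2⟩
  have hV : ∀ j, V ≤ U j := fun j => Set.iInter_subset (fun j => (U j : Set PP)) j
  have e' := fun j => DCoh.exists_free_restrict_le (hV j) (e j).some
  haveI : PreservesColimitsOfShape (Discrete (Fin r)) (Scheme.Modules.restrictFunctor V.ι) := inferInstance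
  exact ⟨V, Set.mem_iInter.2 hx,
    ⟨PreservesCoproduct.iso (Scheme.Modules.restrictFunctor V.ι) _ ≪≫ Sigma.mapIso (fun j => (e' j).some) ≪≫
      sigmaSigmaIso (fun _ : Fin r => Fin 1) (fun _ _ => Coh.structureModule _) ≪≫
      Sigma.whiskerEquiv (g := fun _ : Fin r => Coh.structureModule _)
        ((Equiv.sigmaEquivProd (Fin r) (Fin 1)).trans (Equiv.prodUnique (Fin r) (Fin 1))) (fun _ => Iso.refl _)⟩⟩

theorem subsingleton_split {r : ℕ} (a : Fin r → ℤ) (d : ℤ) {q : ℕ} (hq : 0 < q) (hn : q < n) :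
    Subsingleton (Coh.HH PP (Ft (split n k a) d) q) :=
  CMReg.subsingleton_of_iso (nonempty_Ft_split a d).some.symm (CMReg.subsingleton_HH_sigma _ fun l =>
    ProjCohom.subsingleton_HH (fun h => by omega) (fun h => by omega))

section Step

variable {n : ℕ} {k : Type u} [Field k]
  (j : CohB1.ProjSpace n k ⟶ CohB1.ProjSpace (n + 1) k)
  (ι : Twist.twistProjSpace (n + 1) k (-1) ⟶ Coh.structureModule (CohB1.ProjSpace (n + 1) k))
  (w : ι ≫ ClSub.unitToPush j = 0) [IsClosedImmersion j]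

/-- `O(-1) ⊗ O(d) = O(d - 1)`. -/
def downIso (n : ℕ) (k : Type u) [Field k] (d : ℤ) :
    CohB1.tensorMod (Twist.twistProjSpace n k (-1)) (Twist.twistProjSpace n k d) ≅
      Twist.twistProjSpace n k (d - 1) :=
  (CMReg.nonempty_twist_add (show (-1 : ℤ) + d = d - 1 by ring)).some

/-- The vanishing passes to the hyperplane. -/
theorem vanish_restrict (hS : (ShortComplex.mk ι (ClSub.unitToPush j) w).ShortExact)
    (he : Nonempty ((Scheme.Modules.pullback j).obj (Twist.twistProjSpace (n + 1) k 1) ≅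
      Twist.twistProjSpace n k 1))
    {r : ℕ} {E : (CohB1.ProjSpace (n + 1) k).Modules} (hE : FlatMod.IsFinLocFreeOfRank r E)
    (hv : ∀ (i : ℕ) (d : ℤ), 0 < i → i < n + 1 →
      Subsingleton (Coh.HH (CohB1.ProjSpace (n + 1) k) (Ft E d) i))
    (i : ℕ) (d : ℤ) (hi : 0 < i) (hin : i < n) :
    Subsingleton (Coh.HH (CohB1.ProjSpace n k) (Ft ((Scheme.Modules.pullback j).obj E) d) i) :=
  HorrocksGen.vanish_restrict (k := k) j ι w hS (FinCov.isFinLocFree_of_rank hE) (locFree_twist d)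
    (downIso (n + 1) k d) (CMReg.nonempty_pullback_twist he d).some
    (CMReg.isCoh_Ft (Euler.isCoh_of_isFinLocFree
      (FinCov.isFinLocFree_of_rank (OX.isFinLocFreeOfRank_pullback j hE))) d).1 i
    (hv i d hi (by omega)) (hv (i + 1) (d - 1) (by omega) (by omega))

/-- A splitting on the hyperplane lifts. -/
theorem exists_lift_split (hn : 1 ≤ n) (hS : (ShortComplex.mk ι (ClSub.unitToPush j) w).ShortExact)
    (he : Nonempty ((Scheme.Modules.pullback j).obj (Twist.twistProjSpace (n + 1) k 1) ≅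
      Twist.twistProjSpace n k 1))
    {r : ℕ} {E : (CohB1.ProjSpace (n + 1) k).Modules} (hE : FlatMod.IsFinLocFreeOfRank r E)
    (hv : ∀ (i : ℕ) (d : ℤ), 0 < i → i < n + 1 →
      Subsingleton (Coh.HH (CohB1.ProjSpace (n + 1) k) (Ft E d) i))
    (a : Fin r → ℤ) (eH : (Scheme.Modules.pullback j).obj E ≅ split n k a) :
    ∃ φ : split (n + 1) k a ⟶ E,
      IsIso (((DCoh.tensorBi (X := CohB1.ProjSpace (n + 1) k)).flip.map φ).app
        ((Scheme.Modules.pushforward j).obj (Coh.structureModule (CohB1.ProjSpace n k)))) := by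
  have hEl := FinCov.isFinLocFree_of_rank hE
  have hFl := FinCov.isFinLocFree_of_rank (rank_split (n := n + 1) (k := k) a)
  let eF : (Scheme.Modules.pullback j).obj (split (n + 1) k a) ≅ split n k a :=
    PreservesCoproduct.iso (Scheme.Modules.pullback j) _ ≪≫
      Sigma.mapIso fun l => (CMReg.nonempty_pullback_twist he (a l)).some
  exact HorrocksGen.exists_lift (k := k) j ι w hS hEl (fun l => Twist.twistProjSpace (n + 1) k (a l)) hFl
    (fun l => ⟨Twist.twistProjSpace (n + 1) k (-(a l)), ⟨invIso _ _ (add_neg_cancel _)⟩,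
      ⟨invIso _ _ (neg_add_cancel _)⟩,
      CMReg.subsingleton_of_iso (HorrocksGen.firstTerm j ι w E _ _ (downIso (n + 1) k (-(a l)))).symm
        (hv 1 _ one_pos (by omega))⟩)
    ((CMReg.nonempty_tensorMod_push j (split (n + 1) k a) hFl).some ≪≫
      (Scheme.Modules.pushforward j).mapIso (eF ≪≫ eH.symm) ≪≫
      (CMReg.nonempty_tensorMod_push j E hEl).some.symm)

/-- The induction step of the criterion. -/
theorem step (hn : 1 ≤ n) (hS : (ShortComplex.mk ι (ClSub.unitToPush j) w).ShortExact)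
    (he : Nonempty ((Scheme.Modules.pullback j).obj (Twist.twistProjSpace (n + 1) k 1) ≅
      Twist.twistProjSpace n k 1))
    (ih : ∀ (r : ℕ) (E : (CohB1.ProjSpace n k).Modules), FlatMod.IsFinLocFreeOfRank r E →
      (∀ (i : ℕ) (d : ℤ), 0 < i → i < n → Subsingleton (Coh.HH (CohB1.ProjSpace n k) (Ft E d) i)) →
      ∃ a : Fin r → ℤ, Nonempty (E ≅ split n k a))
    (r : ℕ) (E : (CohB1.ProjSpace (n + 1) k).Modules) (hE : FlatMod.IsFinLocFreeOfRank r E)
    (hv : ∀ (i : ℕ) (d : ℤ), 0 < i → i < n + 1 →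
      Subsingleton (Coh.HH (CohB1.ProjSpace (n + 1) k) (Ft E d) i)) :
    ∃ a : Fin r → ℤ, Nonempty (E ≅ split (n + 1) k a) := by
  have hEl := FinCov.isFinLocFree_of_rank hE
  obtain ⟨a, ⟨eH⟩⟩ := ih r _ (OX.isFinLocFreeOfRank_pullback j hE) (vanish_restrict j ι w hS he hE hv)
  obtain ⟨φ, hφ⟩ := exists_lift_split j ι w hn hS he hE hv a eH
  obtain ⟨N, hN⟩ := subsingleton_H0_neg (n := n + 1) (by omega) hE
  have hsurj : ∀ (m : ℕ) (d : ℤ), d ≤ -(N : ℤ) + m → Function.Surjective (hhMap k ((ftFun d).map φ) 0) := by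
    intro m
    induction m with
    | zero =>
      intro d hd x
      exact ⟨0, @Subsingleton.elim _ (hN d (by simpa using hd)) _ _⟩
    | succ m ihm =>
      intro d hd
      exact HorrocksGen.surjective_H0_step (k := k) j ι w hS
        (FinCov.isFinLocFree_of_rank (rank_split a)) hEl (locFree_twist d) (downIso (n + 1) k d) φ hφ
        (subsingleton_split a (d - 1) one_pos (by omega)) (ihm (d - 1) (by push_cast at hd ⊢; omega))
  obtain ⟨t, ht⟩ := CMReg.spanned_eventually (Euler.isCoh_of_isFinLocFree hEl)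
  haveI := HorrocksGen.isIso_of_surjective_H0 (k := k) (invIso t (-t) (add_neg_cancel t))
    (invIso (-t) t (neg_add_cancel t)) (rank_split a) hE φ (ht t le_rfl) (hsurj (t + N).toNat t (by omega))
  exact ⟨a, ⟨(asIso φ).symm⟩⟩

end Step

/-- **Horrocks' criterion**, the direction that produces a splitting. -/
theorem exists_split : ∀ (n : ℕ), 1 ≤ n → ∀ (r : ℕ) (E : (CohB1.ProjSpace n k).Modules),
    FlatMod.IsFinLocFreeOfRank r E →
    (∀ (i : ℕ) (d : ℤ), 0 < i → i < n → Subsingleton (Coh.HH (CohB1.ProjSpace n k) (Ft E d) i)) →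
    ∃ a : Fin r → ℤ, Nonempty (E ≅ split n k a) := by
  intro n hn
  induction n, hn using Nat.le_induction with
  | base =>
    intro r E hE _
    obtain ⟨d, -, hd⟩ := CurveMult.P1Split.exists_splitting k r E hE
    exact ⟨d, hd⟩
  | succ n hn ih =>
    obtain ⟨j, hj, ι, w, hS, -, he⟩ := CMReg.exists_hyperplane n k
    haveI := hj
    exact fun r E hE hv => step j ι w hn hS he ih r E hE hv

end GrothLib.ASBun21.Horrocks
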