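import Groth.Agent.Lib.ASBun21.Horrocks
import Groth.Agent.Lib.ASBun21.SplitExt
import Groth.Agent.Lib.ASBun21.Split
import Groth.Agent.Lib.ModelK.Rank
import Groth.Agent.S11486
import Groth.Agent.S10960

/-!
# Absolute splitting and the vanishing of intermediate cohomology
-/

set_option autoImplicit false
set_option linter.all false
set_option maxHeartbeats 1000000
set_option backward.isDefEq.respectTransparency false

universe u

open CategoryTheory CategoryTheory.Limits AlgebraicGeometry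
open GrothLib.CMReg (Ft)
open GrothLib.ASBun21.Horrocks (split)

noncomputable section

namespace GrothLib.ASBun21

variable {k : Type u} [Field k] {X : Scheme.{u}} {p : X ⟶ Spec (CommRingCat.of k)}
  {K : Type u} [Field K] [Algebra k K] {n : ℕ} (e : BrSev.Splitting p K n)

/-- The module on projective space attached to a module on `X` by the splitting. -/
abbrev toP (M : X.Modules) : (CohB1.ProjSpace n K).Modules :=
  (Scheme.Modules.pullback e.iso.inv).obj (BrSev.bcMod p K M)

/-- The twist comes back to the twist. -/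
def twistBack (j : ℤ) : (Scheme.Modules.pullback e.iso.inv).obj (e.twist j) ≅ Twist.twistProjSpace n K j :=
  (Scheme.Modules.pullbackComp e.iso.inv e.iso.hom).app _ ≪≫
    (Scheme.Modules.pullbackCongr e.iso.inv_hom_id).app _ ≪≫ (Scheme.Modules.pullbackId _).app _

/-- There and back. -/
def backForth (N : (BrSev.bc p K).Modules) :
    (Scheme.Modules.pullback e.iso.hom).obj ((Scheme.Modules.pullback e.iso.inv).obj N) ≅ N :=
  (Scheme.Modules.pullbackComp e.iso.hom e.iso.inv).app _ ≪≫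
    (Scheme.Modules.pullbackCongr e.iso.hom_inv_id).app _ ≪≫ (Scheme.Modules.pullbackId _).app _

/-- The attached module of a tensor product. -/
def toPTensor (M N : X.Modules) : toP e (CohB1.tensorMod M N) ≅ CohB1.tensorMod (toP e M) (toP e N) :=
  (Scheme.Modules.pullback e.iso.inv).mapIso (OX.pullTensorIso (BrSev.proj p K) M N) ≪≫
    OX.pullTensorIso e.iso.inv _ _

theorem locFree_toP {M : X.Modules} (hM : FlatMod.IsFinLocFree M) : FlatMod.IsFinLocFree (toP e M) :=
  OX.isFinLocFree_pullback e.iso.inv (OX.isFinLocFree_pullback (BrSev.proj p K) hM)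

/-- Vanishing of cohomology is seen on projective space. -/
theorem subsingleton_iff_toP [IsProper p] {M : X.Modules} (hM : Coh.IsCoh M) (i : ℕ) :
    Subsingleton (Coh.HH X M i) ↔ Subsingleton (Coh.HH (CohB1.ProjSpace n K) (toP e M) i) := by
  letI : X.Over (Spec (CommRingCat.of k)) := ⟨p⟩
  haveI : IsProper (X ↘ Spec (CommRingCat.of k)) := ‹IsProper p›
  letI : (BrSev.bc p K).Over (Spec (CommRingCat.of K)) := ⟨BrSev.bcTo p K⟩
  haveI : IsProper ((BrSev.bc p K) ↘ Spec (CommRingCat.of K)) :=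
    MorphismProperty.pullback_snd p _ ‹IsProper p›
  letI : (CohB1.ProjSpace n K).Over (Spec (CommRingCat.of K)) := ⟨CohB1.ProjSpace.toSpec n K⟩
  haveI : IsProper ((CohB1.ProjSpace n K) ↘ Spec (CommRingCat.of K)) := Chow.isProper_toSpec n K
  haveI := Euler.isNoetherian_of_proper (X := X) k
  haveI := Euler.isNoetherian_of_proper (X := BrSev.bc p K) K
  haveI := hM.1
  have hb : Coh.IsCoh (BrSev.bcMod p K M) := ModDesc.isCoh_pullback _ _ hM
  haveI := hb.1
  have hP : Coh.IsCoh (toP e M) := ModDesc.isCoh_pullback _ _ hb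
  have H : IsPullback (BrSev.proj p K) ((BrSev.bc p K) ↘ Spec (CommRingCat.of K)) (X ↘ Spec (CommRingCat.of k))
      (Spec.map (CommRingCat.ofHom (algebraMap k K))) := IsPullback.of_hasPullback _ _
  have Hi : IsPullback e.iso.inv ((CohB1.ProjSpace n K) ↘ Spec (CommRingCat.of K))
      ((BrSev.bc p K) ↘ Spec (CommRingCat.of K)) (Spec.map (CommRingCat.ofHom (RingHom.id K))) :=
    haveI : IsIso (Spec.map (CommRingCat.ofHom (RingHom.id K))) := by
      rw [show CommRingCat.ofHom (RingHom.id K) = 𝟙 _ from rfl, Spec.map_id]; infer_instance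
    IsPullback.of_horiz_isIso ⟨by
      rw [show CommRingCat.ofHom (RingHom.id K) = 𝟙 _ from rfl, Spec.map_id, Category.comp_id]
      show e.iso.inv ≫ BrSev.bcTo p K = CohB1.ProjSpace.toSpec n K
      rw [← e.comm, e.iso.inv_hom_id_assoc]⟩
  have h1 := CurveMult.finrank_HH_baseChange (algebraMap k K) (BrSev.proj p K) H M i
  have h2 := CurveMult.finrank_HH_baseChange (RingHom.id K) e.iso.inv Hi (BrSev.bcMod p K M) i
  have h3 : Module.finrank K (Coh.HH (CohB1.ProjSpace n K) (toP e M) i) = Module.finrank k (Coh.HH X M i) :=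
    h2.trans h1
  haveI := Euler.finiteDimensional_HH k hM i
  haveI := Euler.finiteDimensional_HH K hP i
  rw [← Module.finrank_zero_iff (R := k), ← Module.finrank_zero_iff (R := K), h3]

theorem subsingleton_of_pow {Y : Scheme.{u}} [Y.Over (Spec (CommRingCat.of K))] {M : Y.Modules} {r i : ℕ}
    (hr : 0 < r) (h : Subsingleton (Coh.HH Y (∐ fun _ : Fin r => M) i)) : Subsingleton (Coh.HH Y M i) := by
  refine ⟨fun x y => ?_⟩
  let s : M ⟶ ∐ fun _ : Fin r => M := Sigma.ι (fun _ : Fin r => M) ⟨0, hr⟩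
  let t : (∐ fun _ : Fin r => M) ⟶ M := Sigma.desc fun _ => 𝟙 M
  have hst : s ≫ t = 𝟙 M := Sigma.ι_desc _ _
  have key : ∀ z, Cohom.hhMap K t i (Cohom.hhMap K s i z) = z := fun z => by
    rw [← Euler.hhMap_comp, hst, Euler.hhMap_id]
  rw [← key x, ← key y, Subsingleton.elim (Cohom.hhMap K s i x) (Cohom.hhMap K s i y)]

/-- `E ⊗ L ⊗ W` on projective space. -/
theorem nonempty_toP_triple {E L W : X.Modules} {a j : ℤ} {r : ℕ}
    (hL : BrSev.IsTwPow e a 1 L) (hW : BrSev.IsTwPow e j r W) :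
    Nonempty (toP e (CohB1.tensorMod (CohB1.tensorMod E L) W) ≅ ∐ fun _ : Fin r => Ft (toP e E) (a + j)) := by
  obtain ⟨l⟩ := hL
  obtain ⟨w⟩ := hW
  let l' : toP e L ≅ Twist.twistProjSpace n K a :=
    (Scheme.Modules.pullback e.iso.inv).mapIso (l ≪≫ coproductUniqueIso fun _ : Fin 1 => e.twist a) ≪≫ twistBack e a
  let w' : toP e W ≅ ∐ fun _ : Fin r => Twist.twistProjSpace n K j :=
    (Scheme.Modules.pullback e.iso.inv).mapIso w ≪≫
      PreservesCoproduct.iso (Scheme.Modules.pullback e.iso.inv) _ ≪≫ Sigma.mapIso fun _ => twistBack e j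
  obtain ⟨g⟩ := CMReg.nonempty_Ft_Ft (toP e E) a j (a + j) rfl
  exact ⟨toPTensor e _ _ ≪≫ Ample.LineData.tensorModMapIso
      (toPTensor e E L ≪≫ Ample.LineData.tensorModMapIso (Iso.refl _) l') w' ≪≫
    GrTilde.tensorModComm _ _ ≪≫ CMReg.tensorSigmaIso _ _ ≪≫
    Sigma.mapIso fun _ => GrTilde.tensorModComm _ _ ≪≫ g⟩

/-- An absolutely split module is split on projective space. -/
theorem exists_split_toP (hn : 1 ≤ n) {E : X.Modules} {s : ℕ} {Ls : Fin s → (BrSev.bc p K).Modules}
    (hLs : ∀ i, PicF.IsInvertible (Ls i)) (h : BrSev.bcMod p K E ≅ ∐ Ls) :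
    ∃ a : Fin s → ℤ, Nonempty (toP e E ≅ split n K a) := by
  choose a ha using fun i => exists_iso_twist e (hLs i)
  exact ⟨a, ⟨(Scheme.Modules.pullback e.iso.inv).mapIso h ≪≫
    PreservesCoproduct.iso (Scheme.Modules.pullback e.iso.inv) Ls ≪≫
    Sigma.mapIso fun i => (Scheme.Modules.pullback e.iso.inv).mapIso (ha i).some ≪≫ twistBack e (a i)⟩⟩

/-- A module split on projective space is absolutely split. -/
theorem exists_absSplit {E : X.Modules} {s : ℕ} {a : Fin s → ℤ} (h : toP e E ≅ split n K a) :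
    ∃ (s : ℕ) (Ls : Fin s → (BrSev.bc p K).Modules), (∀ i, PicF.IsInvertible (Ls i)) ∧
      Nonempty (BrSev.bcMod p K E ≅ ∐ Ls) :=
  ⟨s, fun i => e.twist (a i),
    fun i => PicLoc.isInvertible_pullback e.iso.hom (CMReg.isInvertible_twist (a i)),
    ⟨(backForth e _).symm ≪≫ (Scheme.Modules.pullback e.iso.hom).mapIso h ≪≫
      PreservesCoproduct.iso (Scheme.Modules.pullback e.iso.hom) _⟩⟩

/-- Vanishing criterion. -/
theorem absSplit_of_vanish {E : X.Modules} (hE : FlatMod.IsFinLocFree E)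
    (hv : 1 ≤ n → ∀ (i : ℕ) (d : ℤ), 0 < i → i < n →
      Subsingleton (Coh.HH (CohB1.ProjSpace n K) (Ft (toP e E) d) i)) :
    ∃ (s : ℕ) (Ls : Fin s → (BrSev.bc p K).Modules), (∀ i, PicF.IsInvertible (Ls i)) ∧
      Nonempty (BrSev.bcMod p K E ≅ ∐ Ls) := by
  haveI : IsIntegral (CohB1.ProjSpace n K) := ProjDim.isIntegral_proj K n
  haveI : ConnectedSpace (CohB1.ProjSpace n K) := inferInstance
  obtain ⟨r, hr⟩ := ModelK.exists_rank_connected (locFree_toP e hE)
  rcases Nat.eq_zero_or_pos n with hn | hn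
  · subst hn
    obtain ⟨a, ⟨h⟩⟩ := Groth.Agent.S11486.exists_split_zero K r (toP e E) hr
    exact exists_absSplit e h
  · obtain ⟨a, ⟨h⟩⟩ := Horrocks.exists_split n hn r (toP e E) hr (hv hn)
    exact exists_absSplit e h

/-- An absolutely split module has no intermediate cohomology after twisting. -/
theorem subsingleton_of_absSplit [IsProper p] {E L W : X.Modules} (hE : FlatMod.IsFinLocFree E)
    (hL : FlatMod.IsFinLocFree L) (hW : FlatMod.IsFinLocFree W)
    {s : ℕ} {Ls : Fin s → (BrSev.bc p K).Modules}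
    (hLs : ∀ i, PicF.IsInvertible (Ls i)) (h : BrSev.bcMod p K E ≅ ∐ Ls)
    {a j : ℤ} {r : ℕ} (hLt : BrSev.IsTwPow e a 1 L) (hWt : BrSev.IsTwPow e j r W)
    {i : ℕ} (hi : 0 < i) (hin : i < n) :
    Subsingleton (Coh.HH X (CohB1.tensorMod (CohB1.tensorMod E L) W) i) := by
  letI : X.Over (Spec (CommRingCat.of k)) := ⟨p⟩
  haveI : IsProper (X ↘ Spec (CommRingCat.of k)) := ‹IsProper p›
  haveI := Euler.isNoetherian_of_proper (X := X) k
  obtain ⟨b, ⟨g⟩⟩ := exists_split_toP e (by omega) hLs h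
  obtain ⟨q⟩ := nonempty_toP_triple e (E := E) hLt hWt
  refine (subsingleton_iff_toP e (Euler.isCoh_of_isFinLocFree
    (OX.isFinLocFree_tensor (OX.isFinLocFree_tensor hE hL) hW)) i).2 ?_
  refine CMReg.subsingleton_of_iso q.symm (CMReg.subsingleton_HH_sigma _ fun _ => ?_)
  exact CMReg.subsingleton_of_iso (Ample.LineData.tensorModMapIso g (Iso.refl _)).symm
    (Horrocks.subsingleton_split b (a + j) hi hin)

end GrothLib.ASBun21
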