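import Groth.Agent.Lib.ASBun21.EndSimple
import Groth.Agent.Lib.LocFreeHom.IsoNear
import Groth.Agent.Lib.OX.PullbackTensor
import Groth.Agent.Lib.OX.RHomDual

/-!
# Duals of isotypical modules
-/

set_option autoImplicit false
set_option linter.style.haveILetI false
set_option backward.isDefEq.respectTransparency false
set_option maxHeartbeats 1000000

universe u

open CategoryTheory CategoryTheory.Limits AlgebraicGeometry

noncomputable section

namespace GrothLib.ASBun21

attribute [local instance] LocFreeHom.hasSheafHom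

open LocFreeHom

variable {X : Scheme.{u}}

/-- The projection from a finite power. -/
def powProj (A : X.Modules) (r : ℕ) (i : Fin r) : (∐ fun _ : Fin r => A) ⟶ A :=
  Sigma.desc fun k => if k = i then 𝟙 _ else 0

theorem ι_powProj (A : X.Modules) (r : ℕ) (k i : Fin r) :
    Sigma.ι (fun _ : Fin r => A) k ≫ powProj A r i = if k = i then 𝟙 _ else 0 :=
  Sigma.ι_desc _ _

theorem powProj_total (A : X.Modules) (r : ℕ) :
    ∑ i, powProj A r i ≫ Sigma.ι (fun _ : Fin r => A) i = 𝟙 (∐ fun _ : Fin r => A) := by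
  refine Sigma.hom_ext _ _ fun k => ?_
  rw [Preadditive.comp_sum, Finset.sum_eq_single k]
  · rw [← Category.assoc, ι_powProj, if_pos rfl, Category.id_comp, Category.comp_id]
  · intro i _ hi
    rw [← Category.assoc, ι_powProj, if_neg (Ne.symm hi), zero_comp]
  · intro h; exact absurd (Finset.mem_univ k) h

/-- `Hom(A^r, G)` is `Hom(A, G)^r`. -/
def iHomPowIso (A : X.Modules) (r : ℕ) (G : X.Modules) :
    iHom (∐ fun _ : Fin r => A) G ≅ ∐ fun _ : Fin r => iHom A G where
  hom := ∑ i, hMap (Sigma.ι (fun _ : Fin r => A) i) G ≫ Sigma.ι (fun _ : Fin r => iHom A G) i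
  inv := Sigma.desc fun i => hMap (powProj A r i) G
  hom_inv_id := by
    rw [Preadditive.sum_comp]
    simp only [Category.assoc, Sigma.ι_desc, ← hMap_comp]
    rw [← hMap_sum, powProj_total, hMap_id]
  inv_hom_id := Sigma.hom_ext _ _ fun k => by
    rw [Sigma.ι_desc_assoc, Preadditive.comp_sum, Category.comp_id, Finset.sum_eq_single k]
    · rw [← Category.assoc, ← hMap_comp, ι_powProj, if_pos rfl, hMap_id, Category.id_comp]
    · intro i _ hi
      rw [← Category.assoc, ← hMap_comp, ι_powProj, if_neg hi]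
      have h0 : hMap (0 : A ⟶ A) G = 0 := map_zero (hMapHom A A G)
      rw [h0, zero_comp]
    · intro h; exact absurd (Finset.mem_univ k) h

/-- The dual of an invertible module is any inverse of it. -/
theorem nonempty_iHom_unit_iso_of_inverse {L N : X.Modules} (hL : PicF.IsInvertible L)
    (φ : (T L).obj N ≅ Coh.structureModule X) :
    Nonempty (N ≅ iHom L (Coh.structureModule X)) := by
  have hlf := isFinLocFree_of_isInvertible hL
  suffices h : IsIso (curry φ.hom) from ⟨@asIso _ _ _ _ _ h⟩
  refine (OX.isIso_iff _).2 fun x => ?_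
  obtain ⟨U, hxU, ⟨e₀⟩⟩ := hL x
  let e := ((Scheme.Modules.restrictFunctorIsoPullback U.ι).app L).symm ≪≫ e₀
  refine (ConcreteCategory.isIso_iff_bijective _).2 ?_
  refine bijective_stalk_of_openImmersion U.ι ⟨x, hxU⟩ (curry φ.hom) ?_
  suffices h : IsIso ((Scheme.Modules.pullback U.ι).map (curry φ.hom)) by infer_instance
  haveI := isIso_cmp U.ι hlf (Coh.structureModule X)
  haveI := isEquivalence_T_unit e
  haveI := isIso_ev_of_unit e ((Scheme.Modules.pullback U.ι).obj (Coh.structureModule X))
  let h := (Scheme.Modules.pullback U.ι).map (curry φ.hom) ≫ cmp U.ι L (Coh.structureModule X)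
  haveI : IsIso h := by
    have hu : IsIso (uncurry h) := by
      rw [uncurry_pull_comp_cmp, uncurry_curry]; infer_instance
    haveI : IsIso ((T ((Scheme.Modules.pullback U.ι).obj L)).map h) :=
      IsIso.of_isIso_comp_right _ (ev _ ((Scheme.Modules.pullback U.ι).obj (Coh.structureModule X)))
    exact isIso_of_reflects_iso h (T ((Scheme.Modules.pullback U.ι).obj L))
  exact IsIso.of_isIso_comp_right _ (cmp U.ι L (Coh.structureModule X))

/-- The dual of an isotypical module is isotypical of the inverse type. -/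
theorem nonempty_pullback_dual_iso {Z : Scheme.{u}} (g : Z ⟶ X) {W : X.Modules} (hW : FlatMod.IsFinLocFree W)
    {A B : Z.Modules} (hA : PicF.IsInvertible A) (φ : (T A).obj B ≅ Coh.structureModule Z) {r : ℕ}
    (a : (Scheme.Modules.pullback g).obj W ≅ ∐ fun _ : Fin r => A) :
    Nonempty ((Scheme.Modules.pullback g).obj (iHom W (Coh.structureModule X)) ≅ ∐ fun _ : Fin r => B) := by
  haveI := isIso_cmp g hW (Coh.structureModule X)
  obtain ⟨b⟩ := nonempty_iHom_unit_iso_of_inverse hA φ
  exact ⟨asIso (cmp g W _) ≪≫ iHomCongr a.symm (OX.pullUnitIso g) ≪≫ iHomPowIso A r _ ≪≫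
    Sigma.mapIso fun _ => b.symm⟩

variable {k : Type u} [Field k] (p : X ⟶ Spec (CommRingCat.of k)) [IsProper p]
  (K : Type u) [Field K] [Algebra k K] [Algebra.IsAlgebraic k K]

/-- An indecomposable isotypical of the inverse type has multiplicity bounded by that of the given one. -/
theorem le_of_inverse_types {W W' : X.Modules} (hW : FlatMod.IsFinLocFree W) (hW0 : ¬ IsZero W)
    (hW' : FlatMod.IsFinLocFree W') (hW'i : Indec W') {A B : (BrSev.bc p K).Modules} (hA : PicF.IsInvertible A)
    (hB : PicF.IsInvertible B) (hBi : Indec B) (φ : (T A).obj B ≅ Coh.structureModule (BrSev.bc p K)) {r s : ℕ}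
    (hr : 0 < r) (a : BrSev.bcMod p K W ≅ ∐ fun _ : Fin r => A) (b : BrSev.bcMod p K W' ≅ ∐ fun _ : Fin s => B) :
    s ≤ r := by
  letI : X.Over (Spec (CommRingCat.of k)) := ⟨p⟩
  haveI : IsProper (X ↘ Spec (CommRingCat.of k)) := ‹IsProper p›
  haveI := Euler.isNoetherian_of_proper (X := X) k
  letI := overBC p K
  haveI : IsProper ((BrSev.bc p K) ↘ Spec (CommRingCat.of K)) :=
    MorphismProperty.pullback_snd p _ ‹IsProper p›
  haveI := Euler.isNoetherian_of_proper (X := BrSev.bc p K) K
  have hBc := Euler.isCoh_of_isFinLocFree (Euler.isFinLocFree_of_isInvertible hB)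
  have hD : FlatMod.IsFinLocFree (iHom W (Coh.structureModule X)) :=
    isFinLocFree_iHom hW (OX.isFinLocFree_structureModule X)
  obtain ⟨d⟩ := nonempty_pullback_dual_iso (BrSev.proj p K) hW hA φ a
  obtain ⟨n⟩ := nonempty_pow_npow B r
  obtain ⟨m⟩ := nonempty_pow_npow B s
  obtain ⟨l, ⟨el⟩, hl⟩ := exists_isotypical_decomp p K hD hBi hBc (d ≪≫ n)
  match l, el, hl with
  | [], el, _ =>
    exfalso
    have hz := ((Scheme.Modules.pullback (BrSev.proj p K)).map_isZero (IsZero.of_iso isZero_lsum_nil el)).of_iso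
      (d ≪≫ n).symm
    haveI := finite_hom K hBc hBc
    have := eq_of_npow_iso K hBi (r := r) (s := 0) ⟨hz.iso isZero_lsum_nil⟩
    omega
  | c :: l, el, hl =>
    obtain ⟨hci, hcf, hcc, t, _, htr, ⟨et⟩⟩ := hl c List.mem_cons_self
    obtain ⟨f⟩ := nonempty_iso_of_isotypical p K hcc (Euler.isCoh_of_isFinLocFree hW') hci hW'i et (b ≪≫ m)
    haveI := finite_hom K hBc hBc
    have := eq_of_npow_iso K hBi
      ⟨et.symm ≪≫ (Scheme.Modules.pullback (BrSev.proj p K)).mapIso f ≪≫ b ≪≫ m⟩
    omega

end GrothLib.ASBun21
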