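import Groth.Agent.Lib.ASBun21.HorrocksGen
import Groth.Agent.Lib.ASBun21.Horrocks
import Groth.Agent.Lib.CMReg.Linear
import Groth.Agent.Lib.CurveMult.TwistHom

/-!
# Maps that are surjective on the sections of every twist
-/

set_option autoImplicit false
set_option linter.all false
set_option maxHeartbeats 400000
set_option backward.isDefEq.respectTransparency false

universe u

open CategoryTheory CategoryTheory.Limits AlgebraicGeometry TopologicalSpace Opposite
open GrothLib.Cohom (hhMap hhDelta)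
open GrothLib.CMReg (Ft ftFun)

noncomputable section

namespace GrothLib.ASBun21.GammaSurj

/-- Tensoring by `A` and then by `D` is tensoring by their product. -/
def assocNat {X : Scheme.{u}} (A D B : X.Modules) (g : CohB1.tensorMod A D ≅ B) :
    (DCoh.tensorBi (X := X)).flip.obj A ⋙ (DCoh.tensorBi (X := X)).flip.obj D ≅
      (DCoh.tensorBi (X := X)).flip.obj B :=
  (NatIso.ofComponents (fun M => OX.tensorAssoc M A D) (fun {M M'} f => by
      show ((DCoh.tensorBi (X := X)).map (((DCoh.tensorBi (X := X)).map f).app A)).app D ≫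
          (OX.tensorAssoc M' A D).hom =
        (OX.tensorAssoc M A D).hom ≫ ((DCoh.tensorBi (X := X)).map f).app (CohB1.tensorMod A D)
      rw [OX.tMap_left, OX.tMap_left]
      refine (OX.tensorAssoc_natural f (𝟙 A) (𝟙 D)).trans (congrArg (_ ≫ ·) ?_)
      rw [OX.tMap_id]
      exact (OX.tMap_left f _).symm) :
    (DCoh.tensorBi (X := X)).flip.obj A ⋙ (DCoh.tensorBi (X := X)).flip.obj D ≅
      (DCoh.tensorBi (X := X)).flip.obj (CohB1.tensorMod A D)) ≪≫
    (DCoh.tensorBi (X := X)).flip.mapIso g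

section Gen

variable (k : Type u) [Field k] {X : Scheme.{u}} [X.Over (Spec (CommRingCat.of k))]

/-- Surjectivity transports along natural isomorphisms. -/
theorem surjective_of_natIso {C : Type*} [Category C] {F₁ F₂ : C ⥤ X.Modules} (α : F₁ ≅ F₂) {A B : C}
    (f : A ⟶ B) (q : ℕ) (h : Function.Surjective (hhMap k (F₁.map f) q)) :
    Function.Surjective (hhMap k (F₂.map f) q) := by
  intro x
  obtain ⟨y, hy⟩ := h (hhMap k (α.inv.app B) q x)
  refine ⟨hhMap k (α.hom.app A) q y, ?_⟩
  rw [← Euler.hhMap_comp, ← α.hom.naturality, Euler.hhMap_comp, hy, ← Euler.hhMap_comp, Iso.inv_hom_id_app,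
    Euler.hhMap_id]

/-- Surjectivity passes to a second factor. -/
theorem surjective_of_factor {A B C : X.Modules} (f : A ⟶ B) (g : B ⟶ C) (q : ℕ)
    (h : Function.Surjective (hhMap k (f ≫ g) q)) : Function.Surjective (hhMap k g q) := fun x => by
  obtain ⟨y, hy⟩ := h x
  exact ⟨hhMap k f q y, (Euler.hhMap_comp f g q y).symm.trans hy⟩

include k in
/-- A map from a free module lifts along a map surjective on sections. -/
theorem exists_lift_free {M N : X.Modules} (f : M ⟶ N) (hf : Function.Surjective (hhMap k f 0)) {b : ℕ}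
    (g : FlatMod.freeMod X b ⟶ N) : ∃ g' : FlatMod.freeMod X b ⟶ M, g' ≫ f = g := by
  have h : ∀ l : Fin b, ∃ h : Coh.structureModule X ⟶ M,
      h ≫ f = Sigma.ι (fun _ : Fin b => Coh.structureModule X) l ≫ g := fun l => by
    let s : Γ(N, ⊤) := (Sigma.ι (fun _ : Fin b => Coh.structureModule X) l ≫ g).app ⊤ (FinCov.one X ⊤)
    obtain ⟨y, hy⟩ := hf ((ProjCoh.H0top N).symm s)
    refine ⟨FinCov.homOfSection (ProjCoh.H0top M y), CurveMult.hom_ext_one _ _ ?_⟩
    show f.app ⊤ ((FinCov.homOfSection (ProjCoh.H0top M y)).app ⊤ (FinCov.one X ⊤)) = s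
    rw [FinCov.homOfSection_one, show (homOfLE (le_top : (⊤ : X.Opens) ≤ ⊤)).op = 𝟙 _ from Subsingleton.elim _ _,
      CategoryTheory.Functor.map_id]
    show f.app ⊤ (ProjCoh.H0top M y) = s
    rw [← NegTwist.H0top_hhMap k, hy, AddEquiv.apply_symm_apply]
  choose h hh using h
  exact ⟨Sigma.desc h, Sigma.hom_ext _ _ fun l => by rw [Sigma.ι_desc_assoc]; exact hh l⟩

end Gen

variable {n : ℕ} {k : Type u} [Field k]

local notation "PP" => CohB1.ProjSpace n k

/-- `(M(a))(b) = M(a + b)`, naturally. -/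
def shiftIso (a b c : ℤ) (h : a + b = c) : ftFun (n := n) (k := k) a ⋙ ftFun b ≅ ftFun c :=
  assocNat _ _ _ (CMReg.nonempty_twist_add h).some

/-- Surjectivity in the degree of regularity propagates upwards. -/
theorem surjective_of_regular {E G : (PP).Modules} (hE : Coh.IsCoh E) (φ : G ⟶ E) (m : ℤ)
    (hreg : Curv2.IsMRegular k n E m) (h : Function.Surjective (hhMap k ((ftFun m).map φ) 0))
    (t : ℤ) (ht : m ≤ t) : Function.Surjective (hhMap k ((ftFun t).map φ) 0) := by
  haveI : Module.Finite k (Coh.HH PP (Ft E m) 0) := CMReg.finiteDimensional_Ft hE m 0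
  obtain ⟨b, p, hp, hpb⟩ := CMReg.exists_presentation (A := k)
    (CMReg.spanned_of_regular hE m hreg m le_rfl) CMReg.exists_toGlobal_eq
  haveI := hp
  have hS0 : (ShortComplex.mk (kernel.ι p) p (kernel.condition p)).ShortExact :=
    { exact := ShortComplex.exact_of_f_is_kernel _ (kernelIsKernel p) }
  have hfree : Coh.IsCoh (FlatMod.freeMod PP b) :=
    Euler.isCoh_of_isFinLocFree (OX.isFinLocFree_freeMod _ b)
  have hK : Coh.IsCoh (kernel p) := QCoh.isCoh_kernel p hfree (CMReg.isCoh_Ft hE m)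
  have hKreg : ∀ i : ℕ, 1 ≤ i → i ≤ n → Subsingleton (Coh.HH _ (Ft (kernel p) (1 - i)) i) := by
    intro i hi hin
    obtain ⟨q, rfl⟩ : ∃ q, i = q + 1 := ⟨i - 1, by omega⟩
    rcases Nat.eq_zero_or_pos q with rfl | hq
    · obtain ⟨e3⟩ := CMReg.nonempty_twist_zero (n := n) (k := k)
      have h2 : Subsingleton (Coh.HH _ (FlatMod.freeMod PP b) 1) :=
        CMReg.subsingleton_HH_sigma (X := PP) _ fun _ =>
          CMReg.subsingleton_of_iso e3 (CMReg.subsingleton_HH_twist n le_rfl (by norm_num))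
      have h1 : Subsingleton (Coh.HH _ (kernel p) 1) := by
        refine subsingleton_of_forall_eq 0 fun x => ?_
        obtain ⟨y, rfl⟩ := ((Cohom.exact₁ (A := k) hS0 0) x).1 (Subsingleton.elim _ _)
        obtain ⟨z, rfl⟩ := hpb.2 y
        exact (Cohom.exact₃ (A := k) hS0 0).apply_apply_eq_zero z
      rw [show (1 : ℤ) - ((0 + 1 : ℕ) : ℤ) = 0 by simp]
      exact CMReg.subsingleton_of_iso ((OX.tensorUnitLeftIso _).symm ≪≫
        GrTilde.tensorModComm (X := PP) _ _ ≪≫ Ample.LineData.tensorModMapIso (Iso.refl _) e3.symm) h1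
    · obtain ⟨g⟩ := CMReg.nonempty_Ft_Ft E m (1 - ((q + 1 : ℕ) : ℤ)) (m - q) (by push_cast; ring)
      exact CMReg.sub_X₁ hS0 (CMReg.subsingleton_of_iso g.symm (hreg q hq (by omega)))
        (CMReg.subsingleton_Ft_freeMod b (by omega) (by omega))
  -- surjectivity of the presentation in degrees `t - m`
  have hsurj : Function.Surjective (hhMap k ((ftFun (t - m)).map p) 0) := by
    intro x
    exact ((Cohom.exact₃ (A := k) (CMReg.ft_shortExact hS0 (t - m)) 0) x).1
      (@Subsingleton.elim _ (CMReg.propagate hK 1 hKreg 1 (t - m) le_rfl (by push_cast; omega)) _ _)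
  obtain ⟨p', hp'⟩ := exists_lift_free k ((ftFun m).map φ) h p
  rw [← hp', Functor.map_comp] at hsurj
  exact surjective_of_natIso k (shiftIso m (t - m) t (by ring)) φ 0
    (surjective_of_factor k _ _ 0 hsurj)

/-- Maps out of a twist control sections. -/
theorem surjective_of_factors {E G : (PP).Modules} (φ : G ⟶ E) (d : ℤ)
    (h : ∀ σ : Twist.twistProjSpace n k (-d) ⟶ E, ∃ σ' : Twist.twistProjSpace n k (-d) ⟶ G, σ' ≫ φ = σ) :
    Function.Surjective (hhMap k ((ftFun d).map φ) 0) := by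
  intro x
  haveI : (ftFun (n := n) (k := k) d).IsEquivalence :=
    CurveMult.isEquivalence_tF (Horrocks.invIso d (-d) (add_neg_cancel d)) (Horrocks.invIso (-d) d (neg_add_cancel d))
  let u : Ft (Twist.twistProjSpace n k (-d)) d ≅ Coh.structureModule PP := Horrocks.invIso (-d) d (neg_add_cancel d)
  let s : Γ(Ft E d, ⊤) := ProjCoh.H0top _ x
  obtain ⟨σ', hσ'⟩ := h ((ftFun d).preimage (u.hom ≫ FinCov.homOfSection s))
  refine ⟨hhMap k ((ftFun d).map σ') 0 (hhMap k u.inv 0 ((ProjCoh.H0top _).symm (FinCov.one PP ⊤))), ?_⟩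
  rw [← Euler.hhMap_comp, ← Functor.map_comp, hσ', Functor.map_preimage]
  refine (Euler.hhMap_comp (A := k) u.inv (u.hom ≫ FinCov.homOfSection s) 0 _).symm.trans ?_
  rw [Iso.inv_hom_id_assoc]
  refine (ProjCoh.H0top (Ft E d)).injective ?_
  refine (NegTwist.H0top_hhMap k (FinCov.homOfSection s) _).trans ?_
  rw [AddEquiv.apply_symm_apply, FinCov.homOfSection_one,
    show (homOfLE (le_top : (⊤ : (PP).Opens) ≤ ⊤)).op = 𝟙 _ from Subsingleton.elim _ _,
    CategoryTheory.Functor.map_id]
  rfl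

/-- Surjectivity in a spanned degree gives an epimorphism. -/
theorem epi_of_surjective {E G : (PP).Modules} (φ : G ⟶ E) (d : ℤ) (hsp : CMReg.Spanned (Ft E d))
    (h : Function.Surjective (hhMap k ((ftFun d).map φ) 0)) : Epi φ := by
  haveI : (ftFun (n := n) (k := k) d).IsEquivalence :=
    CurveMult.isEquivalence_tF (Horrocks.invIso d (-d) (add_neg_cancel d)) (Horrocks.invIso (-d) d (neg_add_cancel d))
  suffices Epi ((ftFun d).map φ) from (ftFun d).epi_of_epi_map this
  refine HorrocksGen.epi_of_spanned _ hsp fun s => ?_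
  obtain ⟨y, hy⟩ := h ((ProjCoh.H0top ((ftFun d).obj E)).symm s)
  refine ⟨ProjCoh.H0top _ y, ?_⟩
  rw [← NegTwist.H0top_hhMap k, hy, AddEquiv.apply_symm_apply]

end GrothLib.ASBun21.GammaSurj
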