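import Groth.Agent.Lib.FlatBC.Basic
import Groth.Agent.Lib.AffHom.Basic
import Groth.Agent.Lib.FlatFP.Sheaf
import Groth.Agent.Lib.QCoh.PullbackSections
import Groth.Prelude.Def_KLin
import Groth.Prelude.Def_BrSev
import Mathlib.LinearAlgebra.TensorProduct.Basis

/-!
# Homomorphisms after extension of the ground field, in coordinates

For a basis `b` of `K` over `k` every morphism `F_K ⟶ G_K` is a unique finite combination `Σ b_i • (φ_i)_K`.
-/

set_option autoImplicit false
set_option linter.style.haveILetI false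
set_option backward.isDefEq.respectTransparency false
set_option maxHeartbeats 1000000

universe u

open CategoryTheory CategoryTheory.Limits AlgebraicGeometry TopologicalSpace Opposite TensorProduct

noncomputable section

namespace GrothLib.ASBun21

variable {k : Type u} [Field k] {X : Scheme.{u}} (p : X ⟶ Spec (CommRingCat.of k))
  (K : Type u) [Field K] [Algebra k K] {F G : X.Modules}

/-- The opens of the extension over an open of `X`. -/
abbrev pU (U : X.Opens) : (BrSev.bc p K).Opens :=
  FlatBC.upU (BrSev.proj p K) (BrSev.bcTo p K) ⊤ U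

theorem pU_eq (U : X.Opens) : pU p K U = BrSev.proj p K ⁻¹ᵁ U := inf_top_eq _

theorem pU_mono {U V : X.Opens} (h : U ≤ V) : pU p K U ≤ pU p K V :=
  inf_le_inf_right _ ((BrSev.proj p K).preimage_mono h)

/-- The pullback of a section. -/
def pl (F : X.Modules) (U : X.Opens) (m : Γ(F, U)) : Γ(BrSev.bcMod p K F, pU p K U) :=
  BCCoh.pullRes (BrSev.proj p K) F U (pU p K U) inf_le_left m

/-- A constant, as a function on an open. -/
def scl (U : X.Opens) (c : K) : Γ(BrSev.bc p K, pU p K U) :=
  (BrSev.bcTo p K).appLE ⊤ (pU p K U) inf_le_right ((Scheme.ΓSpecIso (CommRingCat.of K)).inv c)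

theorem scl_res {U V : X.Opens} (h : V ≤ U) (c : K) :
    (BrSev.bc p K).presheaf.map (homOfLE (pU_mono p K h)).op (scl p K U c) = scl p K V c :=
  congr($(Scheme.Hom.appLE_map (BrSev.bcTo p K) inf_le_right (homOfLE (pU_mono p K h)).op)
    ((Scheme.ΓSpecIso (CommRingCat.of K)).inv c))

variable {ι : Type u}

/-- A combination of pulled back sections. -/
def comb (b : ι → K) (F : X.Modules) (U : X.Opens) (n : ι →₀ Γ(F, U)) : Γ(BrSev.bcMod p K F, pU p K U) :=
  n.sum fun i m => scl p K U (b i) • pl p K F U m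

theorem pl_zero (U : X.Opens) : pl p K F U 0 = 0 := by
  have h := BCCoh.pullRes_add (BrSev.proj p K) F U (pU p K U) inf_le_left 0 0
  rw [add_zero] at h
  exact left_eq_add.1 h

theorem comb_single (b : ι → K) (U : X.Opens) (i : ι) (m : Γ(F, U)) :
    comb p K b F U (Finsupp.single i m) = scl p K U (b i) • pl p K F U m :=
  Finsupp.sum_single_index (by rw [pl_zero, smul_zero])

theorem comb_add (b : ι → K) (U : X.Opens) (n n' : ι →₀ Γ(F, U)) :
    comb p K b F U (n + n') = comb p K b F U n + comb p K b F U n' :=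
  Finsupp.sum_add_index' (fun i => by rw [pl_zero, smul_zero]) fun i m m' => by
    rw [pl, BCCoh.pullRes_add, smul_add]; rfl

/-- `comb` as an additive map. -/
def combHom (b : ι → K) (F : X.Modules) (U : X.Opens) :
    (ι →₀ Γ(F, U)) →+ Γ(BrSev.bcMod p K F, pU p K U) :=
  AddMonoidHom.mk' (comb p K b F U) (comb_add p K b U)

theorem comb_res (b : ι → K) {U V : X.Opens} (h : V ≤ U) (n : ι →₀ Γ(F, U)) :
    (BrSev.bcMod p K F).presheaf.map (homOfLE (pU_mono p K h)).op (comb p K b F U n) =
      comb p K b F V (n.mapRange (fun m => F.presheaf.map (homOfLE h).op m) (map_zero _)) := by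
  induction n using Finsupp.induction_linear with
  | zero => simp [comb]
  | add x y hx hy =>
    rw [comb_add, map_add, hx, hy, Finsupp.mapRange_add' (f := (F.presheaf.map (homOfLE h).op).hom), comb_add]
  | single i m =>
    rw [comb_single, Finsupp.mapRange_single, comb_single, Scheme.Modules.map_smul, scl_res p K h]
    exact congrArg _ (BCCoh.pullRes_res (BrSev.proj p K) F h inf_le_left inf_le_left (pU_mono p K h) m)

theorem comb_smul (b : ι → K) (U : X.Opens) (a : Γ(X, U)) (n : ι →₀ Γ(F, U)) :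
    (BrSev.proj p K).appLE U (pU p K U) inf_le_left a • comb p K b F U n =
      comb p K b F U (n.mapRange (fun m => a • m) (smul_zero a)) := by
  induction n using Finsupp.induction_linear with
  | zero => simp [comb]
  | add x y hx hy =>
    rw [comb_add, smul_add, hx, hy, Finsupp.mapRange_add (smul_add a), comb_add]
  | single i m =>
    rw [comb_single, Finsupp.mapRange_single, comb_single, smul_comm]
    exact congrArg _ (BCCoh.pullRes_smul (BrSev.proj p K) F U (pU p K U) inf_le_left a m).symm

theorem pl_map (φ : F ⟶ G) (U : X.Opens) (m : Γ(F, U)) :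
    ((Scheme.Modules.pullback (BrSev.proj p K)).map φ).app (pU p K U) (pl p K F U m) =
      pl p K G U (φ.app U m) := by
  refine (congr($((Scheme.Modules.Hom.mapPresheaf ((Scheme.Modules.pullback (BrSev.proj p K)).map φ)).naturality
    (homOfLE (inf_le_left : pU p K U ≤ BrSev.proj p K ⁻¹ᵁ U)).op) _)).trans ?_
  exact congrArg (((Scheme.Modules.pullback (BrSev.proj p K)).obj G).presheaf.map (homOfLE inf_le_left).op)
    (OX.pullSec_natural (BrSev.proj p K) φ U m).symm

theorem comb_map (b : ι → K) (φ : F ⟶ G) (U : X.Opens) (n : ι →₀ Γ(F, U)) :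
    ((Scheme.Modules.pullback (BrSev.proj p K)).map φ).app (pU p K U) (comb p K b F U n) =
      comb p K b G U (n.mapRange (fun m => φ.app U m) (map_zero _)) := by
  induction n using Finsupp.induction_linear with
  | zero => simp [comb]
  | add x y hx hy =>
    rw [comb_add, map_add, hx, hy, Finsupp.mapRange_add' (f := (φ.app U).hom), comb_add]
  | single i m =>
    rw [comb_single, Finsupp.mapRange_single, comb_single, Scheme.Modules.Hom.app_smul, pl_map]

/-- The basis of the functions on `Spec K`. -/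
theorem exists_basis_spec (b : Module.Basis ι k K) :
    letI := ((Spec.map (CommRingCat.ofHom (algebraMap k K))).appLE ⊤ ⊤ le_rfl).hom.toAlgebra
    ∃ β : Module.Basis ι Γ(Spec (CommRingCat.of k), ⊤) Γ(Spec (CommRingCat.of K), ⊤),
      ∀ i, β i = (Scheme.ΓSpecIso (CommRingCat.of K)).inv (b i) := by
  letI := ((Spec.map (CommRingCat.ofHom (algebraMap k K))).appLE ⊤ ⊤ le_rfl).hom.toAlgebra
  let σ : k ≃+* Γ(Spec (CommRingCat.of k), ⊤) := (Scheme.ΓSpecIso (CommRingCat.of k)).commRingCatIsoToRingEquiv.symm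
  let τ : Γ(Spec (CommRingCat.of K), ⊤) ≃+* K := (Scheme.ΓSpecIso (CommRingCat.of K)).commRingCatIsoToRingEquiv
  have key : ∀ (a : k) (x : Γ(Spec (CommRingCat.of K), ⊤)), τ (σ a • x) = a • τ x := fun a x => by
    have h : τ ((Spec.map (CommRingCat.ofHom (algebraMap k K))).appLE ⊤ ⊤ le_rfl (σ a)) = algebraMap k K a := by
      rw [show (Spec.map (CommRingCat.ofHom (algebraMap k K))).appLE ⊤ ⊤ le_rfl =
        (Spec.map (CommRingCat.ofHom (algebraMap k K))).appTop from Scheme.Hom.app_eq_appLE _ |>.symm]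
      have h1 := congr($(Scheme.ΓSpecIso_naturality (CommRingCat.ofHom (algebraMap k K))) (σ a))
      refine h1.trans (congrArg (algebraMap k K) ?_)
      exact σ.symm_apply_apply a
    show τ ((Spec.map (CommRingCat.ofHom (algebraMap k K))).appLE ⊤ ⊤ le_rfl (σ a) * x) = _
    rw [map_mul, h, Algebra.smul_def]
  let R : Γ(Spec (CommRingCat.of K), ⊤) ≃ₗ[Γ(Spec (CommRingCat.of k), ⊤)] (ι →₀ Γ(Spec (CommRingCat.of k), ⊤)) :=
    { toFun := fun x => (b.repr (τ x)).mapRange σ (map_zero σ)
      map_add' := fun x y => by rw [map_add, map_add, Finsupp.mapRange_add (map_add σ)]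
      map_smul' := fun a x => by
        obtain ⟨a, rfl⟩ := σ.surjective a
        ext i
        simp only [key, map_smul, Finsupp.mapRange_apply, Finsupp.smul_apply, RingHom.id_apply, smul_eq_mul,
          map_mul]
      invFun := fun n => τ.symm (b.repr.symm (n.mapRange σ.symm (map_zero _)))
      left_inv := fun x => by
        dsimp only
        rw [show ((b.repr (τ x)).mapRange σ (map_zero σ)).mapRange σ.symm (map_zero _) = b.repr (τ x) from
          Finsupp.ext fun i => by simp, LinearEquiv.symm_apply_apply, RingEquiv.symm_apply_apply]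
      right_inv := fun n => by
        dsimp only
        rw [RingEquiv.apply_symm_apply, LinearEquiv.apply_symm_apply]
        exact Finsupp.ext fun i => by simp }
  refine ⟨⟨R⟩, fun i => ?_⟩
  show R.symm (Finsupp.single i 1) = _
  show τ.symm (b.repr.symm ((Finsupp.single i (1 : Γ(Spec (CommRingCat.of k), ⊤))).mapRange σ.symm (map_zero _))) = _
  rw [Finsupp.mapRange_single, map_one, b.repr_symm_single, one_smul]
  rfl

/-- **Coordinates of sections.** -/
theorem comb_bijective [G.IsQuasicoherent] (b : Module.Basis ι k K) {U : X.Opens} (hU : IsAffineOpen U) :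
    Function.Bijective (comb p K b G U) := by
  let g := Spec.map (CommRingCat.ofHom (algebraMap k K))
  have h : IsPullback (BrSev.proj p K) (BrSev.bcTo p K) p g := IsPullback.of_hasPullback _ _
  have hle : (⊤ : (Spec (CommRingCat.of K)).Opens) ≤ g ⁻¹ᵁ (⊤ : (Spec (CommRingCat.of k)).Opens) := le_rfl
  obtain ⟨hi, hs⟩ := FlatBC.bij_affine h G hle (isAffineOpen_top _) (isAffineOpen_top _) hU (U := U) le_top
  letI : Algebra Γ(Spec (CommRingCat.of k), ⊤) Γ(Spec (CommRingCat.of K), ⊤) := (g.appLE ⊤ ⊤ hle).hom.toAlgebra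
  letI : Module Γ(Spec (CommRingCat.of k), ⊤)
      (FlatBC.secM (BrSev.bcTo p K) (BrSev.bcMod p K G) ⊤ (pU p K U) inf_le_right) :=
    Module.compHom _ (g.appLE ⊤ ⊤ hle).hom
  haveI : IsScalarTower Γ(Spec (CommRingCat.of k), ⊤) Γ(Spec (CommRingCat.of K), ⊤)
      (FlatBC.secM (BrSev.bcTo p K) (BrSev.bcMod p K G) ⊤ (pU p K U) inf_le_right) :=
    IsScalarTower.of_algebraMap_smul fun _ _ => rfl
  obtain ⟨β, hβ⟩ := exists_basis_spec K b
  let N := FlatBC.secM p G ⊤ U (le_top : U ≤ p ⁻¹ᵁ ⊤)
  classical
  let e := TensorProduct.equivFinsuppOfBasisLeft (N := N) β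
  have hΦ : Function.Bijective ((FlatBC.pullHom h G hle (le_top : U ≤ p ⁻¹ᵁ ⊤)).liftBaseChange
      Γ(Spec (CommRingCat.of K), ⊤)) := ⟨hi, hs⟩
  have key : ∀ n : ι →₀ Γ(G, U), comb p K b G U n =
      (FlatBC.pullHom h G hle (le_top : U ≤ p ⁻¹ᵁ ⊤)).liftBaseChange Γ(Spec (CommRingCat.of K), ⊤) (e.symm n) := by
    intro n
    induction n using Finsupp.induction_linear with
    | zero => exact ((congrArg _ (map_zero e.symm)).trans (map_zero _)).symm
    | add x y hx hy => exact (comb_add p K b U x y).trans ((congrArg₂ (· + ·) hx hy).trans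
        ((congrArg _ (map_add e.symm x y)).trans (map_add _ _ _)).symm)
    | single i m =>
      have he : e.symm (Finsupp.single i (show N from m)) = β i ⊗ₜ (show N from m) := by
        classical
        rw [LinearEquiv.symm_apply_eq]
        refine Finsupp.ext fun j => ?_
        simp [e, TensorProduct.equivFinsuppOfBasisLeft_apply_tmul, Finsupp.single_apply]
      refine Eq.trans ?_ (congrArg _ he).symm
      refine Eq.trans ?_ (LinearMap.liftBaseChange_tmul _ (FlatBC.pullHom h G hle (le_top : U ≤ p ⁻¹ᵁ ⊤)) (β i) (show N from m)).symm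
      rw [comb_single, hβ]
      rfl
  rw [show comb p K b G U = _ from funext key]
  exact hΦ.comp e.symm.bijective

/-- Morphisms out of a pullback agree if they agree on pulled back sections over affine opens. -/
theorem hom_ext_pl {T : (BrSev.bc p K).Modules} {ψ ψ' : BrSev.bcMod p K F ⟶ T}
    (h : ∀ (U : X.affineOpens) (m : Γ(F, U.1)),
      ψ.app (pU p K U.1) (pl p K F U.1 m) = ψ'.app (pU p K U.1) (pl p K F U.1 m)) : ψ = ψ' := by
  apply ((Scheme.Modules.pullbackPushforwardAdjunction (BrSev.proj p K)).homEquiv _ _).injective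
  refine AffHom.hom_ext fun U m => ?_
  have e : pU p K U.1 = BrSev.proj p K ⁻¹ᵁ U.1 := pU_eq p K U.1
  have hinj : Function.Injective (T.presheaf.map (homOfLE e.le).op) := by
    haveI : IsIso (homOfLE e.le) := ⟨homOfLE e.ge, rfl, rfl⟩
    exact (ConcreteCategory.bijective_of_isIso (T.presheaf.map (homOfLE e.le).op)).1
  apply hinj
  have hnat : ∀ φ : BrSev.bcMod p K F ⟶ T,
      T.presheaf.map (homOfLE e.le).op
        (((Scheme.Modules.pullbackPushforwardAdjunction (BrSev.proj p K)).homEquiv _ _ φ).app U.1 m) =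
      φ.app (pU p K U.1) (pl p K F U.1 m) := fun φ => by
    rw [Adjunction.homEquiv_unit]
    exact (congr($((Scheme.Modules.Hom.mapPresheaf φ).naturality (homOfLE e.le).op) _)).symm
  rw [hnat, hnat]
  exact h U m

section Linear

/-- The structure of a scheme over `Spec K`. -/
local instance overBC : (BrSev.bc p K).Over (Spec (CommRingCat.of K)) := ⟨BrSev.bcTo p K⟩

theorem smul_app_pU {A B : (BrSev.bc p K).Modules} (c : K) (f : A ⟶ B) (U : X.Opens)
    (m : Γ(A, pU p K U)) : (c • f).app (pU p K U) m = scl p K U c • f.app (pU p K U) m := by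
  rw [KLin.smul_app_apply]
  rfl

theorem sum_app_pl (b : ι → K) (s : Finset ι) (φ : ι → (F ⟶ G)) (U : X.Opens) (m : Γ(F, U)) :
    (∑ i ∈ s, b i • (Scheme.Modules.pullback (BrSev.proj p K)).map (φ i)).app (pU p K U) (pl p K F U m) =
      comb p K b G U (∑ i ∈ s, Finsupp.single i ((φ i).app U m)) := by
  classical
  induction s using Finset.induction with
  | empty => simp [comb]
  | insert i s hi ih =>
    rw [Finset.sum_insert hi, Finset.sum_insert hi, comb_add, comb_single, ← ih, Scheme.Modules.Hom.add_app]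
    show (b i • (Scheme.Modules.pullback (BrSev.proj p K)).map (φ i)).app _ _ + _ = _
    rw [smul_app_pU, pl_map]

/-- **Independence.** -/
theorem eq_zero_of_sum_eq_zero [G.IsQuasicoherent] (b : Module.Basis ι k K) (s : Finset ι) (φ : ι → (F ⟶ G))
    (h : ∑ i ∈ s, (b i) • (Scheme.Modules.pullback (BrSev.proj p K)).map (φ i) = 0) :
    ∀ i ∈ s, φ i = 0 := by
  classical
  intro i hi
  refine AffHom.hom_ext fun U m => ?_
  have h1 := sum_app_pl p K b s φ U.1 m
  rw [h] at h1
  have h2 : ∑ i ∈ s, Finsupp.single i ((φ i).app U.1 m) = 0 :=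
    (comb_bijective p K b U.2).1 (h1.symm.trans (map_zero (combHom p K b G U.1)).symm)
  have h3 := congrArg (fun n => n i) h2
  simpa [Finsupp.finsetSum_apply, Finsupp.single_apply, hi] using h3

variable [G.IsQuasicoherent] (b : Module.Basis ι k K) (ψ : BrSev.bcMod p K F ⟶ BrSev.bcMod p K G)

/-- The coordinates of the value of a morphism. -/
def crd (U : X.affineOpens) (m : Γ(F, U.1)) : ι →₀ Γ(G, U.1) :=
  (Equiv.ofBijective _ (comb_bijective p K b U.2)).symm (ψ.app (pU p K U.1) (pl p K F U.1 m))

theorem comb_crd (U : X.affineOpens) (m : Γ(F, U.1)) :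
    comb p K b G U.1 (crd p K b ψ U m) = ψ.app (pU p K U.1) (pl p K F U.1 m) :=
  (Equiv.ofBijective _ (comb_bijective p K b U.2)).apply_symm_apply _

theorem crd_add (U : X.affineOpens) (m m' : Γ(F, U.1)) :
    crd p K b ψ U (m + m') = crd p K b ψ U m + crd p K b ψ U m' := by
  refine (comb_bijective p K b U.2).1 ?_
  rw [comb_add, comb_crd, comb_crd, comb_crd, pl, BCCoh.pullRes_add, map_add]
  rfl

theorem crd_smul (U : X.affineOpens) (a : Γ(X, U.1)) (m : Γ(F, U.1)) :
    crd p K b ψ U (a • m) = (crd p K b ψ U m).mapRange (fun m => a • m) (smul_zero a) := by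
  refine (comb_bijective p K b U.2).1 ?_
  rw [← comb_smul, comb_crd, comb_crd, pl, BCCoh.pullRes_smul, Scheme.Modules.Hom.app_smul]
  rfl

theorem crd_res (U V : X.affineOpens) (h : V.1 ≤ U.1) (m : Γ(F, U.1)) :
    crd p K b ψ V (F.presheaf.map (homOfLE h).op m) =
      (crd p K b ψ U m).mapRange (fun m => G.presheaf.map (homOfLE h).op m) (map_zero _) := by
  refine (comb_bijective p K b V.2).1 ?_
  rw [← comb_res, comb_crd, comb_crd]
  refine Eq.trans ?_ (congr($((Scheme.Modules.Hom.mapPresheaf ψ).naturality (homOfLE (pU_mono p K h)).op) _))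
  exact congrArg (ψ.app (pU p K V.1))
    (BCCoh.pullRes_res (BrSev.proj p K) F h inf_le_left inf_le_left (pU_mono p K h) m).symm

theorem exists_coord (i : ι) : ∃ φ : F ⟶ G, ∀ (U : X.affineOpens) (m : Γ(F, U.1)), φ.app U.1 m = crd p K b ψ U m i :=
  AffHom.exists_hom
    (fun U =>
      { toFun := fun m => crd p K b ψ U m i
        map_add' := fun m m' => by rw [crd_add]; rfl
        map_smul' := fun a m => by rw [crd_smul]; rfl })
    fun U V h m => (congrArg (fun n => n i) (crd_res p K b ψ U V h m)).symm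

/-- **Every morphism is a combination.** -/
theorem exists_expansion [CompactSpace X] [F.IsQuasicoherent] (hF : CohB1.IsFT F) :
    ∃ (s : Finset ι) (φ : ι → (F ⟶ G)),
      ψ = ∑ i ∈ s, (b i) • (Scheme.Modules.pullback (BrSev.proj p K)).map (φ i) := by
  classical
  choose φ hφ using exists_coord p K b ψ
  obtain ⟨t, ht⟩ := isCompact_univ.elim_finite_subcover (fun U : X.affineOpens => (U.1 : Set X))
    (fun U => U.1.2) (by
      intro x _
      have := (iSup_affineOpens_eq_top X).ge (x := x) trivial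
      obtain ⟨U, hU⟩ := Opens.mem_iSup.1 this
      exact Set.mem_iUnion.2 ⟨U, hU⟩)
  have hfin : ∀ U : X.affineOpens, ∃ gens : Finset Γ(F, U.1), Submodule.span Γ(X, U.1) (gens : Set Γ(F, U.1)) = ⊤ :=
    fun U => (QCoh.moduleFinite_of_isFiniteType F hF U.2).fg_top
  choose gens hgens using hfin
  refine ⟨t.biUnion fun U => (gens U).biUnion fun m => (crd p K b ψ U m).support, φ, ?_⟩
  set s := t.biUnion fun U => (gens U).biUnion fun m => (crd p K b ψ U m).support with hs
  have hzero : ∀ i, i ∉ s → φ i = 0 := fun i hi => by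
    refine Scheme.Modules.hom_ext _ _ fun W => ?_
    ext m
    refine QCoh.section_eq_zero_of_germ G _ fun x hx => ?_
    obtain ⟨U, hUt, hxU⟩ := Set.mem_iUnion₂.1 (ht (Set.mem_univ x))
    have hU0 : ∀ m : Γ(F, U.1), (φ i).app U.1 m = 0 := fun m => by
      have hm : m ∈ Submodule.span Γ(X, U.1) (gens U : Set Γ(F, U.1)) := hgens U ▸ Submodule.mem_top
      induction hm using Submodule.span_induction with
      | mem m hm =>
        rw [hφ]
        by_contra hne
        exact hi (Finset.mem_biUnion.2 ⟨U, hUt, Finset.mem_biUnion.2 ⟨m, hm, Finsupp.mem_support_iff.2 hne⟩⟩)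
      | zero => exact map_zero _
      | add x y _ _ h1 h2 => rw [map_add, h1, h2, add_zero]
      | smul a x _ h1 => rw [Scheme.Modules.Hom.app_smul, h1, smul_zero]
    letI : Module Γ(X, U.1) (F.presheaf.stalk x) := Module.compHom _ (X.presheaf.germ U.1 x hxU).hom
    obtain ⟨g₀, hg₀, hg⟩ := FlatFP.isLocalizedModule_germ F U.2 hxU
    haveI := hg₀
    obtain ⟨⟨m', c⟩, hmc⟩ := IsLocalizedModule.surj (WeakAss.primeAt x hxU).primeCompl g₀ (F.presheaf.germ W x hx m)
    have hc : IsUnit (X.presheaf.germ U.1 x hxU (c : Γ(X, U.1))) := HomSh.isUnit_germ hxU c.2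
    rw [← QCoh.stalkLin_germ]
    refine hc.smul_eq_zero.1 ?_
    rw [← map_smul, show X.presheaf.germ U.1 x hxU (c : Γ(X, U.1)) • F.presheaf.germ W x hx m =
      F.presheaf.germ U.1 x hxU m' from hmc.trans (hg m'), QCoh.stalkLin_germ, hU0, map_zero]
  refine hom_ext_pl p K fun U m => ?_
  rw [sum_app_pl, ← comb_crd]
  refine congrArg _ ?_
  ext j
  simp only [Finsupp.finsetSum_apply, Finsupp.single_apply, hφ, Finset.sum_ite_eq']
  by_cases hj : j ∈ s
  · simp [hj]
  · simp only [hj, if_false]
    rw [← hφ j U m, hzero j hj]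
    rfl

end Linear

end GrothLib.ASBun21
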