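import Groth.Agent.Lib.ASBun21.Descent
import Groth.Agent.Lib.Euler.Coh
import Groth.Agent.Lib.QCoh.DevissageSummands
import Groth.Agent.Lib.QCoh.SupportExact

/-!
# Isotypical modules: powers, summands and uniqueness
-/

set_option autoImplicit false
set_option linter.style.haveILetI false
set_option backward.isDefEq.respectTransparency false
set_option maxHeartbeats 1000000

universe u v w

open CategoryTheory CategoryTheory.Limits AlgebraicGeometry
open scoped ZeroObject

noncomputable section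

namespace GrothLib.ASBun21

attribute [local instance] Abelian.hasFiniteBiproducts

section Abstract

variable {C : Type w} [Category.{v} C] [Abelian C]

theorem nonempty_npow_congr {X Y : C} (e : X ≅ Y) : ∀ d : ℕ, Nonempty (npow X d ≅ npow Y d)
  | 0 => ⟨Iso.refl _⟩
  | d + 1 => ⟨biprod.mapIso e (nonempty_npow_congr e d).some⟩

theorem nonempty_npow_add (X : C) (a b : ℕ) : Nonempty (npow X (a + b) ≅ npow X a ⊞ npow X b) := by
  have h := nonempty_lsum_append (List.replicate a X) (List.replicate b X)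
  rw [List.replicate_append_replicate] at h
  exact h

theorem nonempty_npow_npow (X : C) (r : ℕ) : ∀ s : ℕ, Nonempty (npow (npow X r) s ≅ npow X (r * s))
  | 0 => by rw [Nat.mul_zero]; exact ⟨Iso.refl _⟩
  | s + 1 => by
    rw [Nat.mul_succ, Nat.add_comm (r * s) r]
    exact ⟨biprod.mapIso (Iso.refl _) (nonempty_npow_npow X r s).some ≪≫ (nonempty_npow_add X r (r * s)).some.symm⟩

theorem npow_swap {A B W : C} {r s : ℕ} (eA : A ≅ npow W r) (eB : B ≅ npow W s) :
    Nonempty (npow A s ≅ npow B r) := by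
  have h₁ : Nonempty (npow A s ≅ npow W (r * s)) :=
    ⟨(nonempty_npow_congr eA s).some ≪≫ (nonempty_npow_npow W r s).some⟩
  have h₂ : Nonempty (npow B r ≅ npow W (s * r)) :=
    ⟨(nonempty_npow_congr eB r).some ≪≫ (nonempty_npow_npow W s r).some⟩
  rw [Nat.mul_comm s r] at h₂
  exact ⟨h₁.some ≪≫ h₂.some.symm⟩

theorem mem_replicate_of_mem {X a : C} {d : ℕ} (h : a ∈ List.replicate d X) : a = X := (List.mem_replicate.1 h).2

/-- Indecomposables with isomorphic positive powers are isomorphic. -/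
theorem nonempty_iso_of_npow_npow (k : Type u) [Field k] [Linear k C] {A B : C} (hA : Indec A) (hB : Indec B)
    [Module.Finite k (A ⟶ A)] {r s : ℕ} (hr : r ≠ 0) (h : Nonempty (npow A r ≅ npow B s)) : Nonempty (A ≅ B) := by
  have hp := map_cls_perm k (List.replicate r A) (List.replicate s B)
    (fun a ha => mem_replicate_of_mem ha ▸ hA)
    (fun a ha => mem_replicate_of_mem ha ▸ ‹Module.Finite k (A ⟶ A)›)
    (fun a ha => mem_replicate_of_mem ha ▸ hB) h
  have hmem : cls A ∈ (List.replicate s B).map cls :=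
    hp.mem_iff.1 (List.mem_map.2 ⟨A, List.mem_replicate.2 ⟨hr, rfl⟩, rfl⟩)
  obtain ⟨b, hb, e⟩ := List.mem_map.1 hmem
  rw [mem_replicate_of_mem hb] at e
  exact cls_eq.1 e.symm

/-- The multiplicity of an indecomposable in a power is well defined. -/
theorem eq_of_npow_iso (k : Type u) [Field k] [Linear k C] {A : C} (hA : Indec A) [Module.Finite k (A ⟶ A)]
    {r s : ℕ} (h : Nonempty (npow A r ≅ npow A s)) : r = s := by
  have hp := map_cls_perm k (List.replicate r A) (List.replicate s A)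
    (fun a ha => mem_replicate_of_mem ha ▸ hA)
    (fun a ha => mem_replicate_of_mem ha ▸ ‹Module.Finite k (A ⟶ A)›)
    (fun a ha => mem_replicate_of_mem ha ▸ hA) h
  simpa using hp.length_eq

/-- A summand of a power of an indecomposable is a power of it. -/
theorem exists_npow_of_summand (k : Type u) [Field k] [Linear k C] {A B M : C} (hM : Indec M)
    [Module.Finite k (A ⟶ A)] [Module.Finite k (B ⟶ B)] {r : ℕ} (h : Nonempty (A ⊞ B ≅ npow M r)) :
    ∃ a b : ℕ, a + b = r ∧ Nonempty (A ≅ npow M a) ∧ Nonempty (B ≅ npow M b) := by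
  obtain ⟨l, hl, ⟨el⟩⟩ := exists_decomp k A
  obtain ⟨m, hm, ⟨em⟩⟩ := exists_decomp k B
  have hp := map_cls_perm k (l ++ m) (List.replicate r M)
    (fun a ha => (List.mem_append.1 ha).elim (fun h => (hl a h).1) fun h => (hm a h).1)
    (fun a ha => (List.mem_append.1 ha).elim (fun h => (hl a h).2) fun h => (hm a h).2)
    (fun a ha => mem_replicate_of_mem ha ▸ hM)
    ⟨(nonempty_lsum_append l m).some ≪≫ (biprod.mapIso el em).symm ≪≫ h.some⟩
  have key : ∀ t : List C, (∀ a ∈ t, cls a ∈ (List.replicate r M).map cls) →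
      Nonempty (lsum t ≅ npow M t.length) := fun t ht => by
    refine nonempty_lsum_of_perm_cls ?_
    rw [List.map_replicate]
    refine List.Perm.of_eq (List.eq_replicate_iff.2 ⟨by simp, fun q hq => ?_⟩)
    obtain ⟨a, ha, rfl⟩ := List.mem_map.1 hq
    obtain ⟨b, hb, e⟩ := List.mem_map.1 (ht a ha)
    rw [mem_replicate_of_mem hb] at e
    exact e.symm
  refine ⟨l.length, m.length, by simpa using hp.length_eq, ⟨el ≪≫ (key l fun a ha => ?_).some⟩,
    ⟨em ≪≫ (key m fun a ha => ?_).some⟩⟩
  · exact hp.mem_iff.1 (List.mem_map.2 ⟨a, List.mem_append_left _ ha, rfl⟩)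
  · exact hp.mem_iff.1 (List.mem_map.2 ⟨a, List.mem_append_right _ ha, rfl⟩)

theorem isZero_of_npow_zero {X A : C} {d : ℕ} (hd : d = 0) (h : Nonempty (X ≅ npow A d)) : IsZero X := by
  subst hd
  exact IsZero.of_iso isZero_lsum_nil h.some

/-- An additive functor commutes with finite sums. -/
theorem nonempty_map_npow {D : Type*} [Category D] [Abelian D] (Φ : C ⥤ D) [Φ.Additive] (X : C) :
    ∀ d : ℕ, Nonempty (Φ.obj (npow X d) ≅ npow (Φ.obj X) d)
  | 0 => ⟨(Φ.map_isZero isZero_lsum_nil).iso isZero_lsum_nil⟩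
  | d + 1 => by
    haveI := preservesBinaryBiproducts_of_preservesBiproducts Φ
    exact ⟨Φ.mapBiprod X (npow X d) ≪≫ biprod.mapIso (Iso.refl _) (nonempty_map_npow Φ X d).some⟩

end Abstract

variable {k : Type u} [Field k] {X : Scheme.{u}} [IsLocallyNoetherian X]

/-- A direct summand of a coherent module is coherent. -/
theorem isCoh_of_retract {A M : X.Modules} (i : A ⟶ M) (q : M ⟶ A) (h : i ≫ q = 𝟙 A) (hM : Coh.IsCoh M) :
    Coh.IsCoh A := by
  have hi : i ≫ (𝟙 M - q ≫ i) = 0 := by
    rw [Preadditive.comp_sub, Category.comp_id, reassoc_of% h, sub_self]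
  have hk : kernel.ι (𝟙 M - q ≫ i) = kernel.ι (𝟙 M - q ≫ i) ≫ q ≫ i := by
    have := kernel.condition (𝟙 M - q ≫ i)
    rw [Preadditive.comp_sub, Category.comp_id, sub_eq_zero] at this
    exact this
  refine QCoh.isCoh_of_iso ?_ (QCoh.isCoh_kernel (𝟙 M - q ≫ i) hM hM)
  exact ⟨kernel.ι _ ≫ q, kernel.lift _ i hi, by
    rw [← cancel_mono (kernel.ι (𝟙 M - q ≫ i)), Category.assoc, Category.assoc, kernel.lift_ι, Category.id_comp]
    exact hk.symm, by rw [kernel.lift_ι_assoc, h]⟩

theorem isCoh_npow {A : X.Modules} (hA : Coh.IsCoh A) : ∀ d : ℕ, Coh.IsCoh (npow A d)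
  | 0 => isCoh_of_retract (0 : npow A 0 ⟶ A) 0 (isZero_lsum_nil.eq_of_src _ _) hA
  | d + 1 => QCoh.isCoh_biprod' hA (isCoh_npow hA d)

end GrothLib.ASBun21
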