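import Groth.Agent.Lib.ASBun21.GammaSurj
import Groth.Agent.Lib.ASBun21.AbsSplit
import Groth.Agent.Lib.CMReg.Resolution
import Groth.Agent.Lib.K0Sub.Basic
import Groth.Agent.Lib.K0Sub.LocFree
import Groth.Agent.Lib.EulerPull.Basic

/-!
# The Grothendieck group of bundles on a Severi–Brauer scheme
-/

set_option autoImplicit false
set_option linter.all false
set_option maxHeartbeats 1000000
set_option backward.isDefEq.respectTransparency false

universe u

open CategoryTheory CategoryTheory.Limits AlgebraicGeometry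
open GrothLib.CMReg (Ft ftFun)
open GrothLib.Cohom (hhMap)

noncomputable section

namespace GrothLib.ASBun21

attribute [local instance] Abelian.hasFiniteBiproducts

variable {k : Type u} [Field k] {X : Scheme.{u}} {p : X ⟶ Spec (CommRingCat.of k)}
  {K : Type u} [Field K] [Algebra k K] {n : ℕ} (e : BrSev.Splitting p K n)

/-- The functor to modules on projective space. -/
abbrev PF : X.Modules ⥤ (CohB1.ProjSpace n K).Modules :=
  Scheme.Modules.pullback (BrSev.proj p K) ⋙ Scheme.Modules.pullback e.iso.inv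

/-- Pullback along the splitting is an equivalence. -/
theorem isEquivalence_inv : (Scheme.Modules.pullback e.iso.inv).IsEquivalence :=
  (CategoryTheory.Equivalence.mk (Scheme.Modules.pullback e.iso.inv) (Scheme.Modules.pullback e.iso.hom)
    (Scheme.Modules.pullbackComp e.iso.hom e.iso.inv ≪≫ Scheme.Modules.pullbackCongr e.iso.hom_inv_id ≪≫
      Scheme.Modules.pullbackId _).symm
    (Scheme.Modules.pullbackComp e.iso.inv e.iso.hom ≪≫ Scheme.Modules.pullbackCongr e.iso.inv_hom_id ≪≫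
      Scheme.Modules.pullbackId _)).isEquivalence_functor

/-- Evaluation at all morphisms from a module of type `O(-d)` is surjective in degree `d`. -/
theorem exists_eval [IsProper p] [IsAlgClosure k K] {E W : X.Modules} (hE : Coh.IsCoh E) (hW : FlatMod.IsFinLocFree W) {d : ℤ}
    {r : ℕ} (hr : 0 < r) (hWt : BrSev.IsTwPow e (-d) r W) :
    ∃ (N : ℕ) (φ : (∐ fun _ : Fin N => W) ⟶ E),
      Function.Surjective (hhMap K ((ftFun d).map ((PF e).map φ)) 0) := by
  classical
  letI := overX p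
  haveI : IsProper (X ↘ Spec (CommRingCat.of k)) := ‹IsProper p›
  haveI := Euler.isNoetherian_of_proper (X := X) k
  letI := overBC p K
  have hWc := Euler.isCoh_of_isFinLocFree hW
  haveI := finite_hom k hWc hE
  haveI := hE.1
  let B := Module.finBasis k (W ⟶ E)
  let φ : (∐ fun _ : Fin (Module.finrank k (W ⟶ E)) => W) ⟶ E := Sigma.desc fun i => B i
  refine ⟨_, φ, GammaSurj.surjective_of_factors _ d fun σ₀ => ?_⟩
  haveI := isEquivalence_inv e
  let σ : e.twist (-d) ⟶ BrSev.bcMod p K E :=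
    (Scheme.Modules.pullback e.iso.inv).preimage ((twistBack e (-d)).hom ≫ σ₀)
  obtain ⟨a⟩ := hWt
  let ι₀ : e.twist (-d) ⟶ BrSev.bcMod p K W :=
    Sigma.ι (fun _ : Fin r => e.twist (-d)) ⟨0, hr⟩ ≫ a.inv
  let π₀ : BrSev.bcMod p K W ⟶ e.twist (-d) := a.hom ≫ Sigma.desc fun _ => 𝟙 _
  have hιπ : ι₀ ≫ π₀ = 𝟙 _ := by
    simp only [ι₀, π₀, Category.assoc, Iso.inv_hom_id_assoc, Sigma.ι_desc]
  obtain ⟨S, hS⟩ := exists_expansion_finset p K hWc (π₀ ≫ σ)
  let L := IntermediateField.adjoin k (S : Set K)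
  haveI : Algebra.IsAlgebraic k K := IsAlgClosure.isAlgebraic
  haveI : Module.Finite k L := IntermediateField.finiteDimensional_adjoin fun x _ => Algebra.IsIntegral.isIntegral x
  obtain ⟨ψ, hψ⟩ := hS L (IntermediateField.subset_adjoin k _) (Module.finBasis k L)
  let g : Fin (Module.finrank k L) → (W ⟶ ∐ fun _ : Fin (Module.finrank k (W ⟶ E)) => W) := fun j =>
    ∑ i, B.repr (ψ j) i • Sigma.ι (fun _ : Fin (Module.finrank k (W ⟶ E)) => W) i
  have hg : ∀ j, g j ≫ φ = ψ j := fun j => by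
    simp only [g, φ, Preadditive.sum_comp, Linear.smul_comp, Sigma.ι_desc]
    exact B.sum_repr (ψ j)
  let σ' : e.twist (-d) ⟶ BrSev.bcMod p K (∐ fun _ : Fin (Module.finrank k (W ⟶ E)) => W) :=
    ι₀ ≫ ∑ j, ((Module.finBasis k L j : L) : K) • (Scheme.Modules.pullback (BrSev.proj p K)).map (g j)
  have hσ' : σ' ≫ (Scheme.Modules.pullback (BrSev.proj p K)).map φ = σ := by
    simp only [σ', Category.assoc, Preadditive.sum_comp, Linear.smul_comp, ← Functor.map_comp, hg]
    rw [← hψ, ← Category.assoc, hιπ, Category.id_comp]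
  refine ⟨(twistBack e (-d)).inv ≫ (Scheme.Modules.pullback e.iso.inv).map σ', ?_⟩
  rw [Category.assoc]
  show (twistBack e (-d)).inv ≫ (Scheme.Modules.pullback e.iso.inv).map σ' ≫
    (Scheme.Modules.pullback e.iso.inv).map ((Scheme.Modules.pullback (BrSev.proj p K)).map φ) = σ₀
  rw [← Functor.map_comp, hσ', Functor.map_preimage, Iso.inv_hom_id_assoc]


/-- The base change functor is exact. -/
theorem shortExact_PF {S : ShortComplex X.Modules} (hS : S.ShortExact) : (S.map (PF e)).ShortExact := by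
  haveI : Flat (Spec.map (CommRingCat.ofHom (algebraMap k K))) := AlgSp.flat_to_field (k := k) _
  haveI : Flat (BrSev.proj p K) :=
    MorphismProperty.of_isPullback (IsPullback.of_hasPullback p (Spec.map (CommRingCat.ofHom (algebraMap k K)))).flip
      inferInstance
  exact EulerPull.shortExact_pullback e.iso.inv (EulerPull.shortExact_pullback (BrSev.proj p K) hS)

/-- An epimorphism upstairs is one downstairs. -/
theorem epi_of_epi_PF [IsProper p] {G E : X.Modules} (φ : G ⟶ E) (hG : Coh.IsCoh G) (hE : Coh.IsCoh E)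
    (h : Epi ((PF e).map φ)) : Epi φ := by
  letI := overX p
  haveI : IsProper (X ↘ Spec (CommRingCat.of k)) := ‹IsProper p›
  haveI := Euler.isNoetherian_of_proper (X := X) k
  haveI := isEquivalence_inv e
  haveI : Epi ((Scheme.Modules.pullback (BrSev.proj p K)).map φ) :=
    (Scheme.Modules.pullback e.iso.inv).epi_of_epi_map h
  haveI := (QCoh.isCoh_cokernel φ hG hE).1
  have h0 : (Scheme.Modules.pullback (BrSev.proj p K)).map (cokernel.π φ) = 0 := by
    rw [← cancel_epi ((Scheme.Modules.pullback (BrSev.proj p K)).map φ), ← Functor.map_comp, cokernel.condition,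
      Functor.map_zero, comp_zero]
  exact Preadditive.epi_of_isZero_cokernel φ (IsZero.of_epi_eq_zero (cokernel.π φ)
    (eq_zero_of_map_eq_zero p K _ h0))

/-- The classes of the indecomposable modules of non-positive type generate this subgroup. -/
def negGen (e : BrSev.Splitting p K n) : AddSubgroup (KZero.K0sub (fun M : X.Modules => FlatMod.IsFinLocFree M)) :=
  AddSubgroup.closure {c : KZero.K0sub (fun M : X.Modules => FlatMod.IsFinLocFree M) |
    ∃ (W : X.Modules) (j : ℕ) (r : ℕ), FlatMod.IsFinLocFree W ∧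
      (¬ IsZero W ∧ ∀ M₁ M₂ : X.Modules, Nonempty (W ≅ M₁ ⊞ M₂) → IsZero M₁ ∨ IsZero M₂) ∧
      0 < r ∧ BrSev.IsTwPow e (-(j : ℤ)) r W ∧
      c = KZero.clSub (fun M : X.Modules => FlatMod.IsFinLocFree M) W}

local notation "P0" => fun M : X.Modules => FlatMod.IsFinLocFree M

theorem clSub_mem_of_iso {A B : X.Modules} (u : A ≅ B) (hA : FlatMod.IsFinLocFree A)
    (h : KZero.clSub P0 B ∈ negGen e) : KZero.clSub P0 A ∈ negGen e := by
  have hB : FlatMod.IsFinLocFree B := fun x => by
    obtain ⟨U, m, hx, ⟨i⟩⟩ := hA x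
    exact ⟨U, m, hx, ⟨(Scheme.Modules.restrictFunctor U.ι).mapIso u.symm ≪≫ i⟩⟩
  have hK : IsZero (kernel u.hom) := isZero_kernel_of_mono u.hom
  have hKf : FlatMod.IsFinLocFree (kernel u.hom) := OX.isFinLocFree_kernel u.hom hA hB
  have h2 := K0Sub.clSub_add (P := P0) (K0Sub.shortExact_kernel u.hom) hKf hA hB
  have h3 : KZero.clSub P0 A = KZero.clSub P0 (kernel u.hom) + KZero.clSub P0 B := h2
  rw [h3, K0Sub.clSub_isZero hK, zero_add]
  exact h

theorem mem_negGen_lsum : ∀ l : List X.Modules,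
    (∀ a ∈ l, FlatMod.IsFinLocFree a ∧ KZero.clSub P0 a ∈ negGen e) →
    FlatMod.IsFinLocFree (lsum l) ∧ KZero.clSub P0 (lsum l) ∈ negGen e := by
  intro l
  induction l with
  | nil =>
    intro _
    refine ⟨fun x => ⟨⊤, 0, trivial, ⟨((Scheme.Modules.restrictFunctor (⊤ : X.Opens).ι).map_isZero isZero_lsum_nil).iso
      (BCCrit.isZero_freeMod_zero _)⟩⟩, ?_⟩
    rw [K0Sub.clSub_isZero isZero_lsum_nil]
    exact zero_mem _
  | cons a l ih =>
    intro h
    obtain ⟨ha, ha'⟩ := h a List.mem_cons_self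
    obtain ⟨hl, hl'⟩ := ih fun b hb => h b (List.mem_cons_of_mem a hb)
    have s : (ShortComplex.mk (biprod.inl : a ⟶ a ⊞ lsum l) biprod.snd biprod.inl_snd).Splitting :=
      { r := biprod.fst
        s := biprod.inr }
    have hs : FlatMod.IsFinLocFree (a ⊞ lsum l) := K0Sub.isFinLocFree_ext _ s.shortExact ha hl
    refine ⟨hs, ?_⟩
    have h2 : KZero.clSub P0 (a ⊞ lsum l) = KZero.clSub P0 a + KZero.clSub P0 (lsum l) :=
      K0Sub.clSub_add (P := P0) s.shortExact ha hs hl
    show KZero.clSub P0 (a ⊞ lsum l) ∈ _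
    rw [h2]
    exact add_mem ha' hl'

theorem mem_negGen_coprod {N : ℕ} (F : Fin N → X.Modules)
    (h : ∀ i, FlatMod.IsFinLocFree (F i) ∧ KZero.clSub P0 (F i) ∈ negGen e) :
    FlatMod.IsFinLocFree (∐ F) ∧ KZero.clSub P0 (∐ F) ∈ negGen e := by
  have hf : FlatMod.IsFinLocFree (∐ F) := OX.isFinLocFree_sigma F fun i => (h i).1
  obtain ⟨u⟩ := nonempty_coprod_lsum F
  refine ⟨hf, clSub_mem_of_iso e u hf (mem_negGen_lsum e _ fun a ha => ?_).2⟩
  obtain ⟨i, rfl⟩ := List.mem_ofFn.1 ha
  exact h i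

/-- Negative twists of the module upstairs have no sections. -/
def NegVanish (E : X.Modules) : Prop :=
  1 ≤ n → ∀ t : ℤ, t < 0 → Subsingleton (Coh.HH (CohB1.ProjSpace n K) (Ft (toP e E) t) 0)

variable [IsProper p] [IsAlgClosure k K]

/-- A sum of negative types, with its class and its vanishing. -/
theorem exists_covering {E : X.Modules} (hE : FlatMod.IsFinLocFree E) (D : Finset ℕ) :
    ∃ (G : X.Modules) (φ : G ⟶ E), FlatMod.IsFinLocFree G ∧ KZero.clSub P0 G ∈ negGen e ∧
      (∀ d ∈ D, Function.Surjective (hhMap K ((ftFun (d : ℤ)).map ((PF e).map φ)) 0)) ∧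
      (1 ≤ n → ∀ t : ℤ, (∀ d ∈ D, t < (d : ℤ)) → Subsingleton (Coh.HH (CohB1.ProjSpace n K) (Ft (toP e G) t) 0)) ∧
      ∀ (t : ℤ) (i : ℕ), 0 < i → i < n → Subsingleton (Coh.HH (CohB1.ProjSpace n K) (Ft (toP e G) t) i) := by
  classical
  letI := overX p
  haveI : IsProper (X ↘ Spec (CommRingCat.of k)) := ‹IsProper p›
  haveI := Euler.isNoetherian_of_proper (X := X) k
  choose W r hW hWi hr hWt using fun d : ℕ => exists_indec_twPow e (-(d : ℤ))
  choose N ψ hψ using fun d : ℕ => exists_eval e (Euler.isCoh_of_isFinLocFree hE) (hW d) (hr d) (hWt d)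
  let l : Fin D.card → ℕ := fun i => (D.equivFin.symm i).1
  let F : Fin D.card → X.Modules := fun i => ∐ fun _ : Fin (N (l i)) => W (l i)
  have hmem := mem_negGen_coprod e F fun i => mem_negGen_coprod e _ fun _ => ⟨hW (l i),
    AddSubgroup.subset_closure ⟨W (l i), l i, r (l i), hW _, hWi _, hr _, hWt _, rfl⟩⟩
  -- the twists of the covering
  have key : ∀ (t : ℤ) (q : ℕ), (∀ i, Subsingleton (Coh.HH (CohB1.ProjSpace n K)
      (Twist.twistProjSpace n K (-(l i : ℤ) + t)) q)) →
      Subsingleton (Coh.HH (CohB1.ProjSpace n K) (Ft (toP e (∐ F)) t) q) := by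
    intro t q h
    let u : toP e (∐ F) ≅ ∐ fun i => ∐ fun _ : Fin (N (l i)) => ∐ fun _ : Fin (r (l i)) =>
        Twist.twistProjSpace n K (-(l i : ℤ)) :=
      (PreservesCoproduct.iso (PF e) F) ≪≫ Sigma.mapIso fun i =>
        PreservesCoproduct.iso (PF e) _ ≪≫ Sigma.mapIso fun _ =>
          (Scheme.Modules.pullback e.iso.inv).mapIso (hWt (l i)).some ≪≫
            PreservesCoproduct.iso (Scheme.Modules.pullback e.iso.inv) _ ≪≫
            Sigma.mapIso fun _ => twistBack e _
    refine CMReg.subsingleton_of_iso (Ample.LineData.tensorModMapIso u (Iso.refl _) ≪≫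
      CMReg.tensorSigmaIso _ _ ≪≫ Sigma.mapIso fun i => CMReg.tensorSigmaIso _ _ ≪≫
        Sigma.mapIso fun _ => CMReg.tensorSigmaIso _ _ ≪≫
          Sigma.mapIso fun _ => (CMReg.nonempty_twist_add (n := n) (k := K) rfl).some).symm ?_
    exact CMReg.subsingleton_HH_sigma _ fun i => CMReg.subsingleton_HH_sigma _ fun _ =>
      CMReg.subsingleton_HH_sigma _ fun _ => h i
  refine ⟨∐ F, Sigma.desc fun i => ψ (l i), hmem.1, hmem.2, fun d hd => ?_, fun hn1 t ht => key t 0 fun i => ?_,
    fun t q hq hqn => key t q fun i => ?_⟩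
  · obtain ⟨i, rfl⟩ : ∃ i, l i = d := ⟨D.equivFin ⟨d, hd⟩, by simp [l]⟩
    have h := hψ (l i)
    rw [show ψ (l i) = Sigma.ι F i ≫ Sigma.desc (fun i => ψ (l i)) from (Sigma.ι_desc (fun i => ψ (l i)) i).symm,
      Functor.map_comp, Functor.map_comp] at h
    exact GammaSurj.surjective_of_factor K _ _ 0 h
  · exact ProjCohom.subsingleton_HH (fun h => by
      have := ht (l i) (D.equivFin.symm i).2
      omega) (fun h => by omega)
  · exact ProjCohom.subsingleton_HH (fun h => by omega) (fun h => by omega)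

/-- The step: a map surjective on all sections has a kernel one step better. -/
theorem exists_step {E : X.Modules} (hE : FlatMod.IsFinLocFree E) :
    ∃ (E' G : X.Modules), FlatMod.IsFinLocFree E' ∧ KZero.clSub P0 G ∈ negGen e ∧
      KZero.clSub P0 G = KZero.clSub P0 E' + KZero.clSub P0 E ∧ NegVanish e E' ∧
      (NegVanish e E → ∀ q : ℕ,
        (∀ (i : ℕ) (t : ℤ), 0 < i → i ≤ q → i < n →
          Subsingleton (Coh.HH (CohB1.ProjSpace n K) (Ft (toP e E) t) i)) →
        ∀ (i : ℕ) (t : ℤ), 0 < i → i ≤ q + 1 → i < n →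
          Subsingleton (Coh.HH (CohB1.ProjSpace n K) (Ft (toP e E') t) i)) := by
  letI := overX p
  haveI : IsProper (X ↘ Spec (CommRingCat.of k)) := ‹IsProper p›
  haveI := Euler.isNoetherian_of_proper (X := X) k
  have hPE : Coh.IsCoh (toP e E) := Euler.isCoh_of_isFinLocFree (locFree_toP e hE)
  obtain ⟨m₀, hm₀⟩ := CMReg.exists_regular hPE
  let m : ℕ := m₀.toNat
  have hm : Curv2.IsMRegular K n (toP e E) (m : ℤ) := fun i hi hin =>
    CMReg.propagate hPE m₀ hm₀ i _ hi (by omega)
  obtain ⟨G, φ, hG, hGm, hsur, hG0, hGi⟩ := exists_covering e hE (Finset.range (m + 1))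
  have hall : ∀ t : ℤ, (0 ≤ t ∨ (1 ≤ n ∧ NegVanish e E)) →
      Function.Surjective (hhMap K ((ftFun t).map ((PF e).map φ)) 0) := by
    intro t ht
    rcases lt_or_ge t 0 with h0 | h0
    · rcases ht with ht | ht
      · omega
      · exact fun x => ⟨0, @Subsingleton.elim _ (ht.2 ht.1 t h0) _ _⟩
    rcases lt_or_ge t (m : ℤ) with h1 | h1
    · obtain ⟨d, rfl⟩ : ∃ d : ℕ, t = (d : ℤ) := ⟨t.toNat, by omega⟩
      exact hsur d (Finset.mem_range.2 (by omega))
    · exact GammaSurj.surjective_of_regular hPE _ (m : ℤ) hm (hsur m (Finset.mem_range.2 (by omega))) t h1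
  haveI : Epi φ := epi_of_epi_PF e φ (Euler.isCoh_of_isFinLocFree hG) (Euler.isCoh_of_isFinLocFree hE)
    (GammaSurj.epi_of_surjective _ (m : ℤ) (CMReg.spanned_of_regular hPE (m : ℤ) hm m le_rfl)
      (hsur m (Finset.mem_range.2 (by omega))))
  have hK : FlatMod.IsFinLocFree (kernel φ) := OX.isFinLocFree_kernel φ hG hE
  have hS := K0Sub.shortExact_kernel φ
  have hSP := shortExact_PF e hS
  have hneg : NegVanish e (kernel φ) := fun hn1 t ht => by
    haveI := (CMReg.ft_shortExact hSP t).mono_f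
    haveI : Subsingleton (Coh.HH (CohB1.ProjSpace n K) (((ShortComplex.mk (kernel.ι φ) φ (kernel.condition φ)).map
      (PF e)).map (ftFun t)).X₂ 0) := hG0 hn1 t fun d _ => by omega
    exact (NegTwist.injective_hhMap_zero K ((ShortComplex.mk (kernel.ι φ) φ (kernel.condition φ)).map (PF e) |>.map
      (ftFun t)).f).subsingleton
  refine ⟨kernel φ, G, hK, hGm, K0Sub.clSub_add (P := P0) hS hK hG hE, hneg, fun hE0 q hq i t hi hiq hin => ?_⟩
  obtain ⟨i, rfl⟩ : ∃ i', i = i' + 1 := ⟨i - 1, by omega⟩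
  rcases Nat.eq_zero_or_pos i with rfl | hi0
  · refine subsingleton_of_forall_eq 0 fun x => ?_
    obtain ⟨y, rfl⟩ := ((Cohom.exact₁ (A := K) (CMReg.ft_shortExact hSP t) 0) x).1
      (@Subsingleton.elim _ (hGi t 1 one_pos hin) _ _)
    obtain ⟨z, rfl⟩ := hall t (Or.inr ⟨by omega, hE0⟩) y
    exact (Cohom.exact₃ (A := K) (CMReg.ft_shortExact hSP t) 0).apply_apply_eq_zero z
  · exact CMReg.sub_X₁ hSP (hq i t hi0 (by omega) (by omega)) (hGi t (i + 1) (by omega) hin)

/-- An absolutely split module without negative sections has its class in the subgroup. -/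
theorem mem_negGen_of_absSplit {E : X.Modules} (hE : FlatMod.IsFinLocFree E) (h0 : NegVanish e E)
    {s : ℕ} {Ls : Fin s → (BrSev.bc p K).Modules} (hLs : ∀ i, PicF.IsInvertible (Ls i))
    (h : BrSev.bcMod p K E ≅ ∐ Ls) : KZero.clSub P0 E ∈ negGen e := by
  classical
  obtain ⟨l, ⟨el⟩, hl⟩ := exists_decomp_twPow e hE hLs h
  refine clSub_mem_of_iso e el hE (mem_negGen_lsum e l fun a ha => ?_).2
  obtain ⟨haf, hai, j, r, hr, ⟨hat⟩⟩ := hl a ha
  refine ⟨haf, AddSubgroup.subset_closure ?_⟩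
  rcases Nat.eq_zero_or_pos n with hn | hn
  · subst hn
    obtain ⟨u⟩ := nonempty_tw_iso_of_dim_zero (K := K) j 0
    exact ⟨a, 0, r, haf, hai, hr, ⟨hat ≪≫ Sigma.mapIso fun _ =>
      (Scheme.Modules.pullback e.iso.hom).mapIso (u ≪≫ eqToIso (by simp))⟩, rfl⟩
  suffices hj : j ≤ 0 by
    refine ⟨a, (-j).toNat, r, haf, hai, hr, ?_, rfl⟩
    rw [show -(((-j).toNat : ℕ) : ℤ) = j by omega]
    exact ⟨hat⟩
  by_contra hj
  -- `a` is a retract of `E`
  let u : E ≅ a ⊞ lsum (l.erase a) := el ≪≫ (nonempty_lsum_perm (List.perm_cons_erase ha)).some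
  have hv : Subsingleton (Coh.HH (CohB1.ProjSpace n K) (Ft (toP e a) (-j)) 0) := by
    haveI h1 : Subsingleton (Coh.HH (CohB1.ProjSpace n K) ((ftFun (-j)).obj ((PF e).obj E)) 0) := h0 hn (-j) (by omega)
    haveI : IsSplitMono ((ftFun (-j)).map ((PF e).map (biprod.inl ≫ u.inv))) := by
      haveI : IsSplitMono (biprod.inl ≫ u.inv) :=
        IsSplitMono.mk' { retraction := u.hom ≫ biprod.fst, id := by simp }
      infer_instance
    exact (NegTwist.injective_hhMap_zero K ((ftFun (-j)).map ((PF e).map (biprod.inl ≫ u.inv)))).subsingleton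
  let w : Ft (toP e a) (-j) ≅ ∐ fun _ : Fin r => Twist.twistProjSpace n K 0 :=
    Ample.LineData.tensorModMapIso ((Scheme.Modules.pullback e.iso.inv).mapIso hat ≪≫
      PreservesCoproduct.iso (Scheme.Modules.pullback e.iso.inv) _ ≪≫ Sigma.mapIso fun _ => twistBack e j) (Iso.refl _) ≪≫
    CMReg.tensorSigmaIso _ _ ≪≫ Sigma.mapIso fun _ => (CMReg.nonempty_twist_add (add_neg_cancel j)).some
  have h2 := subsingleton_of_pow (K := K) hr (CMReg.subsingleton_of_iso w hv)
  have h3 := finrank_twist n K 0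
  rw [Nat.cast_zero, Module.finrank_zero_of_subsingleton, Nat.choose_zero_right] at h3
  exact zero_ne_one h3

/-- Every class is in the subgroup. -/
theorem negGen_eq_top : negGen e = ⊤ := by
  have main : ∀ (c q : ℕ), n ≤ q + 1 + c → ∀ E : X.Modules, FlatMod.IsFinLocFree E → NegVanish e E →
      (∀ (i : ℕ) (t : ℤ), 0 < i → i ≤ q → i < n →
        Subsingleton (Coh.HH (CohB1.ProjSpace n K) (Ft (toP e E) t) i)) →
      KZero.clSub P0 E ∈ negGen e := by
    intro c
    induction c with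
    | zero =>
      intro q hq E hE h0 hv
      obtain ⟨s, Ls, hLs, ⟨h⟩⟩ := absSplit_of_vanish e hE fun _ i d hi hin => hv i d hi (by omega) hin
      exact mem_negGen_of_absSplit e hE h0 hLs h
    | succ c ih =>
      intro q hq E hE h0 hv
      obtain ⟨E', G, hE', hG, hcl, h0', hstep⟩ := exists_step e hE
      have h' := ih (q + 1) (by omega) E' hE' h0' (hstep h0 q hv)
      rw [show KZero.clSub P0 E = KZero.clSub P0 G - KZero.clSub P0 E' by rw [hcl, add_sub_cancel_left]]
      exact sub_mem hG h'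
  have hall : ∀ E : X.Modules, FlatMod.IsFinLocFree E → KZero.clSub P0 E ∈ negGen e := fun E hE => by
    obtain ⟨E', G, hE', hG, hcl, h0', -⟩ := exists_step e hE
    have h' := main n 0 (by omega) E' hE' h0' (fun i t hi hiq => absurd hiq (by omega))
    rw [show KZero.clSub P0 E = KZero.clSub P0 G - KZero.clSub P0 E' by rw [hcl, add_sub_cancel_left]]
    exact sub_mem hG h'
  rw [eq_top_iff]
  intro c hc
  clear hc
  obtain ⟨x, rfl⟩ := QuotientAddGroup.mk_surjective c
  induction x using FreeAbelianGroup.induction_on with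
  | zero => exact zero_mem _
  | of x =>
    have h := hall x.1 x.2
    rwa [K0Sub.clSub_eq_mk x.2] at h
  | neg x hx => exact neg_mem hx
  | add x y hx hy => exact add_mem hx hy

end GrothLib.ASBun21
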