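import Groth.Agent.Lib.ASBun21.VeryAmpleGen
import Groth.Agent.Lib.CurveMult.Embed
import Groth.Agent.Lib.CurveMult.SepBC
import Groth.Agent.Lib.EtSite.FpqcDescent
import Groth.Agent.Lib.Euler.Coh

/-!
# The complete linear system of a module which becomes very ample after extension of the base field
-/

set_option linter.style.haveILetI false
set_option autoImplicit false
set_option backward.isDefEq.respectTransparency false

universe u

open CategoryTheory CategoryTheory.Limits AlgebraicGeometry TopologicalSpace Opposite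
open GrothLib.Ample (Cocycle res)
open GrothLib.CurveMult (locHom)
open scoped TensorProduct

noncomputable section

namespace GrothLib.ASBun21

variable {X X' : Scheme.{u}} (k K : Type u) [Field k] [Field K] [Algebra k K]
  [X.Over (Spec (CommRingCat.of k))] [X'.Over (Spec (CommRingCat.of K))]
  [IsIntegral X] [IsProper (X ↘ Spec (CommRingCat.of k))]
  [IsIntegral X'] [IsProper (X' ↘ Spec (CommRingCat.of K))]
  (g : X' ⟶ X) (H : IsPullback g (X' ↘ Spec (CommRingCat.of K)) (X ↘ Spec (CommRingCat.of k))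
    (Spec.map (CommRingCat.ofHom (algebraMap k K))))

include H in
/-- Pulled back bases of global sections stay bases. -/
theorem exists_basis_sect [Surjective g] (c : Cocycle X) {N : ℕ}
    (hN : Module.finrank k (Coh.HH X (c.twist 1) 0) = N + 1)
    (hN' : Module.finrank K (Coh.HH X' ((c.comap g).twist 1) 0) = N + 1) :
    ∃ a : Fin (N + 1) → c.sect 1 ⊤, ∀ t : (c.comap g).sect 1 ⊤, ∃ lam : Fin (N + 1) → K,
      t = ∑ l, (show Γ(X', ⊤) from Coh.toGlobal (X' ↘ Spec (CommRingCat.of K)) (lam l)) •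
        c.pullSect g (le_top : (⊤ : X'.Opens) ≤ g ⁻¹ᵁ ⊤) (a l) := by
  classical
  haveI := Euler.isNoetherian_of_proper (X := X) k
  haveI := Euler.isNoetherian_of_proper (X := X') K
  haveI := Euler.finiteDimensional_HH k (Euler.isCoh_of_isInvertible (c.isInvertible_twist 1)) 0
  let bas := Module.finBasisOfFinrankEq k (Coh.HH X (c.twist 1) 0) hN
  let a : Fin (N + 1) → c.sect 1 ⊤ := fun l => ProjCoh.H0top (c.twist 1) (bas l)
  let c' := c.comap g
  let a' : Fin (N + 1) → c'.sect 1 ⊤ := fun l => c.pullSect g (le_top : (⊤ : X'.Opens) ≤ g ⁻¹ᵁ ⊤) (a l)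
  let z' : Fin (N + 1) → Coh.HH X' (c'.twist 1) 0 := fun l => (ProjCoh.H0top (c'.twist 1)).symm (a' l)
  obtain ⟨i, hi⟩ := c.exists_mem (genericPoint X)
  obtain ⟨V, hV, hηV, hVi⟩ := exists_isAffineOpen_mem_and_subset (x := genericPoint X) (U := c.D i) hi
  letI := (locHom k V).toAlgebra
  letI := (locHom K (g ⁻¹ᵁ V)).toAlgebra
  obtain ⟨eV, heV⟩ := CurveMult.exists_tensor_equiv k K g H hV
  let π : Coh.HH X (c.twist 1) 0 →ₗ[k] Γ(X, V) :=
    { toFun := fun z => res (le_inf le_top hVi : V ≤ ⊤ ⊓ c.D i)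
        ((show c.sect 1 ⊤ from ProjCoh.H0top (c.twist 1) z).1 i)
      map_add' := fun z w => by
        rw [map_add (ProjCoh.H0top (c.twist 1))]
        exact map_add (res (le_inf le_top hVi : V ≤ ⊤ ⊓ c.D i)) _ _
      map_smul' := fun r z => by
        rw [ProjCoh.H0top_smul, RingHom.id_apply, Algebra.smul_def]
        show res _ (res _ _ * _) = _
        rw [map_mul, Ample.res_res]
        rfl }
  have hπ : Function.Injective π := by
    refine (injective_iff_map_eq_zero _).2 fun z hz => ?_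
    by_contra hz0
    have hη : genericPoint X ∈ c.locus (ProjCoh.H0top (c.twist 1) z : c.sect 1 ⊤) :=
      CurveMult.genericPoint_mem (Euler.locus_nonempty_of_ne_zero c fun h =>
        hz0 ((ProjCoh.H0top (c.twist 1)).injective (h.trans (map_zero (ProjCoh.H0top (c.twist 1))).symm)))
    rw [c.mem_locus_iff _ hi] at hη
    have h : genericPoint X ∈ V ⊓ X.basicOpen ((show c.sect 1 ⊤ from ProjCoh.H0top (c.twist 1) z).1 i) :=
      ⟨hηV, hη⟩
    rw [← Scheme.basicOpen_res _ _ (homOfLE (le_inf le_top hVi : V ≤ ⊤ ⊓ c.D i)).op] at h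
    rw [show X.presheaf.map (homOfLE (le_inf le_top hVi : V ≤ ⊤ ⊓ c.D i)).op
      ((show c.sect 1 ⊤ from ProjCoh.H0top (c.twist 1) z).1 i) = 0 from hz, Scheme.basicOpen_zero] at h
    exact h
  have hli : LinearIndependent K z' := by
    rw [Fintype.linearIndependent_iff]
    intro lam hlam
    have hsum : ∀ (t : Finset (Fin (N + 1))), res (le_inf le_top (g.preimage_mono hVi) : g ⁻¹ᵁ V ≤ ⊤ ⊓ c'.D i)
        ((show c'.sect 1 ⊤ from ProjCoh.H0top (c'.twist 1) (∑ l ∈ t, lam l • z' l)).1 i) =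
          eV (∑ l ∈ t, lam l ⊗ₜ π (bas l)) := by
      intro t
      induction t using Finset.induction_on with
      | empty =>
        rw [Finset.sum_empty, Finset.sum_empty, map_zero eV, map_zero (ProjCoh.H0top (c'.twist 1))]
        exact map_zero (res _)
      | insert l t hl ih =>
        rw [Finset.sum_insert hl, Finset.sum_insert hl, map_add (ProjCoh.H0top (c'.twist 1)), map_add eV]
        refine (map_add (res _) _ _).trans (congrArg₂ (· + ·) ?_ ih)
        rw [ProjCoh.H0top_smul, AddEquiv.apply_symm_apply]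
        show res _ (res _ _ * (c.pullSect g _ (a l)).1 i) = _
        rw [map_mul, Ample.res_res, show lam l ⊗ₜ[k] π (bas l) = algebraMap K (K ⊗[k] Γ(X, V)) (lam l) *
          (1 ⊗ₜ π (bas l)) by simp [Algebra.TensorProduct.algebraMap_apply], map_mul, AlgEquiv.commutes, heV]
        refine congrArg₂ (· * ·) rfl ?_
        rw [c.pullSect_apply]
        exact (Ample.res_appLE g _ _ _).trans (Ample.appLE_res g _ _ _).symm
    have h0 : ∑ l, lam l ⊗ₜ[k] π (bas l) = 0 := eV.injective (by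
      rw [← hsum, hlam, map_zero eV, map_zero (ProjCoh.H0top (c'.twist 1))]
      exact map_zero (res _))
    have h1 : ∑ l, lam l ⊗ₜ[k] bas l = 0 :=
      (Module.Flat.lTensor_preserves_injective_linearMap (M := K) π hπ) (by
        rw [map_sum, map_zero]
        exact h0)
    intro l
    have h2 := congrArg (fun t => (bas.baseChange K).repr t l) h1
    simpa [map_sum, Finsupp.single_apply] using h2
  have hspan : Submodule.span K (Set.range z') = ⊤ := by
    haveI := Euler.finiteDimensional_HH K (Euler.isCoh_of_isInvertible (c'.isInvertible_twist 1)) 0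
    exact hli.span_eq_top_of_card_eq_finrank (by rw [Fintype.card_fin]; exact hN'.symm)
  refine ⟨a, fun t => ?_⟩
  have ht : (ProjCoh.H0top (c'.twist 1)).symm t ∈ Submodule.span K (Set.range z') := hspan ▸ Submodule.mem_top
  rw [Submodule.mem_span_range_iff_exists_fun] at ht
  obtain ⟨lam, hlam⟩ := ht
  refine ⟨lam, ?_⟩
  have h := congrArg (ProjCoh.H0top (c'.twist 1)) hlam
  rw [AddEquiv.apply_symm_apply, map_sum] at h
  refine h.symm.trans (Finset.sum_congr rfl fun l _ => ?_)
  rw [ProjCoh.H0top_smul, AddEquiv.apply_symm_apply]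

include H in
/-- If the extension of `L` is very ample, a basis of the sections of `L` gives a closed immersion. -/
theorem exists_closedImmersion_of_veryAmple (c : Cocycle X) {L : X.Modules} (eL : L ≅ c.twist 1)
    (hva : RelProj.IsRelVeryAmple (X' ↘ Spec (CommRingCat.of K)) ((c.comap g).twist 1)) {N : ℕ}
    (hN : Module.finrank k (Coh.HH X (c.twist 1) 0) = N + 1)
    (hN' : Module.finrank K (Coh.HH X' ((c.comap g).twist 1) 0) = N + 1) :
    ∃ i : X ⟶ CohB1.ProjSpace N k, IsClosedImmersion i ∧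
      i ≫ CohB1.ProjSpace.toSpec N k = X ↘ Spec (CommRingCat.of k) ∧
      Nonempty ((Scheme.Modules.pullback i).obj (Twist.twistProjSpace N k 1) ≅ L) := by
  classical
  let φ := CommRingCat.ofHom (algebraMap k K)
  have hff : Flat (Spec.map φ) ∧ Surjective (Spec.map φ) := (flat_and_surjective_SpecMap_iff φ).2 (by
    rw [CommRingCat.hom_ofHom, RingHom.faithfullyFlat_algebraMap_iff]; infer_instance)
  haveI : Surjective g := MorphismProperty.of_isPullback (P := @Surjective) H.flip hff.2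
  haveI : IsAffineHom g := BCCoh.isAffineHom_bc _ _ _ g H
  obtain ⟨a, ha⟩ := exists_basis_sect k K g H c hN hN'
  let c' := c.comap g
  let a' : Fin (N + 1) → c'.sect 1 ⊤ := fun l => c.pullSect g (le_top : (⊤ : X'.Opens) ≤ g ⁻¹ᵁ ⊤) (a l)
  have hloc : ∀ l, c'.locus (a' l) = g ⁻¹ᵁ c.locus (a l) := fun l => c.locus_pullSect g (a l)
  have hcov : ∀ x : X, ∃ j, x ∈ c.locus (a j) := by
    intro x
    obtain ⟨x', rfl⟩ := g.surjective x
    obtain ⟨E, φE, -, hp⟩ := VA.isRelVeryAmple_iff.mp hva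
    obtain ⟨U, e, hx, -⟩ := hp x'
    have hU : U.1 = ⊤ := eq_top_iff.2 fun y _ => by
      have hy : (X' ↘ Spec (CommRingCat.of K)) x' ∈ U.1 := VA.Tp_le _ φE U e hx
      haveI : Subsingleton (Spec (CommRingCat.of K)) := inferInstanceAs (Subsingleton (PrimeSpectrum K))
      rwa [Subsingleton.elim y ((X' ↘ Spec (CommRingCat.of K)) x')]
    obtain ⟨t, ht⟩ : ∃ t : c'.sect 1 ⊤, x' ∈ c'.locus t := by
      obtain ⟨U, hUa⟩ := U
      subst hU
      exact ⟨φE.app ⊤ e, (VA.genOpen_twist c' (show c'.sect 1 ⊤ from φE.app ⊤ e)).le hx⟩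
    obtain ⟨lam, hlam⟩ := ha t
    obtain ⟨i, hi⟩ := c'.exists_mem x'
    rw [c'.mem_locus_iff_isUnit _ hi] at ht
    by_contra hne
    push Not at hne
    have hnon : ∀ l, ¬ IsUnit (X'.presheaf.germ (⊤ ⊓ c'.D i) x' ⟨trivial, hi⟩ ((a' l).1 i)) := fun l h => by
      have h2 : x' ∈ c'.locus (a' l) := (c'.mem_locus_iff_isUnit _ hi).2 h
      rw [hloc] at h2
      exact hne l h2
    have : ∀ s : Finset (Fin (N + 1)), X'.presheaf.germ (⊤ ⊓ c'.D i) x' ⟨trivial, hi⟩
        ((∑ l ∈ s, (show Γ(X', ⊤) from Coh.toGlobal (X' ↘ Spec (CommRingCat.of K)) (lam l)) • a' l : c'.sect 1 ⊤).1 i) ∈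
          IsLocalRing.maximalIdeal (X'.presheaf.stalk x') := by
      intro s
      induction s using Finset.induction_on with
      | empty =>
        rw [Finset.sum_empty, show ((0 : c'.sect 1 ⊤).1 i) = 0 from rfl, map_zero]
        exact zero_mem _
      | insert l s hl ih =>
        rw [Finset.sum_insert hl, show ∀ u v : c'.sect 1 ⊤, (u + v).1 i = u.1 i + v.1 i from fun u v => rfl, map_add]
        refine add_mem ?_ ih
        rw [c'.smul_apply, map_mul]
        exact Ideal.mul_mem_left _ _ (hnon l)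
    exact (IsLocalRing.mem_maximalIdeal _).1 (this Finset.univ) (hlam ▸ ht)
  haveI : X.IsSeparated := ⟨by
    rw [← terminal.comp_from (X ↘ Spec (CommRingCat.of k))]; infer_instance⟩
  have haff' : ∀ j, IsAffineOpen (g ⁻¹ᵁ c.locus (a j)) := fun j =>
    hloc j ▸ (isAffineOpen_locus_and_gen c' hva (a' j)).1
  have haff : ∀ j, IsAffineOpen (c.locus (a j)) := by
    intro j
    let U := c.locus (a j)
    haveI : IsAffine (g ⁻¹ᵁ U : Scheme.{u}) := haff' j
    have sq : IsPullback (g ∣_ U) ((g ⁻¹ᵁ U).ι ≫ (X' ↘ Spec (CommRingCat.of K)))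
        (U.ι ≫ (X ↘ Spec (CommRingCat.of k))) (Spec.map φ) :=
      (isPullback_morphismRestrict g U).paste_vert H
    have h : IsAffineHom (U.ι ≫ (X ↘ Spec (CommRingCat.of k))) :=
      MorphismProperty.of_isPullback_of_descendsAlong (P := @IsAffineHom) (Q := EtSite.fpqcCov.{u}) sq.flip
        ⟨⟨hff.2, hff.1⟩, inferInstance⟩ (isAffineHom_of_isAffine _)
    exact isAffine_of_isAffineHom (U.ι ≫ (X ↘ Spec (CommRingCat.of k)))
  refine CurveMult.exists_closedImmersion_of_sections k c eL a hcov haff fun j b => ?_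
  let U := c.locus (a j)
  letI := (locHom k U).toAlgebra
  letI := (locHom K (g ⁻¹ᵁ U)).toAlgebra
  obtain ⟨eU, heU⟩ := CurveMult.exists_tensor_equiv k K g H (haff j)
  let T : Subring Γ(X, U) := Subring.closure
      (Set.range (fun r : k => res (le_top : c.locus (a j) ≤ ⊤) (Coh.toGlobal (X ↘ Spec (CommRingCat.of k)) r)) ∪
        {g | ∃ l, g • c.sectRes (le_top : c.locus (a j) ≤ ⊤) (a j) = c.sectRes le_top (a l)})
  let S : Subalgebra k Γ(X, U) :=
    { T with algebraMap_mem' := fun r => Subring.subset_closure (Or.inl ⟨r, rfl⟩) }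
  let F : (K ⊗[k] S) →ₐ[K] (K ⊗[k] Γ(X, U)) := Algebra.TensorProduct.map (AlgHom.id K K) S.val
  let R' : Subring Γ(X', g ⁻¹ᵁ U) := F.range.toSubring.comap eU.symm.toRingHom
  have hK : ∀ r : K, res (le_top : g ⁻¹ᵁ U ≤ ⊤) (Coh.toGlobal (X' ↘ Spec (CommRingCat.of K)) r) ∈ R' := fun r => by
    show eU.symm (algebraMap K Γ(X', g ⁻¹ᵁ U) r) ∈ F.range
    rw [AlgEquiv.commutes]
    exact Subalgebra.algebraMap_mem _ r
  have key : ∀ (W : X'.Opens) (hW : W = g ⁻¹ᵁ U), (∀ y : Γ(X', W), y ∈ Subring.closure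
        (Set.range (fun r : Γ(Spec (CommRingCat.of K), ⊤) =>
          res (le_top : W ≤ ⊤) ((X' ↘ Spec (CommRingCat.of K)).appTop r)) ∪
        {x | ∃ t : c'.sect 1 ⊤, x • c'.sectRes (le_top : W ≤ ⊤) (a' j) = c'.sectRes le_top t})) →
      ∀ y : Γ(X', g ⁻¹ᵁ U), y ∈ R' := by
    rintro W rfl h y
    refine (Subring.closure_le.2 ?_) (h y)
    rintro x (⟨r, rfl⟩ | ⟨t, ht⟩)
    · show res (le_top : g ⁻¹ᵁ U ≤ ⊤) ((X' ↘ Spec (CommRingCat.of K)).appTop r) ∈ R'
      rw [← Iso.hom_inv_id_apply (Scheme.ΓSpecIso (CommRingCat.of K)) r]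
      exact hK _
    · obtain ⟨lam, hlam⟩ := ha t
      choose f hf using fun l => c.exists_ratio (a j) (a l)
      have hgen : ∀ l, c'.sectRes (le_top : g ⁻¹ᵁ U ≤ ⊤) (a' l) =
          (g.appLE U (g ⁻¹ᵁ U) le_rfl).hom (f l) • c'.sectRes (le_top : g ⁻¹ᵁ U ≤ ⊤) (a' j) := fun l => by
        rw [CurveMult.sectRes_pullSect g c, CurveMult.sectRes_pullSect g c, ← CurveMult.pullSect_smul' g c,
          (hf l).1]
      have hx : x = ∑ l, res (le_top : g ⁻¹ᵁ U ≤ ⊤) (Coh.toGlobal (X' ↘ Spec (CommRingCat.of K)) (lam l)) *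
          (g.appLE U (g ⁻¹ᵁ U) le_rfl).hom (f l) := by
        refine c'.smul_injective_of_le_locus (a' j) (hloc j).ge ?_
        show x • _ = _ • _
        rw [ht, hlam, map_sum, Finset.sum_smul]
        refine Finset.sum_congr rfl fun l _ => ?_
        rw [c'.sectRes_smul, mul_smul]
        exact congrArg (_ • ·) (hgen l)
      rw [hx]
      refine sum_mem fun l _ => mul_mem (hK _) ?_
      show eU.symm ((g.appLE U (g ⁻¹ᵁ U) le_rfl).hom (f l)) ∈ F.range
      rw [← heU, AlgEquiv.symm_apply_apply]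
      refine ⟨1 ⊗ₜ ⟨f l, Subring.subset_closure (Or.inr ⟨l, (hf l).1.symm⟩)⟩, ?_⟩
      show F _ = _
      simp [F]
  have hR : ∀ y : Γ(X', g ⁻¹ᵁ U), y ∈ R' :=
    key _ (hloc j) (isAffineOpen_locus_and_gen c' hva (a' j)).2
  have hsurj : Function.Surjective (S.val.toLinearMap.lTensor K) := by
    intro z
    obtain ⟨w, hw⟩ : eU.symm (eU z) ∈ F.range := hR (eU z)
    rw [AlgEquiv.symm_apply_apply] at hw
    refine ⟨w, ?_⟩
    rw [← hw]
    exact congrFun (congrArg DFunLike.coe (TensorProduct.ext' fun x y => rfl :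
      S.val.toLinearMap.lTensor K = (F.restrictScalars k).toLinearMap)) w
  obtain ⟨t, rfl⟩ := (Module.FaithfullyFlat.lTensor_surjective_iff_surjective k K _).1 hsurj b
  exact t.2

end GrothLib.ASBun21
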