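import Groth.Prelude.Def_GSzCSA
import Mathlib.Algebra.MvPolynomial.Monad
import Mathlib.Algebra.Central.Defs
import Mathlib.Algebra.Group.UniqueProds.Basic
import Mathlib.LinearAlgebra.Finsupp.LinearCombination
import Mathlib.LinearAlgebra.FiniteDimensional.Lemmas
import Mathlib.LinearAlgebra.Dimension.FreeAndStrongRankCondition
import Mathlib.RingTheory.MvPolynomial.Ideal
import Mathlib.RingTheory.Localization.FractionRing
import Mathlib.RingTheory.Localization.Integer
import Mathlib.RingTheory.MvPolynomial.Basic
import Mathlib.RingTheory.RootsOfUnity.PrimitiveRoots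
import Mathlib.RingTheory.TensorProduct.Maps

/-!
# Generic tensor products of symbol algebras as quantum tori

For a family of roots of unity, the monomials twisted by the automorphisms rescaling the variables span a
division algebra over the field generated by the powers of the variables.
-/

set_option autoImplicit false
set_option linter.style.haveILetI false
set_option maxHeartbeats 200000
set_option synthInstance.maxHeartbeats 40000

universe u

open MvPolynomial
open scoped TensorProduct

noncomputable section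

namespace GrothLib.Quantum

/-- The variables: a pair for each factor, `(j, false)` being rescaled by powers of `(j, true)`. -/
abbrev Var (m : ℕ) := Fin m × Bool

theorem free_sub {K A : Type u} [Field K] [Ring A] [Algebra K A] (S : Subalgebra K A) : Module.Free K ↥S :=
  inferInstance

instance free_subEnd {K F : Type u} [Field K] [Field F] [Algebra K F] (S : Subalgebra K (Module.End K F)) :
    Module.Free K ↥S := free_sub S

theorem bijective_of_surjective {K A B : Type u} [Field K] [Ring A] [Algebra K A] [Ring B] [Algebra K B]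
    [FiniteDimensional K A] [FiniteDimensional K B] (φ : A →ₐ[K] B)
    (hfr : Module.finrank K A = Module.finrank K B) (h : Function.Surjective φ) : Function.Bijective φ :=
  ⟨(LinearMap.injective_iff_surjective_of_finrank_eq_finrank hfr (f := φ.toLinearMap)).2 h, h⟩

/-- Two commuting subalgebras generating a third of the product dimension. -/
theorem nonempty_tensor_subalgebra {K A : Type u} [Field K] [Ring A] [Algebra K A] (S T U : Subalgebra K A)
    [Module.Finite K S] [Module.Finite K T] [Module.Finite K U] (hS : S ≤ U) (hT : T ≤ U)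
    (hc : ∀ a ∈ S, ∀ b ∈ T, Commute a b) (hU : U ≤ S ⊔ T)
    (hfr : Module.finrank K S * Module.finrank K T = Module.finrank K U) :
    Nonempty (S ⊗[K] T ≃ₐ[K] U) := by
  let φ : S ⊗[K] T →ₐ[K] U :=
    Algebra.TensorProduct.lift (Subalgebra.inclusion hS) (Subalgebra.inclusion hT)
      fun a b => Subtype.ext (hc a a.2 b b.2)
  have hsurj : Function.Surjective φ := by
    have h : U ≤ φ.range.map U.val := hU.trans (sup_le
      (fun a ha => ⟨⟨a, hS ha⟩, ⟨(⟨a, ha⟩ : S) ⊗ₜ 1, (Algebra.TensorProduct.lift_tmul _ _ _ _ _).trans (by simp)⟩, rfl⟩)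
      (fun b hb => ⟨⟨b, hT hb⟩, ⟨1 ⊗ₜ (⟨b, hb⟩ : T), (Algebra.TensorProduct.lift_tmul _ _ _ _ _).trans (by simp)⟩, rfl⟩))
    intro z
    obtain ⟨w, hw, hwz⟩ := h z.2
    obtain ⟨v, hv⟩ := hw
    exact ⟨v, hv.trans (Subtype.ext hwz)⟩
  exact ⟨AlgEquiv.ofBijective φ (bijective_of_surjective φ
    ((Module.finrank_tensorProduct).trans hfr) hsurj)⟩

section Chi

variable {k : Type u} [Field k] {m : ℕ} (ω : Fin m → k)

/-- The bicharacter. -/
def chi (e f : Var m →₀ ℕ) : k := ∏ j, ω j ^ (e (j, true) * f (j, false))

theorem chi_add_left (e e' f : Var m →₀ ℕ) : chi ω (e + e') f = chi ω e f * chi ω e' f := by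
  rw [chi, chi, chi, ← Finset.prod_mul_distrib]
  exact Finset.prod_congr rfl fun j _ => by rw [Finsupp.add_apply, add_mul, pow_add]

theorem chi_add_right (e f f' : Var m →₀ ℕ) : chi ω e (f + f') = chi ω e f * chi ω e f' := by
  rw [chi, chi, chi, ← Finset.prod_mul_distrib]
  exact Finset.prod_congr rfl fun j _ => by rw [Finsupp.add_apply, mul_add, pow_add]

theorem chi_zero_left (f : Var m →₀ ℕ) : chi ω 0 f = 1 := by simp [chi]

theorem chi_zero_right (e : Var m →₀ ℕ) : chi ω e 0 = 1 := by simp [chi]

variable {n : Fin m → ℕ} (hn : ∀ j, 0 < n j) (hω : ∀ j, IsPrimitiveRoot (ω j) (n j))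

include hn hω in
theorem chi_ne_zero (e f : Var m →₀ ℕ) : chi ω e f ≠ 0 :=
  Finset.prod_ne_zero_iff.2 fun j _ => pow_ne_zero _ ((hω j).ne_zero (hn j).ne')

theorem chi_single_false_left (j : Fin m) (f : Var m →₀ ℕ) : chi ω (Finsupp.single (j, false) 1) f = 1 :=
  Finset.prod_eq_one fun l _ => by simp

theorem chi_single_true_right (e : Var m →₀ ℕ) (j : Fin m) : chi ω e (Finsupp.single (j, true) 1) = 1 :=
  Finset.prod_eq_one fun l _ => by simp

theorem chi_single_true_left (j : Fin m) (f : Var m →₀ ℕ) :
    chi ω (Finsupp.single (j, true) 1) f = ω j ^ f (j, false) := by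
  rw [chi, Finset.prod_eq_single j]
  · simp
  · intro l _ hl; simp [Ne.symm hl]
  · simp

theorem chi_single_false_right (e : Var m →₀ ℕ) (j : Fin m) :
    chi ω e (Finsupp.single (j, false) 1) = ω j ^ e (j, true) := by
  rw [chi, Finset.prod_eq_single j]
  · simp
  · intro l _ hl; simp [Ne.symm hl]
  · simp

theorem chi_single_comm {w w' : Var m} (h : w.1 ≠ w'.1) :
    chi ω (Finsupp.single w 1) (Finsupp.single w' 1) = 1 := by
  obtain ⟨j, _ | _⟩ := w
  · exact chi_single_false_left ω j _
  · rw [chi_single_true_left]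
    obtain ⟨l, _ | _⟩ := w' <;> simp_all [Ne.symm h]

/-- Scaling the exponents. -/
def nh (n : Fin m → ℕ) (h : Var m →₀ ℕ) : Var m →₀ ℕ := Finsupp.equivFunOnFinite.symm fun w => n w.1 * h w

@[simp] theorem nh_apply (h : Var m →₀ ℕ) (w : Var m) : nh n h w = n w.1 * h w := rfl

include hω in
theorem chi_nh_left (h f : Var m →₀ ℕ) : chi ω (nh n h) f = 1 :=
  Finset.prod_eq_one fun j _ => by rw [nh_apply, mul_assoc, pow_mul, (hω j).pow_eq_one, one_pow]

include hω in
theorem chi_nh_right (e h : Var m →₀ ℕ) : chi ω e (nh n h) = 1 :=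
  Finset.prod_eq_one fun j _ => by
    rw [nh_apply, mul_comm (e _), mul_assoc, pow_mul, (hω j).pow_eq_one, one_pow]

/-- Rescaling the variables. -/
def tauP (e : Var m →₀ ℕ) : MvPolynomial (Var m) k →ₐ[k] MvPolynomial (Var m) k :=
  aeval fun w => C (chi ω e (Finsupp.single w 1)) * X w

theorem tauP_monomial (e f : Var m →₀ ℕ) (c : k) : tauP ω e (monomial f c) = monomial f (c * chi ω e f) := by
  induction f using Finsupp.induction generalizing c with
  | zero => simp [tauP, chi_zero_right]
  | single_add w a f _ _ ih =>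
    have hs : ∀ a : ℕ, chi ω e (Finsupp.single w a) = chi ω e (Finsupp.single w 1) ^ a := by
      intro a
      induction a with
      | zero => simp [chi_zero_right]
      | succ a iha => rw [Finsupp.single_add, chi_add_right, iha, pow_succ]
    rw [show monomial (Finsupp.single w a + f) c = X w ^ a * monomial f c by rw [monomial_single_add],
      map_mul, map_pow, ih, chi_add_right, hs]
    simp only [tauP, aeval_X, mul_pow, ← C_pow]
    rw [mul_assoc, ← monomial_single_add, C_mul_monomial]
    congr 1
    ring

theorem coeff_tauP (e f : Var m →₀ ℕ) (p : MvPolynomial (Var m) k) :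
    coeff f (tauP ω e p) = coeff f p * chi ω e f := by
  induction p using MvPolynomial.induction_on' with
  | monomial g c =>
    rw [tauP_monomial, coeff_monomial, coeff_monomial]
    by_cases hg : g = f
    · subst hg; simp
    · simp [hg]
  | add p q hp hq => simp [map_add, hp, hq, add_mul]

include hn hω in
theorem tauP_injective (e : Var m →₀ ℕ) : Function.Injective (tauP ω e) := fun p q h =>
  MvPolynomial.ext _ _ fun f => by
    have := congrArg (coeff f) h
    rw [coeff_tauP, coeff_tauP] at this
    exact mul_right_cancel₀ (chi_ne_zero ω hn hω e f) this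

/-- Raising the variables to powers. -/
def expand' (n : Fin m → ℕ) : MvPolynomial (Var m) k →ₐ[k] MvPolynomial (Var m) k := aeval fun w => X w ^ n w.1

theorem expand'_monomial (h : Var m →₀ ℕ) (c : k) : expand' n (monomial h c) = monomial (nh n h) c := by
  induction h using Finsupp.induction generalizing c with
  | zero =>
    rw [show nh n (0 : Var m →₀ ℕ) = 0 by ext; simp]
    simp [expand']
  | single_add w a f _ _ ih =>
    rw [show nh n (Finsupp.single w a + f) = Finsupp.single w (n w.1 * a) + nh n f by
      ext v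
      by_cases hv : w = v
      · subst hv; simp [mul_add]
      · simp [Finsupp.single_eq_of_ne (Ne.symm hv)]]
    rw [monomial_single_add, monomial_single_add, map_mul, map_pow, ih]
    simp [expand', pow_mul]

end Chi

section Ops

variable {k : Type u} [Field k] {m : ℕ} {ω : Fin m → k} {n : Fin m → ℕ}
  (hn : ∀ j, 0 < n j) (hω : ∀ j, IsPrimitiveRoot (ω j) (n j))
  {K : Type u} [Field K] [Algebra (MvPolynomial (Var m) k) K] [IsFractionRing (MvPolynomial (Var m) k) K]
  [Algebra k K] [IsScalarTower k (MvPolynomial (Var m) k) K]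
  {F : Type u} [Field F] [Algebra (MvPolynomial (Var m) k) F] [IsFractionRing (MvPolynomial (Var m) k) F]
  [Algebra k F] [IsScalarTower k (MvPolynomial (Var m) k) F]
  [Algebra K F] [IsScalarTower k K F]
  (hpow : ∀ w : Var m, algebraMap K F (algebraMap (MvPolynomial (Var m) k) K (X w)) =
    algebraMap (MvPolynomial (Var m) k) F (X w) ^ n w.1)

omit [IsFractionRing (MvPolynomial (Var m) k) K] [IsFractionRing (MvPolynomial (Var m) k) F] in
include hpow in
theorem algebraMap_expand' (p : MvPolynomial (Var m) k) :
    algebraMap K F (algebraMap _ K p) = algebraMap _ F (expand' n p) := by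
  induction p using MvPolynomial.induction_on with
  | C c =>
    rw [← MvPolynomial.algebraMap_eq, AlgHom.commutes, ← IsScalarTower.algebraMap_apply k (MvPolynomial (Var m) k) K,
      ← IsScalarTower.algebraMap_apply k (MvPolynomial (Var m) k) F, ← IsScalarTower.algebraMap_apply k K F]
  | add p q hp hq => simp only [map_add, hp, hq]
  | mul_X p w hp => simp only [map_mul, hp, hpow, expand', aeval_X, map_pow]

variable (F) in
/-- The automorphism rescaling the variables. -/
def tau (e : Var m →₀ ℕ) : F →+* F :=
  IsFractionRing.lift (K := F) (g := (algebraMap (MvPolynomial (Var m) k) F).comp (tauP ω e).toRingHom)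
    ((IsFractionRing.injective _ F).comp (tauP_injective ω hn hω e))

omit [Algebra k F] [IsScalarTower k (MvPolynomial (Var m) k) F] in
theorem tau_algebraMap (e : Var m →₀ ℕ) (p : MvPolynomial (Var m) k) :
    tau hn hω F e (algebraMap _ F p) = algebraMap _ F (tauP ω e p) :=
  IsFractionRing.lift_algebraMap _ p

include hpow in
theorem tau_fixed (e : Var m →₀ ℕ) (c : K) : tau hn hω F e (algebraMap K F c) = algebraMap K F c := by
  refine RingHom.congr_fun (IsLocalization.ringHom_ext (nonZeroDivisors (MvPolynomial (Var m) k))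
    (j := (tau hn hω F e).comp (algebraMap K F)) (k := algebraMap K F) (RingHom.ext fun p => ?_)) c
  simp only [RingHom.comp_apply, algebraMap_expand' hpow, tau_algebraMap]
  refine congrArg _ (MvPolynomial.ext _ _ fun f => ?_)
  induction p using MvPolynomial.induction_on' with
  | monomial h a =>
    rw [expand'_monomial, tauP_monomial, chi_nh_right ω hω, mul_one]
  | add p q hp hq => simp only [map_add, coeff_add, hp, hq]

/-- Multiplication by a monomial after rescaling. -/
def op (e : Var m →₀ ℕ) : Module.End K F where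
  toFun x := algebraMap _ F (monomial e (1 : k)) * tau hn hω F e x
  map_add' x y := by rw [map_add, mul_add]
  map_smul' c x := by
    rw [Algebra.smul_def, map_mul, tau_fixed hn hω hpow, RingHom.id_apply, Algebra.smul_def]
    ring

theorem op_apply (e : Var m →₀ ℕ) (x : F) :
    op hn hω hpow e x = algebraMap _ F (monomial e (1 : k)) * tau hn hω F e x := rfl

theorem op_algebraMap (e : Var m →₀ ℕ) (p : MvPolynomial (Var m) k) :
    op hn hω hpow e (algebraMap _ F p) = algebraMap _ F (monomial e 1 * tauP ω e p) := by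
  rw [op_apply, tau_algebraMap, map_mul]

theorem op_one (e : Var m →₀ ℕ) : op hn hω hpow e 1 = algebraMap _ F (monomial e (1 : k)) := by
  rw [op_apply, map_one (tau hn hω F e), mul_one]

theorem tau_tau (e f : Var m →₀ ℕ) (x : F) :
    tau hn hω F e (tau hn hω F f x) = tau hn hω F (e + f) x := by
  refine RingHom.congr_fun (IsLocalization.ringHom_ext (nonZeroDivisors (MvPolynomial (Var m) k))
    (j := (tau hn hω F e).comp (tau hn hω F f)) (k := tau hn hω F (e + f)) (RingHom.ext fun p => ?_)) x
  simp only [RingHom.comp_apply, tau_algebraMap]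
  exact congrArg _ (MvPolynomial.ext _ _ fun g => by
    rw [coeff_tauP, coeff_tauP, coeff_tauP, chi_add_left]; ring)

theorem op_mul_op (e f : Var m →₀ ℕ) :
    op hn hω hpow e * op hn hω hpow f = chi ω e f • op hn hω hpow (e + f) := by
  refine LinearMap.ext fun x => ?_
  rw [Module.End.mul_apply, LinearMap.smul_apply, op_apply, op_apply, op_apply, map_mul, tau_algebraMap,
    tau_tau, tauP_monomial, ← mul_assoc, ← map_mul, monomial_mul, Algebra.smul_def, ← mul_assoc,
    IsScalarTower.algebraMap_apply k (MvPolynomial (Var m) k) F, MvPolynomial.algebraMap_eq]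
  rw [← mul_assoc, ← map_mul, C_mul_monomial]
  simp

theorem op_nh (h : Var m →₀ ℕ) :
    op hn hω hpow (nh n h) = algebraMap K (Module.End K F) (algebraMap _ K (monomial h (1 : k))) := by
  refine LinearMap.ext fun x => ?_
  rw [Module.algebraMap_end_apply, Algebra.smul_def, algebraMap_expand' hpow, expand'_monomial, op_apply]
  congr 1
  refine RingHom.congr_fun (IsLocalization.ringHom_ext (nonZeroDivisors (MvPolynomial (Var m) k))
    (j := tau hn hω F (nh n h)) (k := RingHom.id F) (RingHom.ext fun p => ?_)) x
  simp only [RingHom.comp_apply, RingHom.id_apply, tau_algebraMap]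
  exact congrArg _ (MvPolynomial.ext _ _ fun g => by rw [coeff_tauP, chi_nh_left ω hω, mul_one])

theorem op_zero : op hn hω hpow 0 = 1 := by
  have h := op_nh hn hω hpow 0
  rw [show nh n (0 : Var m →₀ ℕ) = 0 by ext; simp] at h
  rw [h]
  simp

theorem op_add_nh (h r : Var m →₀ ℕ) :
    op hn hω hpow (nh n h + r) = algebraMap _ K (monomial h (1 : k)) • op hn hω hpow r := by
  have h1 := op_mul_op hn hω hpow (nh n h) r
  rw [chi_nh_left ω hω, one_smul, op_nh] at h1
  rw [← h1, Algebra.smul_def]

/-- The box of reduced exponents supported on a set of factors. -/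
def box (n : Fin m → ℕ) (T : Finset (Fin m)) : Finset (Var m →₀ ℕ) :=
  (Fintype.piFinset fun w : Var m => if w.1 ∈ T then Finset.range (n w.1) else {0}).map
    Finsupp.equivFunOnFinite.symm.toEmbedding

theorem mem_box {T : Finset (Fin m)} (hn : ∀ j, 0 < n j) {e : Var m →₀ ℕ} :
    e ∈ box n T ↔ ∀ w : Var m, e w < n w.1 ∧ (w.1 ∉ T → e w = 0) := by
  simp only [box, Finset.mem_map_equiv, Equiv.symm_symm, Fintype.mem_piFinset, Finsupp.equivFunOnFinite_apply]
  refine forall_congr' fun w => ?_
  split_ifs with h
  · simp [h]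
  · simp only [Finset.mem_singleton, h, not_false_eq_true, forall_const]
    exact ⟨fun h0 => ⟨h0 ▸ hn w.1, h0⟩, fun h0 => h0.2⟩

theorem card_box (T : Finset (Fin m)) : (box n T).card = ∏ j ∈ T, n j ^ 2 := by
  rw [box, Finset.card_map, Fintype.card_piFinset, Fintype.prod_prod_type]
  rw [← Finset.prod_subset (Finset.subset_univ T)]
  · exact Finset.prod_congr rfl fun j hj => by simp [hj, sq]
  · intro j _ hj
    simp [hj]

/-- The operator of a polynomial. -/
def opP : MvPolynomial (Var m) k →ₗ[k] Module.End K F :=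
  (MvPolynomial.basisMonomials (Var m) k).constr k (op hn hω hpow)

theorem opP_monomial (e : Var m →₀ ℕ) (c : k) :
    opP hn hω hpow (monomial e c) = c • op hn hω hpow e := by
  rw [show monomial e c = c • monomial e (1 : k) by rw [MvPolynomial.smul_eq_C_mul, C_mul_monomial, mul_one], map_smul]
  congr 1
  rw [show monomial e (1 : k) = MvPolynomial.basisMonomials (Var m) k e by simp, opP, Module.Basis.constr_basis]

theorem opP_algebraMap (Q R : MvPolynomial (Var m) k) :
    opP hn hω hpow Q (algebraMap _ F R) =
      algebraMap _ F (∑ e ∈ Q.support, monomial e (coeff e Q) * tauP ω e R) := by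
  conv_lhs => rw [Q.as_sum, map_sum, LinearMap.sum_apply]
  rw [map_sum]
  refine Finset.sum_congr rfl fun e _ => ?_
  rw [opP_monomial, LinearMap.smul_apply, op_algebraMap, Algebra.smul_def,
    IsScalarTower.algebraMap_apply k (MvPolynomial (Var m) k) F, ← map_mul, MvPolynomial.algebraMap_eq,
    ← mul_assoc, C_mul_monomial, mul_one]

theorem opP_one (Q : MvPolynomial (Var m) k) : opP hn hω hpow Q 1 = algebraMap _ F Q := by
  rw [← map_one (algebraMap (MvPolynomial (Var m) k) F), opP_algebraMap]
  simp only [map_one, mul_one]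
  rw [← Q.as_sum]

theorem opP_expand (p : MvPolynomial (Var m) k) (r : Var m →₀ ℕ) :
    algebraMap _ K p • op hn hω hpow r = opP hn hω hpow (expand' n p * monomial r (1 : k)) := by
  induction p using MvPolynomial.induction_on' with
  | monomial h c =>
    rw [expand'_monomial, monomial_mul, mul_one, opP_monomial, op_add_nh, ← algebraMap_smul K c, smul_smul]
    congr 1
    rw [IsScalarTower.algebraMap_apply k (MvPolynomial (Var m) k) K, ← map_mul, MvPolynomial.algebraMap_eq,
      C_mul_monomial, mul_one]
  | add p q hp hq => rw [map_add, add_smul, hp, hq, map_add, add_mul, map_add]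

include hn hω hpow in
/-- Reduced monomials are linearly independent over the smaller field. -/
theorem eq_zero_of_sum_monomial {T : Finset (Fin m)} (c : (Var m →₀ ℕ) → K)
    (h : ∑ r ∈ box n T, c r • algebraMap _ F (monomial r (1 : k)) = 0) (r : Var m →₀ ℕ) (hr : r ∈ box n T) :
    c r = 0 := by
  classical
  obtain ⟨d, hd⟩ := IsLocalization.exist_integer_multiples_of_finset (nonZeroDivisors (MvPolynomial (Var m) k))
    ((box n T).image c)
  have hp : ∀ r ∈ box n T, ∃ p, algebraMap _ K p = algebraMap _ K (d : MvPolynomial (Var m) k) * c r := fun r hr => by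
    obtain ⟨p, hp⟩ := hd (c r) (Finset.mem_image_of_mem c hr)
    exact ⟨p, hp.trans (Algebra.smul_def _ _)⟩
  choose! p hp using hp
  have h1 : algebraMap (MvPolynomial (Var m) k) F (∑ r ∈ box n T, expand' n (p r) * monomial r 1) = 0 := by
    rw [map_sum]
    calc ∑ r ∈ box n T, algebraMap _ F (expand' n (p r) * monomial r 1)
        = algebraMap K F (algebraMap _ K (d : MvPolynomial (Var m) k)) *
            ∑ r ∈ box n T, c r • algebraMap _ F (monomial r (1 : k)) := by
          rw [Finset.mul_sum]
          refine Finset.sum_congr rfl fun r hr => ?_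
          rw [map_mul, ← algebraMap_expand' hpow, hp r hr, map_mul, Algebra.smul_def, mul_assoc]
      _ = 0 := by rw [h, mul_zero]
  have h2 := (map_eq_zero_iff _ (IsFractionRing.injective (MvPolynomial (Var m) k) F)).1 h1
  have hinj : ∀ (g g' r' : Var m →₀ ℕ), r' ∈ box n T → nh n g' + r' = nh n g + r → r' = r ∧ g' = g := by
    intro g g' r' hr' he
    have hw : ∀ w, r' w = r w ∧ g' w = g w := by
      intro w
      have h3 := DFunLike.congr_fun he w
      simp only [Finsupp.add_apply, nh_apply] at h3
      have hlt := ((mem_box hn).1 hr w).1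
      have hlt' := ((mem_box hn).1 hr' w).1
      have h4 := congrArg (· % n w.1) h3
      simp only [Nat.mul_add_mod, Nat.mod_eq_of_lt hlt, Nat.mod_eq_of_lt hlt'] at h4
      refine ⟨h4, ?_⟩
      rw [h4, Nat.add_right_cancel_iff] at h3
      exact Nat.eq_of_mul_eq_mul_left (hn w.1) h3
    exact ⟨Finsupp.ext fun w => (hw w).1, Finsupp.ext fun w => (hw w).2⟩
  have hexp : ∀ (q : MvPolynomial (Var m) k) (g r' : Var m →₀ ℕ), r' ∈ box n T →
      coeff (nh n g + r) (expand' n q * monomial r' 1) = if r' = r then coeff g q else 0 := by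
    intro q g r' hr'
    induction q using MvPolynomial.induction_on' with
    | monomial g' a =>
      rw [expand'_monomial, monomial_mul, mul_one, coeff_monomial, coeff_monomial]
      by_cases he : nh n g' + r' = nh n g + r
      · obtain ⟨e1, e2⟩ := hinj g g' r' hr' he
        simp [e1, e2]
      · rw [if_neg he]
        by_cases e1 : r' = r
        · subst e1
          rw [if_pos rfl, if_neg]
          rintro rfl
          exact he rfl
        · rw [if_neg e1]
    | add a b ha hb =>
      rw [map_add, add_mul, coeff_add, ha, hb]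
      split_ifs <;> simp
  have h3 : p r = 0 := MvPolynomial.ext _ _ fun g => by
    have h4 := congrArg (coeff (nh n g + r)) h2
    rw [coeff_sum, Finset.sum_congr rfl (fun r' hr' => hexp (p r') g r' hr'), Finset.sum_ite_eq',
      if_pos hr, coeff_zero] at h4
    rw [h4, coeff_zero]
  have h5 := hp r hr
  rw [h3, map_zero, eq_comm, mul_eq_zero] at h5
  exact h5.resolve_left ((map_ne_zero_iff _ (IsFractionRing.injective _ K)).2 (nonZeroDivisors.coe_ne_zero d))

/-- The algebra generated by the variables of a set of factors. -/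
def alg (T : Finset (Fin m)) : Subalgebra K (Module.End K F) :=
  Algebra.adjoin K ((fun w => op hn hω hpow (Finsupp.single w 1)) '' {w : Var m | w.1 ∈ T})

theorem op_single_mem {T : Finset (Fin m)} {w : Var m} (hw : w.1 ∈ T) :
    op hn hω hpow (Finsupp.single w 1) ∈ alg hn hω hpow T :=
  Algebra.subset_adjoin ⟨w, hw, rfl⟩

theorem op_mem {T : Finset (Fin m)} (e : Var m →₀ ℕ) (he : ∀ w : Var m, w.1 ∉ T → e w = 0) :
    op hn hω hpow e ∈ alg hn hω hpow T := by
  have hstep : ∀ (e f : Var m →₀ ℕ), op hn hω hpow e ∈ alg hn hω hpow T → op hn hω hpow f ∈ alg hn hω hpow T →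
      op hn hω hpow (e + f) ∈ alg hn hω hpow T := by
    intro e f h1 h2
    have h := Subalgebra.smul_mem _ (Subalgebra.mul_mem _ h1 h2) (algebraMap k K (chi ω e f)⁻¹)
    rwa [algebraMap_smul, op_mul_op, smul_smul, inv_mul_cancel₀ (chi_ne_zero ω hn hω e f), one_smul] at h
  induction e using Finsupp.induction with
  | zero => rw [op_zero]; exact Subalgebra.one_mem _
  | single_add w a f hwf ha ih =>
    have hw : w.1 ∈ T := by
      by_contra hw
      have := he w hw
      simp [Finsupp.notMem_support_iff.1 hwf, ha] at this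
    refine hstep _ _ ?_ (ih fun v hv => (Nat.add_eq_zero_iff.1 (he v hv)).2)
    clear ih he hwf ha f
    induction a with
    | zero => rw [Finsupp.single_zero, op_zero]; exact Subalgebra.one_mem _
    | succ a iha => rw [Finsupp.single_add]; exact hstep _ _ iha (op_single_mem hn hω hpow hw)

theorem alg_toSubmodule (T : Finset (Fin m)) :
    Subalgebra.toSubmodule (alg hn hω hpow T) = Submodule.span K (op hn hω hpow '' ↑(box n T)) := by
  have hred : ∀ g : Var m →₀ ℕ, (∀ w : Var m, w.1 ∉ T → g w = 0) →
      op hn hω hpow g ∈ Submodule.span K (op hn hω hpow '' ↑(box n T)) := by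
    intro g hg
    let h : Var m →₀ ℕ := Finsupp.equivFunOnFinite.symm fun w => g w / n w.1
    let r : Var m →₀ ℕ := Finsupp.equivFunOnFinite.symm fun w => g w % n w.1
    have hg' : g = nh n h + r := by
      ext w; simp [h, r, Nat.div_add_mod]
    have hr : r ∈ box n T := (mem_box hn).2 fun w => ⟨Nat.mod_lt _ (hn w.1), fun hw => by simp [r, hg w hw]⟩
    rw [hg', op_add_nh]
    exact Submodule.smul_mem _ _ (Submodule.subset_span ⟨r, hr, rfl⟩)
  refine le_antisymm (fun z hz => ?_) (Submodule.span_le.2 ?_)
  · let M := Submodule.span K (op hn hω hpow '' ↑(box n T))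
    have h1 : (1 : Module.End K F) ∈ M := by rw [← op_zero hn hω hpow]; exact hred 0 (by simp)
    have hmul : ∀ a ∈ M, ∀ b ∈ M, a * b ∈ M := by
      intro a ha b hb
      induction ha using Submodule.span_induction with
      | mem a ha =>
        obtain ⟨e, he, rfl⟩ := ha
        induction hb using Submodule.span_induction with
        | mem b hb =>
          obtain ⟨f, hf, rfl⟩ := hb
          rw [op_mul_op, ← algebraMap_smul K]
          refine Submodule.smul_mem _ _ (hred _ fun w hw => ?_)
          rw [Finsupp.add_apply, ((mem_box hn).1 he w).2 hw, ((mem_box hn).1 hf w).2 hw]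
        | zero => rw [mul_zero]; exact M.zero_mem
        | add x y _ _ hx hy => rw [mul_add]; exact M.add_mem hx hy
        | smul c x _ hx => rw [mul_smul_comm]; exact M.smul_mem _ hx
      | zero => rw [zero_mul]; exact M.zero_mem
      | add x y _ _ hx hy => rw [add_mul]; exact M.add_mem hx hy
      | smul c x _ hx => rw [smul_mul_assoc]; exact M.smul_mem _ hx
    refine Algebra.adjoin_le (S := M.toSubalgebra h1 fun a b ha hb => hmul a ha b hb) ?_ hz
    rintro _ ⟨w, hw, rfl⟩
    exact hred _ fun v hv => Finsupp.single_eq_of_ne (fun h => hv (h ▸ hw))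
  · rintro _ ⟨e, he, rfl⟩
    exact op_mem hn hω hpow e fun w hw => ((mem_box hn).1 he w).2 hw

theorem exists_repr {T : Finset (Fin m)} {z : Module.End K F} (hz : z ∈ alg hn hω hpow T) :
    ∃ c : (Var m →₀ ℕ) → K, z = ∑ r ∈ box n T, c r • op hn hω hpow r := by
  classical
  rw [← Subalgebra.mem_toSubmodule, alg_toSubmodule] at hz
  induction hz using Submodule.span_induction with
  | mem x hx =>
    obtain ⟨e, he, rfl⟩ := hx
    refine ⟨fun r => if r = e then 1 else 0, ?_⟩
    rw [Finset.sum_eq_single e (fun r _ hr => by simp [hr]) (fun h => absurd he h)]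
    simp
  | zero => exact ⟨0, by simp⟩
  | add x y _ _ hx hy =>
    obtain ⟨c, rfl⟩ := hx
    obtain ⟨c', rfl⟩ := hy
    exact ⟨c + c', by simp [add_smul, Finset.sum_add_distrib]⟩
  | smul a x _ hx =>
    obtain ⟨c, rfl⟩ := hx
    exact ⟨a • c, by simp [Finset.smul_sum, smul_smul]⟩

theorem repr_eq_zero {T : Finset (Fin m)} (c : (Var m →₀ ℕ) → K)
    (h : ∑ r ∈ box n T, c r • op hn hω hpow r = 0) (r : Var m →₀ ℕ) (hr : r ∈ box n T) : c r = 0 := by
  refine eq_zero_of_sum_monomial hn hω hpow c ?_ r hr
  have h1 := LinearMap.congr_fun h 1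
  simpa only [LinearMap.sum_apply, LinearMap.smul_apply, op_one, LinearMap.zero_apply] using h1

theorem finrank_alg (T : Finset (Fin m)) :
    Module.finrank K (alg hn hω hpow T) = ∏ j ∈ T, n j ^ 2 := by
  show Module.finrank K (Subalgebra.toSubmodule (alg hn hω hpow T)) = _
  rw [alg_toSubmodule, ← card_box, Set.image_eq_range]
  refine (finrank_span_eq_card ?_).trans (Fintype.card_coe _)
  refine Fintype.linearIndependent_iff.2 fun c hc r => ?_
  have := repr_eq_zero hn hω hpow (T := T) (fun r => if h : r ∈ box n T then c ⟨r, h⟩ else 0) ?_ r.1 r.2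
  · simpa using this
  · rw [← Finset.sum_coe_sort (box n T)]
    refine Eq.trans (Finset.sum_congr rfl fun r _ => ?_) hc
    simp

theorem finite_alg (T : Finset (Fin m)) : Module.Finite K (alg hn hω hpow T) :=
  Module.finite_of_finrank_pos (by rw [finrank_alg]; exact Finset.prod_pos fun j _ => pow_pos (hn j) 2)

theorem exists_opP {T : Finset (Fin m)} {z : Module.End K F} (hz : z ∈ alg hn hω hpow T) :
    ∃ (d : MvPolynomial (Var m) k) (Q : MvPolynomial (Var m) k), d ≠ 0 ∧
      algebraMap _ K d • z = opP hn hω hpow Q := by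
  classical
  obtain ⟨c, rfl⟩ := exists_repr hn hω hpow hz
  obtain ⟨d, hd⟩ := IsLocalization.exist_integer_multiples_of_finset (nonZeroDivisors (MvPolynomial (Var m) k))
    ((box n T).image c)
  have hp : ∀ r ∈ box n T, ∃ p, algebraMap _ K p = algebraMap _ K (d : MvPolynomial (Var m) k) * c r := fun r hr => by
    obtain ⟨p, hp⟩ := hd (c r) (Finset.mem_image_of_mem c hr)
    exact ⟨p, hp.trans (Algebra.smul_def _ _)⟩
  choose! p hp using hp
  refine ⟨d, ∑ r ∈ box n T, expand' n (p r) * monomial r 1, nonZeroDivisors.coe_ne_zero d, ?_⟩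
  rw [Finset.smul_sum, map_sum]
  refine Finset.sum_congr rfl fun r hr => ?_
  rw [smul_smul, ← hp r hr, opP_expand]

theorem eq_zero_or_eq_zero {T : Finset (Fin m)} {z w : Module.End K F} (hz : z ∈ alg hn hω hpow T)
    (hw : w ∈ alg hn hω hpow T) (h : z * w = 0) : z = 0 ∨ w = 0 := by
  classical
  by_contra hne
  rw [not_or] at hne
  obtain ⟨d, Q, hd, hQ⟩ := exists_opP hn hω hpow hz
  obtain ⟨d', R, hd', hR⟩ := exists_opP hn hω hpow hw
  have hdK : ∀ d : MvPolynomial (Var m) k, d ≠ 0 → algebraMap _ K d ≠ 0 := fun d hd =>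
    (map_ne_zero_iff _ (IsFractionRing.injective _ K)).2 hd
  have hQ0 : Q ≠ 0 := fun h0 => hne.1 ((smul_eq_zero.1 (hQ.trans (by rw [h0, map_zero]))).resolve_left (hdK d hd))
  have hR0 : R ≠ 0 := fun h0 => hne.2 ((smul_eq_zero.1 (hR.trans (by rw [h0, map_zero]))).resolve_left (hdK d' hd'))
  have h1 : opP hn hω hpow Q * opP hn hω hpow R = 0 := by
    rw [← hQ, ← hR, smul_mul_assoc, mul_smul_comm, h, smul_zero, smul_zero]
  have h2 := LinearMap.congr_fun h1 1
  rw [Module.End.mul_apply, opP_one, opP_algebraMap, LinearMap.zero_apply,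
    map_eq_zero_iff _ (IsFractionRing.injective (MvPolynomial (Var m) k) F)] at h2
  obtain ⟨e₀, he₀, f₀, hf₀, hu⟩ := UniqueSums.uniqueAdd_of_nonempty (A := Q.support) (B := R.support)
    (MvPolynomial.support_nonempty.2 hQ0) (MvPolynomial.support_nonempty.2 hR0)
  have h3 := congrArg (coeff (e₀ + f₀)) h2
  rw [coeff_sum, coeff_zero, Finset.sum_eq_single e₀] at h3
  · rw [coeff_monomial_mul, coeff_tauP] at h3
    exact mul_ne_zero (mem_support_iff.1 he₀)
      (mul_ne_zero (mem_support_iff.1 hf₀) (chi_ne_zero ω hn hω _ _)) h3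
  · intro e he hne'
    rw [coeff_monomial_mul']
    split_ifs with hle
    · rw [coeff_tauP]
      suffices coeff (e₀ + f₀ - e) R = 0 by rw [this, zero_mul, mul_zero]
      by_contra hne''
      exact hne' (hu he (mem_support_iff.2 hne'') (add_tsub_cancel_of_le hle)).1
    · rfl
  · intro h4; exact absurd he₀ h4

theorem isDomain_alg (T : Finset (Fin m)) : IsDomain (alg hn hω hpow T) := by
  haveI : Nontrivial (alg hn hω hpow T) := Module.nontrivial_of_finrank_pos (R := K)
    (by rw [finrank_alg]; exact Finset.prod_pos fun j _ => pow_pos (hn j) 2)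
  haveI : NoZeroDivisors (alg hn hω hpow T) := ⟨fun {a b} h =>
    (eq_zero_or_eq_zero hn hω hpow a.2 b.2 (congrArg Subtype.val h)).imp Subtype.ext Subtype.ext⟩
  exact @NoZeroDivisors.to_isDomain (↥(alg hn hω hpow T)) _ _ _

theorem isCentral_alg (T : Finset (Fin m)) : Algebra.IsCentral K (alg hn hω hpow T) := by
  refine ⟨fun z hz => ?_⟩
  rw [Subalgebra.mem_center_iff] at hz
  obtain ⟨c, hc⟩ := exists_repr hn hω hpow z.2
  have key : ∀ r ∈ box n T, r ≠ 0 → c r = 0 := by
    intro r hr hr0
    obtain ⟨w, hw⟩ : ∃ w, r w ≠ 0 := by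
      by_contra h
      exact hr0 (Finsupp.ext fun w => not_not.1 fun h' => h ⟨w, h'⟩)
    have hwT : w.1 ∈ T := by
      by_contra hwT
      exact hw (((mem_box hn).1 hr w).2 hwT)
    let v : Var m := (w.1, !w.2)
    have h1 := congrArg Subtype.val (hz ⟨_, op_single_mem hn hω hpow (w := v) hwT⟩)
    simp only [MulMemClass.coe_mul, hc, Finset.mul_sum, Finset.sum_mul, mul_smul_comm, smul_mul_assoc,
      op_mul_op] at h1
    have h2 : ∑ r ∈ box n T, (c r * algebraMap k K (chi ω (Finsupp.single v 1) r - chi ω r (Finsupp.single v 1))) •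
        op hn hω hpow r = 0 := by
      have h3 : ∑ r ∈ box n T, (c r * algebraMap k K (chi ω (Finsupp.single v 1) r - chi ω r (Finsupp.single v 1))) •
          op hn hω hpow (Finsupp.single v 1 + r) = 0 := by
        simp only [mul_smul, algebraMap_smul, sub_smul, smul_sub, Finset.sum_sub_distrib]
        rw [sub_eq_zero, h1]
        exact Finset.sum_congr rfl fun r _ => by rw [add_comm (Finsupp.single v 1) r]
      have hsum := LinearMap.congr_fun h3 1
      simp only [LinearMap.sum_apply, LinearMap.smul_apply, op_one, LinearMap.zero_apply] at hsum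
      have h4 : ∀ r ∈ box n T, (c r * algebraMap k K (chi ω (Finsupp.single v 1) r - chi ω r (Finsupp.single v 1))) = 0 := by
        refine eq_zero_of_sum_monomial hn hω hpow _ ?_
        have hX : algebraMap (MvPolynomial (Var m) k) F (monomial (Finsupp.single v 1) 1) ≠ 0 :=
          (map_ne_zero_iff _ (IsFractionRing.injective _ F)).2 (by simp [monomial_eq_zero])
        refine (mul_eq_zero.1 ?_).resolve_left hX
        rw [Finset.mul_sum, ← hsum]
        refine Finset.sum_congr rfl fun r _ => ?_
        rw [mul_smul_comm, ← map_mul, monomial_mul, mul_one]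
      exact Finset.sum_eq_zero fun r hr => by rw [h4 r hr, zero_smul]
    have h5 := repr_eq_zero hn hω hpow _ h2 r hr
    refine (mul_eq_zero.1 h5).resolve_right fun h6 => ?_
    rw [map_eq_zero, sub_eq_zero] at h6
    have hlt := ((mem_box hn).1 hr w).1
    obtain ⟨j, _ | _⟩ := w
    · rw [show v = (j, true) from rfl, chi_single_true_left, chi_single_true_right] at h6
      exact hw (Nat.eq_zero_of_dvd_of_lt ((hω j).pow_eq_one_iff_dvd _ |>.1 h6) hlt)
    · rw [show v = (j, false) from rfl, chi_single_false_left, chi_single_false_right, eq_comm] at h6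
      exact hw (Nat.eq_zero_of_dvd_of_lt ((hω j).pow_eq_one_iff_dvd _ |>.1 h6) hlt)
  refine Algebra.mem_bot.2 ⟨c 0, Subtype.ext ?_⟩
  rw [hc, Finset.sum_eq_single 0 (fun r hr h0 => by rw [key r hr h0, zero_smul])
    (fun h0 => absurd ((mem_box hn).2 fun w => ⟨hn w.1, fun _ => rfl⟩) h0), op_zero, ← Algebra.algebraMap_eq_smul_one]
  rfl

theorem alg_singleton_symbol (j : Fin m) (a b : Kˣ) (ha : (a : K) = algebraMap _ K (X (j, true) : MvPolynomial (Var m) k))
    (hb : (b : K) = algebraMap _ K (X (j, false) : MvPolynomial (Var m) k)) :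
    CSAGal.IsSymbolAlg K (n j) (algebraMap k K (ω j)) a b (alg hn hω hpow {j}) := by
  let x : alg hn hω hpow {j} := ⟨_, op_single_mem hn hω hpow (w := (j, true)) (Finset.mem_singleton_self j)⟩
  let y : alg hn hω hpow {j} := ⟨_, op_single_mem hn hω hpow (w := (j, false)) (Finset.mem_singleton_self j)⟩
  have hp : ∀ (v : Var m) (i : ℕ), chi ω (Finsupp.single v 1) (Finsupp.single v 1) = 1 →
      op hn hω hpow (Finsupp.single v 1) ^ i = op hn hω hpow (Finsupp.single v i) := by
    intro v i hv
    induction i with
    | zero => rw [pow_zero, Finsupp.single_zero, op_zero]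
    | succ i ih =>
      have hs : chi ω (Finsupp.single v i) (Finsupp.single v 1) = 1 := by
        clear ih
        induction i with
        | zero => rw [Finsupp.single_zero, chi_zero_left]
        | succ i ih => rw [Finsupp.single_add, chi_add_left, ih, hv, one_mul]
      rw [pow_succ, ih, op_mul_op, hs, one_smul, ← Finsupp.single_add]
  have hpn : ∀ v : Var m, chi ω (Finsupp.single v 1) (Finsupp.single v 1) = 1 →
      op hn hω hpow (Finsupp.single v 1) ^ n v.1 = algebraMap K _ (algebraMap _ K (X v : MvPolynomial (Var m) k)) := by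
    intro v hv
    rw [hp v _ hv, show Finsupp.single v (n v.1) = nh n (Finsupp.single v 1) by
      ext w; by_cases hw : v = w
      · subst hw; simp
      · simp [Finsupp.single_eq_of_ne (Ne.symm hw)], op_nh]
    rfl
  refine ⟨x, y, Subtype.ext ?_, Subtype.ext ?_, Subtype.ext ?_, ?_, hn j, ?_⟩
  · exact (hpn (j, true) (by rw [chi_single_true_right])).trans (by rw [ha]; rfl)
  · exact (hpn (j, false) (by rw [chi_single_false_left])).trans (by rw [hb]; rfl)
  · show op hn hω hpow (Finsupp.single (j, true) 1) * op hn hω hpow (Finsupp.single (j, false) 1) =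
      algebraMap k K (ω j) • (op hn hω hpow (Finsupp.single (j, false) 1) * op hn hω hpow (Finsupp.single (j, true) 1))
    rw [op_mul_op, op_mul_op, chi_single_false_left, one_smul, algebraMap_smul, chi_single_true_left,
      Finsupp.single_eq_same, pow_one, add_comm]
  · refine eq_top_iff.2 ((Algebra.adjoin_adjoin_coe_preimage (R := K)
      (s := (fun w => op hn hω hpow (Finsupp.single w 1)) '' {w : Var m | w.1 ∈ ({j} : Finset (Fin m))})).ge.trans
        (Algebra.adjoin_mono ?_))
    rintro z ⟨⟨l, b'⟩, hl, hz⟩
    obtain rfl : l = j := Finset.mem_singleton.1 hl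
    cases b'
    · exact Or.inr (Subtype.ext hz.symm)
    · exact Or.inl (Subtype.ext hz.symm)
  · rw [finrank_alg, Finset.prod_singleton]

theorem commute_of_mem {T T' : Finset (Fin m)} (hd : Disjoint T T') {z z' : Module.End K F}
    (hz : z ∈ alg hn hω hpow T) (hz' : z' ∈ alg hn hω hpow T') : Commute z z' := by
  refine (Algebra.commute_of_mem_adjoin_of_forall_mem_commute hz' fun b hb => ?_)
  refine (Algebra.commute_of_mem_adjoin_of_forall_mem_commute hz fun a ha => ?_).symm
  obtain ⟨w, hw, rfl⟩ := ha
  obtain ⟨w', hw', rfl⟩ := hb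
  have hne : w.1 ≠ w'.1 := fun h => Finset.disjoint_left.1 hd hw (h ▸ hw')
  show _ * _ = _ * _
  rw [op_mul_op, op_mul_op, chi_single_comm ω hne, chi_single_comm ω (Ne.symm hne), add_comm]

theorem alg_mono {T T' : Finset (Fin m)} (h : T ⊆ T') : alg hn hω hpow T ≤ alg hn hω hpow T' :=
  Algebra.adjoin_mono (Set.image_mono fun _ hw => h hw)

theorem nonempty_tensor_equiv {T T' : Finset (Fin m)} (hd : Disjoint T T') :
    Nonempty (alg hn hω hpow T ⊗[K] alg hn hω hpow T' ≃ₐ[K] alg hn hω hpow (T ∪ T')) := by
  haveI := finite_alg hn hω hpow T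
  haveI := finite_alg hn hω hpow T'
  haveI := finite_alg hn hω hpow (T ∪ T')
  refine nonempty_tensor_subalgebra _ _ _ (alg_mono hn hω hpow Finset.subset_union_left)
    (alg_mono hn hω hpow Finset.subset_union_right) (fun a ha b hb => commute_of_mem hn hω hpow hd ha hb)
    (Algebra.adjoin_le ?_) (by rw [finrank_alg, finrank_alg, finrank_alg, Finset.prod_union hd])
  rintro _ ⟨w, hw, rfl⟩
  rcases Finset.mem_union.1 hw with hw | hw
  · exact Algebra.mem_sup_left (op_single_mem hn hω hpow hw)
  · exact Algebra.mem_sup_right (op_single_mem hn hω hpow hw)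

end Ops

end GrothLib.Quantum
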