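import Groth.Agent.Lib.ASBun21.TautAct
import Groth.Agent.Lib.FinCov.FrameFree
import Groth.Agent.Lib.Cohom.Serre
import Groth.Prelude.Def_CurvBase
import Mathlib.AlgebraicGeometry.FunctionField
import Mathlib.Data.Matrix.Mul

/-!
# Kernels in free modules of matrices with rational entries
-/

set_option autoImplicit false
set_option linter.style.haveILetI false
set_option backward.isDefEq.respectTransparency false
set_option maxHeartbeats 1000000

universe u

open CategoryTheory CategoryTheory.Limits AlgebraicGeometry TopologicalSpace Opposite Matrix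
open GrothLib.Ample (res res_res res_self)
open GrothLib.InvExt (mres)

noncomputable section

namespace GrothLib.ASBun21

variable {X : Scheme.{u}} [IsIntegral X] {d d' : ℕ}

/-- The generic point as a morphism. -/
abbrev gpt (X : Scheme.{u}) [IsIntegral X] : Spec X.functionField ⟶ X := X.fromSpecStalk (genericPoint X)

instance quasiCompact_gpt : QuasiCompact (gpt X) where
  isCompact_preimage _ _ _ := by
    haveI : Subsingleton (Spec X.functionField) :=
      inferInstanceAs (Subsingleton (PrimeSpectrum X.functionField))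
    exact Set.Subsingleton.isCompact Set.subsingleton_of_subsingleton

variable (M : Matrix (Fin d') (Fin d) X.functionField)

/-- The map of a matrix with rational entries. -/
def rkerMap : FlatMod.freeMod X d ⟶
    (Scheme.Modules.pushforward (gpt X)).obj (FlatMod.freeMod (Spec X.functionField) d') :=
  Sigma.desc fun t => FinCov.homOfSection
    (show Γ(FlatMod.freeMod (Spec X.functionField) d', ⊤) from
      ∑ t', (Scheme.ΓSpecIso X.functionField).inv (M t' t) • std (Spec X.functionField) t' ⊤)

/-- The kernel of a matrix with rational entries. -/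
def rker : X.Modules := kernel (rkerMap M)

/-- The inclusion of the kernel. -/
def rkerι : rker M ⟶ FlatMod.freeMod X d := kernel.ι _

instance : Mono (rkerι M) := inferInstanceAs (Mono (kernel.ι _))

theorem rkerMap_std (t : Fin d) (V : X.Opens) :
    (rkerMap M).app V (std X t V) =
      mres (FlatMod.freeMod (Spec X.functionField) d') (le_top : gpt X ⁻¹ᵁ V ≤ ⊤)
        (∑ t', (Scheme.ΓSpecIso X.functionField).inv (M t' t) • std (Spec X.functionField) t' ⊤) := by
  rw [std, rkerMap]
  show (Sigma.ι (fun _ : Fin d => Coh.structureModule X) t ≫ Sigma.desc _).app V (FinCov.one X V) = _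
  rw [Sigma.ι_desc]
  rw [FinCov.homOfSection_one]
  rfl

variable {M}

theorem gpt_preimage {V : X.Opens} (hV : genericPoint X ∈ V) : gpt X ⁻¹ᵁ V = ⊤ := by
  haveI : Subsingleton (Spec X.functionField) :=
    inferInstanceAs (Subsingleton (PrimeSpectrum X.functionField))
  refine top_le_iff.1 fun y _ => ?_
  show gpt X y ∈ V
  rw [Subsingleton.elim y (IsLocalRing.closedPoint X.functionField), Scheme.fromSpecStalk_closedPoint]
  exact hV

theorem rkerMap_app (M : Matrix (Fin d') (Fin d) X.functionField) {V : X.Opens} (hV : genericPoint X ∈ V)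
    (c : Fin d → Γ(X, V)) :
    (rkerMap M).app V (∑ t, c t • std X t V) =
      ∑ t', res (le_top : gpt X ⁻¹ᵁ V ≤ ⊤) ((Scheme.ΓSpecIso X.functionField).inv
        ((M *ᵥ fun t => X.presheaf.germ V (genericPoint X) hV (c t)) t')) •
          std (Spec X.functionField) t' (gpt X ⁻¹ᵁ V) := by
  rw [map_sum]
  simp only [Scheme.Modules.Hom.app_smul, rkerMap_std]
  simp only [Matrix.mulVec, dotProduct, map_sum, map_mul, Finset.sum_smul]
  rw [Finset.sum_comm]
  refine Finset.sum_congr rfl fun t _ => ?_
  show ((gpt X).app V).hom (c t) • (∑ t', mres (FlatMod.freeMod (Spec X.functionField) d')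
    (le_top : gpt X ⁻¹ᵁ V ≤ ⊤) ((Scheme.ΓSpecIso X.functionField).inv (M t' t) •
      std (Spec X.functionField) t' ⊤)) = _
  rw [Finset.smul_sum]
  refine Finset.sum_congr rfl fun t' _ => ?_
  rw [Ample.mres_smul', mres_std]
  rw [smul_smul, mul_comm]
  congr 2
  rw [Scheme.fromSpecStalk_app hV]
  rfl

theorem rkerMap_eq_zero_iff {V : X.Opens} (hV : genericPoint X ∈ V) (c : Fin d → Γ(X, V)) :
    (rkerMap M).app V (∑ t, c t • std X t V) = 0 ↔
      M *ᵥ (fun t => X.presheaf.germ V (genericPoint X) hV (c t)) = 0 := by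
  rw [rkerMap_app M hV]
  constructor
  · intro h
    funext t'
    have h1 := (std_bijective (Spec X.functionField) (d := d') (gpt X ⁻¹ᵁ V)).1
      (a₂ := fun _ => 0) (h.trans (by simp))
    have h2 := congrFun h1 t'
    have hinj : Function.Injective (res (le_top : gpt X ⁻¹ᵁ V ≤ ⊤)) := by
      have he := gpt_preimage hV
      intro a b hab
      have := congrArg (res he.ge) hab
      rwa [res_res, res_res, res_self, res_self] at this
    exact (ConcreteCategory.bijective_of_isIso (Scheme.ΓSpecIso X.functionField).inv).1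
      ((hinj (h2.trans (map_zero _).symm)).trans (map_zero _).symm)
  · intro h
    simp [h]

theorem exists_rkerι_eq {V : X.Opens} (hV : genericPoint X ∈ V) (c : Fin d → Γ(X, V))
    (hc : M *ᵥ (fun t => X.presheaf.germ V (genericPoint X) hV (c t)) = 0) :
    ∃ w : Γ(rker M, V), (rkerι M).app V w = ∑ t, c t • std X t V :=
  exists_kernel_app_eq (rkerMap M) _ ((rkerMap_eq_zero_iff hV c).2 hc)

theorem rkerι_injective (V : X.Opens) : Function.Injective ((rkerι M).app V) :=
  Cohom.app_injective_of_mono _ V

theorem exists_rkerι_coord {V : X.Opens} (hV : genericPoint X ∈ V) (w : Γ(rker M, V)) :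
    ∃ c : Fin d → Γ(X, V), (rkerι M).app V w = ∑ t, c t • std X t V ∧
      M *ᵥ (fun t => X.presheaf.germ V (genericPoint X) hV (c t)) = 0 := by
  obtain ⟨c, hc⟩ := (std_bijective X (d := d) V).2 ((rkerι M).app V w)
  change ∑ t, c t • std X t V = _ at hc
  refine ⟨c, hc.symm, (rkerMap_eq_zero_iff hV c).1 ?_⟩
  rw [hc]
  exact congrArg (fun φ : rker M ⟶ _ => φ.app V w) (kernel.condition (rkerMap M))

variable (M)

theorem isQuasicoherent_rker : (rker M).IsQuasicoherent := by
  haveI := Euler.isQuasicoherent_freeMod X d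
  haveI := Euler.isQuasicoherent_freeMod (Spec X.functionField) d'
  haveI : QuasiSeparated (gpt X) := inferInstance
  haveI : ((Scheme.Modules.pushforward (gpt X)).obj (FlatMod.freeMod (Spec X.functionField) d')).IsQuasicoherent :=
    QCoh.isQuasicoherent_pushforward (gpt X) _
  exact QCoh.isQuasicoherent_kernel _

section Action

attribute [local instance] Curv2.stalkAlgebra

variable {k : Type u} [Field k] [X.Over (Spec (CommRingCat.of k))]

theorem germ_kc {V : X.Opens} (x : X) (hx : x ∈ V) (r : k) :
    X.presheaf.germ V x hx (kc (X ↘ Spec (CommRingCat.of k)) V r) = algebraMap k (X.presheaf.stalk x) r :=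
  TopCat.Presheaf.germ_res_apply X.presheaf (homOfLE (le_top : V ≤ ⊤)) x hx _

variable {B : Type u} [Ring B] [Algebra k B] (ρ : B →ₐ[k] Matrix (Fin d) (Fin d) k)
  (hρ : ∀ (b : B) (v : Fin d → X.functionField), M *ᵥ v = 0 →
    M *ᵥ ((ρ b).map (algebraMap k X.functionField) *ᵥ v) = 0)

include hρ in
theorem rkerι_matHom (b : B) : rkerι M ≫ matHom k X d (ρ b) ≫ rkerMap M = 0 := by
  refine AffHom.hom_ext fun U w => ?_
  show (rkerMap M).app U.1 ((matHom k X d (ρ b)).app U.1 ((rkerι M).app U.1 w)) = _
  by_cases hV : genericPoint X ∈ U.1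
  · obtain ⟨c, hc, hc0⟩ := exists_rkerι_coord hV w
    rw [hc, matHom_app]
    refine (rkerMap_eq_zero_iff hV _).2 ?_
    convert hρ b _ hc0 using 2
    funext t'
    simp only [map_sum, map_mul, germ_kc]
    rfl
  · have hU : U.1 = ⊥ := by
      refine le_bot_iff.1 fun x hx => hV ?_
      exact ((genericPoint_spec X).specializes trivial).mem_open U.1.2 hx
    have h0 : ∀ z : Γ((Scheme.Modules.pushforward (gpt X)).obj (FlatMod.freeMod (Spec X.functionField) d'), U.1),
        z = 0 := fun z => QCoh.section_eq_zero_of_germ _ z fun x hx => by rw [hU] at hx; exact hx.elim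
    exact (h0 _).trans (h0 _).symm

/-- An endomorphism of the kernel. -/
def rkerEnd (b : B) : rker M ⟶ rker M :=
  kernel.lift (rkerMap M) (rkerι M ≫ matHom k X d (ρ b)) (by rw [Category.assoc, rkerι_matHom M ρ hρ])

theorem rkerEnd_ι (b : B) : rkerEnd M ρ hρ b ≫ rkerι M = rkerι M ≫ matHom k X d (ρ b) :=
  kernel.lift_ι _ _ _

/-- An algebra stabilising the kernel of the matrix acts on the kernel. -/
def rkerAct : B →ₐ[k] End (rker M) where
  toFun := rkerEnd M ρ hρ
  map_one' := (cancel_mono (rkerι M)).1 (by
    rw [rkerEnd_ι, map_one, matHom_one, Category.comp_id]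
    exact (Category.id_comp _).symm)
  map_mul' a a' := (cancel_mono (rkerι M)).1 (by
    show _ = (rkerEnd M ρ hρ a' ≫ rkerEnd M ρ hρ a) ≫ rkerι M
    rw [rkerEnd_ι, Category.assoc, rkerEnd_ι, ← Category.assoc, rkerEnd_ι, Category.assoc, map_mul,
      matHom_mul])
  map_zero' := (cancel_mono (rkerι M)).1 (by
    rw [rkerEnd_ι, map_zero, matHom_zero, comp_zero]
    exact zero_comp.symm)
  map_add' a a' := (cancel_mono (rkerι M)).1 (by
    rw [rkerEnd_ι, Preadditive.add_comp, rkerEnd_ι, rkerEnd_ι, map_add, matHom_add, Preadditive.comp_add])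
  commutes' r := (cancel_mono (rkerι M)).1 (by
    rw [rkerEnd_ι, AlgHom.commutes, matHom_algebraMap, Linear.comp_smul, Category.comp_id]
    show _ = (r • 𝟙 (rker M)) ≫ rkerι M
    rw [Linear.smul_comp, Category.id_comp])

end Action

end GrothLib.ASBun21
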