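import Groth.Agent.Lib.ASBun21.RatKer
import Mathlib.RingTheory.Flat.Basic
import Mathlib.RingTheory.Localization.NumDen
import Mathlib.RingTheory.Localization.Integer

/-!
# Saturated lines; flat base change of kernels of matrices; maps of function fields
-/

set_option autoImplicit false
set_option linter.style.haveILetI false
set_option backward.isDefEq.respectTransparency false
set_option maxHeartbeats 1000000

universe u

open CategoryTheory CategoryTheory.Limits AlgebraicGeometry TopologicalSpace Opposite Matrix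
open GrothLib.Ample (res res_res res_self)
open GrothLib.InvExt (mres IsGen)
open scoped TensorProduct

noncomputable section

namespace GrothLib.ASBun21

section Alg

/-- Solutions of linear equations after a flat extension are generated by solutions. -/
theorem mem_span_of_mulVec_eq_zero {R S : Type u} [CommRing R] [CommRing S] [Algebra R S] [Module.Flat R S]
    {d d' : ℕ} (M : Matrix (Fin d') (Fin d) R) (c : Fin d → S) (hc : M.map (algebraMap R S) *ᵥ c = 0) :
    c ∈ Submodule.span S ((algebraMap R S ∘ ·) '' {v : Fin d → R | M *ᵥ v = 0}) := by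
  let f := M.mulVecLin
  let φ := TensorProduct.piScalarRight R S S (Fin d)
  let φ' := TensorProduct.piScalarRight R S S (Fin d')
  have hnat : ∀ z : S ⊗[R] (Fin d → R), φ' (f.lTensor S z) = M.map (algebraMap R S) *ᵥ φ z := fun z => by
    induction z using TensorProduct.induction_on with
    | zero => simp
    | add x y hx hy => simp [hx, hy, Matrix.mulVec_add]
    | tmul s v =>
      funext i
      simp [φ, φ', f, Matrix.mulVec, dotProduct, Algebra.smul_def, Finset.mul_sum, Finset.sum_mul]
      refine Finset.sum_congr rfl fun t _ => ?_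
      ring
  have hex : Function.Exact (LinearMap.ker f).subtype f := LinearMap.exact_subtype_ker_map f
  have h0 : f.lTensor S (φ.symm c) = 0 :=
    φ'.injective (by rw [hnat, LinearEquiv.apply_symm_apply, hc, map_zero])
  obtain ⟨z, hz⟩ := (Module.Flat.lTensor_exact S hex (φ.symm c)).1 h0
  rw [← φ.apply_symm_apply c, ← hz]
  clear hz h0
  induction z using TensorProduct.induction_on with
  | zero => simp
  | add x y hx hy => rw [map_add, map_add]; exact Submodule.add_mem _ hx hy
  | tmul s v =>
    have : φ ((LinearMap.ker f).subtype.lTensor S (s ⊗ₜ v)) = s • (algebraMap R S ∘ (v : Fin d → R)) := by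
      funext t
      simp [φ, Algebra.smul_def, mul_comm]
    rw [this]
    exact Submodule.smul_mem _ _ (Submodule.subset_span ⟨v, v.2, rfl⟩)

variable {R F : Type u} [CommRing R] [IsDomain R] [UniqueFactorizationMonoid R] [Field F] [Algebra R F]
  [IsFractionRing R F] {m : ℕ}

/-- A saturated line in a free module over a factorial domain is free. -/
theorem exists_line_generator {r : Fin m → F} {j : Fin m} (hj : r j ≠ 0) :
    ∃ (v₀ : Fin m → R) (a₀ : F), a₀ ≠ 0 ∧ algebraMap R F ∘ v₀ = a₀ • r ∧
      ∀ (v : Fin m → R) (a : F), algebraMap R F ∘ v = a • r → ∃ c : R, v = c • v₀ := by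
  classical
  let S : Set R := {x | ∃ (v : Fin m → R) (a : F), a ≠ 0 ∧ algebraMap R F ∘ v = a • r ∧ v j = x}
  have hS : S.Nonempty := by
    obtain ⟨b, hb⟩ := IsLocalization.exist_integer_multiples (nonZeroDivisors R) Finset.univ r
    choose v hv using fun t => hb t (Finset.mem_univ t)
    refine ⟨v j, v, algebraMap R F b, ?_, funext fun t => (hv t).trans (Algebra.smul_def _ _), rfl⟩
    exact IsFractionRing.to_map_ne_zero_of_mem_nonZeroDivisors b.2
  obtain ⟨x, ⟨v₀, a₀, ha₀, hv₀, hx⟩, hmin⟩ := (wellFounded_dvdNotUnit (α := R)).has_min S hS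
  refine ⟨v₀, a₀, ha₀, hv₀, fun v a hv => ?_⟩
  obtain ⟨p, q, hpq, hq⟩ := IsFractionRing.exists_reduced_fraction R (a / a₀)
  have hq0 : algebraMap R F q ≠ 0 := IsFractionRing.to_map_ne_zero_of_mem_nonZeroDivisors q.2
  have hq' : a / a₀ * algebraMap R F q = algebraMap R F p := by
    rw [← hq, IsLocalization.mk'_spec]
  have hmul : ∀ t, p * v₀ t = q * v t := fun t => IsFractionRing.injective R F (by
    rw [map_mul, map_mul, ← hq', show algebraMap R F (v₀ t) = a₀ * r t from congrFun hv₀ t,
      show algebraMap R F (v t) = a * r t from congrFun hv t]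
    field_simp)
  choose w hw using fun t => IsRelPrime.dvd_of_dvd_mul_left hpq.symm (Dvd.intro (v t) (hmul t).symm)
  by_cases hqu : IsUnit (q : R)
  · obtain ⟨u, hu⟩ := hqu
    refine ⟨↑u⁻¹ * p, funext fun t => ?_⟩
    simp only [Pi.smul_apply, smul_eq_mul]
    rw [mul_assoc, hmul t, ← hu, Units.inv_mul_cancel_left]
  · exfalso
    refine hmin (w j) ⟨w, a₀ / algebraMap R F q, div_ne_zero ha₀ hq0, funext fun t => ?_, rfl⟩ ?_
    · have h1 := congrFun hv₀ t
      simp only [Function.comp_apply, Pi.smul_apply, smul_eq_mul] at h1 ⊢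
      rw [hw t, map_mul] at h1
      rw [div_mul_eq_mul_div, ← h1, mul_div_cancel_left₀ _ hq0]
    · refine ⟨fun h0 => ?_, q, hqu, by rw [← hx, hw j, mul_comm]⟩
      have h1 := congrFun hv₀ j
      simp only [Function.comp_apply, Pi.smul_apply, smul_eq_mul] at h1
      rw [hw j, h0, mul_zero, map_zero] at h1
      exact mul_ne_zero ha₀ hj h1.symm

end Alg

section Line

variable {Y : Scheme.{u}} [IsIntegral Y] {m : ℕ}

/-- The matrix annihilating exactly a line. -/
def lineMat (r : Fin m → Y.functionField) (j : Fin m) : Matrix (Fin m) (Fin m) Y.functionField :=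
  1 - Matrix.vecMulVec r (Pi.single j (r j)⁻¹)

theorem lineMat_mulVec_eq_zero_iff {r : Fin m → Y.functionField} {j : Fin m} (hj : r j ≠ 0)
    (x : Fin m → Y.functionField) : lineMat r j *ᵥ x = 0 ↔ ∃ a : Y.functionField, x = a • r := by
  have h : lineMat r j *ᵥ x = x - (x j * (r j)⁻¹) • r := by
    rw [lineMat, Matrix.sub_mulVec, Matrix.one_mulVec]
    congr 1
    funext t
    simp [Matrix.mulVec, dotProduct, Matrix.vecMulVec_apply, Pi.single_apply]
    ring
  rw [h, sub_eq_zero]
  refine ⟨fun h => ⟨_, h⟩, fun ⟨a, ha⟩ => ?_⟩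
  subst ha
  simp [mul_assoc, hj]

/-- The saturation of a rational line. -/
abbrev line' (r : Fin m → Y.functionField) (j : Fin m) : Y.Modules := rker (lineMat r j)

theorem eq_bot_of_not_mem {W : Y.Opens} (hW : genericPoint Y ∉ W) : W = ⊥ :=
  le_bot_iff.1 fun _ hx => hW (((genericPoint_spec Y).specializes trivial).mem_open W.2 hx)

theorem subsingleton_of_not_mem (N : Y.Modules) {W : Y.Opens} (hW : genericPoint Y ∉ W) : Subsingleton Γ(N, W) :=
  ⟨fun a b => by
    have h0 : ∀ z : Γ(N, W), z = 0 := fun z => QCoh.section_eq_zero_of_germ N z fun x hx => by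
      rw [eq_bot_of_not_mem hW] at hx; exact hx.elim
    rw [h0 a, h0 b]⟩

theorem isGen_line {r : Fin m → Y.functionField} {j : Fin m} (hj : r j ≠ 0) {V : Y.Opens} (hV : IsAffineOpen V)
    (hη : genericPoint Y ∈ V) [IsDomain Γ(Y, V)] [UniqueFactorizationMonoid Γ(Y, V)] :
    ∃ e : Γ(line' r j, V), IsGen (line' r j) V e := by
  classical
  haveI : Nonempty V := ⟨⟨_, hη⟩⟩
  haveI := functionField_isFractionRing_of_isAffineOpen Y V hV
  obtain ⟨v₀, a₀, ha₀, hv₀, hgen⟩ := exists_line_generator (R := Γ(Y, V)) (F := Y.functionField) hj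
  obtain ⟨e, he⟩ := exists_rkerι_eq (M := lineMat r j) hη v₀ ((lineMat_mulVec_eq_zero_iff hj _).2 ⟨a₀, hv₀⟩)
  refine ⟨e, fun W hWV => ?_⟩
  by_cases hW : genericPoint Y ∈ W
  swap
  · haveI := subsingleton_of_not_mem (line' r j) hW
    haveI : Subsingleton Γ(Y, W) := subsingleton_of_not_mem (Coh.structureModule Y) hW
    exact ⟨fun a b _ => Subsingleton.elim a b, fun z => ⟨0, Subsingleton.elim _ _⟩⟩
  haveI : Nonempty W := ⟨⟨_, hW⟩⟩
  let g : Γ(Y, W) →+* Y.functionField := (Y.presheaf.germ W (genericPoint Y) hW).hom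
  have hg : Function.Injective g := germ_injective_of_isIntegral Y _ hW
  have hres : ∀ t, g (res hWV (v₀ t)) = a₀ * r t := fun t => by
    refine (TopCat.Presheaf.germ_res_apply Y.presheaf (homOfLE hWV) _ hW (v₀ t)).trans ?_
    exact congrFun hv₀ t
  have hι : ∀ c : Γ(Y, W), (rkerι (lineMat r j)).app W (c • mres (line' r j) hWV e) =
      ∑ t, (c * res hWV (v₀ t)) • std Y t W := fun c => by
    rw [Scheme.Modules.Hom.app_smul, Ample.app_mres, he]
    refine (congrArg (c • ·) (map_sum ((FlatMod.freeMod Y m).presheaf.map (homOfLE hWV).op).hom _ _)).trans ?_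
    rw [Finset.smul_sum]
    refine Finset.sum_congr rfl fun t _ => ?_
    refine (congrArg (c • ·) ((Ample.mres_smul' _ hWV _ _).trans (by rw [mres_std]))).trans ?_
    rw [smul_smul]
  constructor
  · intro c c' hcc
    have h1 := (std_bijective Y (d := m) W).1 (((hι c).symm.trans (congrArg _ hcc)).trans (hι c'))
    have h2 := congrArg g (congrFun h1 j)
    rw [map_mul, map_mul, hres] at h2
    exact hg (mul_right_cancel₀ (mul_ne_zero ha₀ hj) h2)
  · intro w
    obtain ⟨v, hv, hv0⟩ := exists_rkerι_coord hW w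
    obtain ⟨a, ha⟩ := (lineMat_mulVec_eq_zero_iff hj _).1 hv0
    suffices H : ∃ c : Γ(Y, W), g c = a / a₀ by
      obtain ⟨c, hc⟩ := H
      refine ⟨c, rkerι_injective W ((hι c).trans (Eq.trans ?_ hv.symm))⟩
      refine Finset.sum_congr rfl fun t _ => congrArg (· • std Y t W) (hg ?_)
      rw [map_mul, hc, hres, show g (v t) = a * r t from congrFun ha t]
      field_simp
    have hloc : ∀ x : W, ∃ (T : Y.Opens) (hTW : T ≤ W) (hT : genericPoint Y ∈ T) (c : Γ(Y, T)), x.1 ∈ T ∧
        Y.presheaf.germ T (genericPoint Y) hT c = a / a₀ := fun x => by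
      obtain ⟨f, hfW, hxf⟩ := hV.exists_basicOpen_le (⟨x.1, x.2⟩ : W) (hWV x.2)
      let T := Y.basicOpen f
      have hTV : T ≤ V := Y.basicOpen_le f
      have hT : genericPoint Y ∈ T := ((genericPoint_spec Y).specializes trivial).mem_open T.2 hxf
      haveI := hV.isLocalization_basicOpen f
      obtain ⟨b, hb⟩ := IsLocalization.exist_integer_multiples (Submonoid.powers f) Finset.univ
        (fun t => (res hfW (v t) : Γ(Y, T)))
      choose v' hv' using fun t => hb t (Finset.mem_univ t)
      let gV : Γ(Y, V) →+* Y.functionField := (Y.presheaf.germ V (genericPoint Y) hη).hom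
      let gT : Γ(Y, T) →+* Y.functionField := (Y.presheaf.germ T (genericPoint Y) hT).hom
      have hVT : ∀ z, gT (algebraMap Γ(Y, V) Γ(Y, T) z) = gV z := fun z =>
        TopCat.Presheaf.germ_res_apply Y.presheaf (homOfLE hTV) _ hT z
      have hbv : algebraMap Γ(Y, V) Y.functionField ∘ v' = (gV b * a) • r := funext fun t => by
        show gV (v' t) = gV b * a * r t
        rw [← hVT, hv', Algebra.smul_def, map_mul, hVT, mul_assoc]
        congr 1
        exact (TopCat.Presheaf.germ_res_apply Y.presheaf (homOfLE hfW) _ hT (v t)).trans (congrFun ha t)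
      obtain ⟨c', hc'⟩ := hgen v' _ hbv
      refine ⟨T, hfW, hT, IsLocalization.mk' Γ(Y, T) c' b, hxf, ?_⟩
      have hb0 : gV b ≠ 0 := fun h0 => by
        have hu := (IsLocalization.map_units Γ(Y, T) b).map gT
        rw [hVT, h0] at hu
        exact not_isUnit_zero hu
      have h1 := congrArg gT (IsLocalization.mk'_spec Γ(Y, T) c' b)
      rw [map_mul, hVT, hVT] at h1
      have h2 := congrFun hbv j
      rw [hc'] at h2
      simp only [Function.comp_apply, Pi.smul_apply, smul_eq_mul, map_mul,
        show algebraMap Γ(Y, V) Y.functionField (v₀ j) = a₀ * r j from congrFun hv₀ j] at h2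
      show gT _ = _
      rw [eq_div_iff ha₀]
      refine mul_left_cancel₀ hb0 (mul_right_cancel₀ hj ?_)
      calc gV b * (gT (IsLocalization.mk' Γ(Y, T) c' b) * a₀) * r j
          = (gT (IsLocalization.mk' Γ(Y, T) c' b) * gV b) * (a₀ * r j) := by ring
        _ = gV c' * (a₀ * r j) := by rw [h1]
        _ = gV b * a * r j := h2
    choose T hTW hT c hxT hc using hloc
    obtain ⟨γ, hγ, -⟩ := Y.sheaf.existsUnique_gluing' T W (fun x => homOfLE (hTW x))
      (fun x hx => Opens.mem_iSup.2 ⟨⟨x, hx⟩, hxT _⟩) c (fun x y => by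
        refine germ_injective_of_isIntegral Y (genericPoint Y) (U := T x ⊓ T y) ⟨hT x, hT y⟩ ?_
        exact ((TopCat.Presheaf.germ_res_apply Y.presheaf _ _ _ (c x)).trans (hc x)).trans
          ((TopCat.Presheaf.germ_res_apply Y.presheaf _ _ _ (c y)).trans (hc y)).symm)
    let γ' : Γ(Y, W) := γ
    refine ⟨γ', ?_⟩
    have hx : genericPoint Y ∈ T ⟨_, hW⟩ := hT _
    refine (TopCat.Presheaf.germ_res_apply Y.presheaf (homOfLE (hTW ⟨_, hW⟩)) _ hx γ').symm.trans ?_
    exact (congrArg (Y.presheaf.germ (T ⟨_, hW⟩) (genericPoint Y) hx) (hγ ⟨_, hW⟩)).trans (hc _)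

/-- The saturation of a rational line is invertible on a locally factorial scheme. -/
theorem isInvertible_line {r : Fin m → Y.functionField} {j : Fin m} (hj : r j ≠ 0)
    (hY : ∀ y : Y, ∃ V : Y.Opens, IsAffineOpen V ∧ y ∈ V ∧ IsDomain Γ(Y, V) ∧ UniqueFactorizationMonoid Γ(Y, V)) :
    PicF.IsInvertible (line' r j) :=
  InvExt.isInvertible_of_gens fun y => by
    obtain ⟨V, hV, hy, _, _⟩ := hY y
    obtain ⟨e, he⟩ := isGen_line hj hV (((genericPoint_spec Y).specializes trivial).mem_open V.2 hy)
    exact ⟨V, e, hy, he⟩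

end Line

section FunMap

variable {X Y : Scheme.{u}} (π : Y ⟶ X) [IsIntegral X] [IsIntegral Y] [Surjective π]

theorem map_generic : π (genericPoint Y) = genericPoint X := by
  have h := (genericPoint_spec Y).image π.continuous
  rw [Set.image_univ, π.surjective.range_eq, closure_univ] at h
  exact h.eq (by simpa using genericPoint_spec X)

/-- The map of function fields. -/
def ffMap : X.functionField →+* Y.functionField :=
  (X.presheaf.stalkSpecializes (specializes_of_eq (map_generic π)) ≫ π.stalkMap (genericPoint Y)).hom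

theorem ffMap_germ {U : X.Opens} {W : Y.Opens} (e : W ≤ π ⁻¹ᵁ U) (hU : genericPoint X ∈ U)
    (hW : genericPoint Y ∈ W) (a : Γ(X, U)) :
    ffMap π (X.presheaf.germ U (genericPoint X) hU a) =
      Y.presheaf.germ W (genericPoint Y) hW ((π.appLE U W e).hom a) := by
  simp only [ffMap, CommRingCat.hom_comp, RingHom.comp_apply]
  erw [TopCat.Presheaf.germ_stalkSpecializes_apply, Scheme.Hom.germ_stalkMap_apply]
  exact (TopCat.Presheaf.germ_res_apply Y.presheaf (homOfLE e) _ hW _).symm

end FunMap

end GrothLib.ASBun21
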