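import Groth.Agent.Lib.ASBun21.Dual
import Groth.Agent.Lib.ASBun21.Descent
import Groth.Agent.Lib.ASBun21.EndSimple
import Groth.Agent.Lib.OX.TensorScalar
import Groth.Agent.Lib.OX.TensorAssoc
import Groth.Agent.Lib.OX.LocFreeTensor
import Mathlib.RingTheory.SimpleRing.Matrix
import Mathlib.RingTheory.TensorProduct.Maps

/-!
# Endomorphism algebras of powers, tensor products and base changes
-/

set_option autoImplicit false
set_option linter.style.haveILetI false
set_option backward.isDefEq.respectTransparency false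
set_option maxHeartbeats 1000000

universe u

open CategoryTheory CategoryTheory.Limits AlgebraicGeometry

noncomputable section

namespace GrothLib.ASBun21

section Pow

variable (k : Type u) [Field k] {X : Scheme.{u}} [X.Over (Spec (CommRingCat.of k))]

/-- The endomorphisms of a finite power are matrices. -/
def endPowEquiv (W : X.Modules) (q : ℕ) :
    End (∐ fun _ : Fin q => W) ≃ₐ[k] Matrix (Fin q) (Fin q) (End W) :=
  let toM : End (∐ fun _ : Fin q => W) → Matrix (Fin q) (Fin q) (End W) :=
    fun f => Matrix.of fun i j =>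
      (Sigma.ι (fun _ : Fin q => W) j ≫ (f : (∐ fun _ : Fin q => W) ⟶ ∐ fun _ : Fin q => W) ≫ powProj W q i : W ⟶ W)
  AlgEquiv.ofLinearEquiv
    { toFun := toM
      map_add' := fun f g => Matrix.ext fun i j => by
        show _ ≫ (f + g) ≫ _ = _
        rw [Preadditive.add_comp, Preadditive.comp_add]
        rfl
      map_smul' := fun c f => Matrix.ext fun i j => by
        show Sigma.ι (fun _ : Fin q => W) j ≫
            (c • (f : (∐ fun _ : Fin q => W) ⟶ ∐ fun _ : Fin q => W)) ≫ powProj W q i =
          c • (Sigma.ι (fun _ : Fin q => W) j ≫ (f : (∐ fun _ : Fin q => W) ⟶ ∐ fun _ : Fin q => W) ≫ powProj W q i)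
        rw [Linear.smul_comp, Linear.comp_smul]
      invFun := fun M => Sigma.desc fun j => ∑ i, (M i j : W ⟶ W) ≫ Sigma.ι (fun _ : Fin q => W) i
      left_inv := fun f => Sigma.hom_ext _ _ fun j => by
        rw [Sigma.ι_desc]
        show ∑ i, (Sigma.ι (fun _ : Fin q => W) j ≫ f ≫ powProj W q i) ≫ Sigma.ι (fun _ : Fin q => W) i = _
        simp only [Category.assoc, ← Preadditive.comp_sum, powProj_total, Category.comp_id]
      right_inv := fun M => Matrix.ext fun i j => by
        show Sigma.ι (fun _ : Fin q => W) j ≫ Sigma.desc (fun j => ∑ i, (M i j : W ⟶ W) ≫ Sigma.ι (fun _ : Fin q => W) i) ≫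
          powProj W q i = _
        rw [Sigma.ι_desc_assoc, Preadditive.sum_comp, Finset.sum_eq_single i]
        · rw [Category.assoc, ι_powProj, if_pos rfl, Category.comp_id]
        · intro l _ hl
          rw [Category.assoc, ι_powProj, if_neg hl, comp_zero]
        · simp }
    (Matrix.ext fun i j => by
      show Sigma.ι (fun _ : Fin q => W) j ≫ 𝟙 _ ≫ powProj W q i = _
      rw [Category.id_comp, ι_powProj]
      by_cases h : j = i
      · subst h; simp
      · rw [if_neg h, Matrix.one_apply_ne (Ne.symm h)])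
    (fun f g => Matrix.ext fun i j => by
      rw [Matrix.mul_apply]
      show Sigma.ι (fun _ : Fin q => W) j ≫ ((g : (∐ fun _ : Fin q => W) ⟶ ∐ fun _ : Fin q => W) ≫ f) ≫ powProj W q i =
        ∑ l, ((Sigma.ι (fun _ : Fin q => W) j ≫ g ≫ powProj W q l) ≫ (Sigma.ι (fun _ : Fin q => W) l ≫ f ≫ powProj W q i))
      conv_lhs => rw [← Category.comp_id g, ← powProj_total W q]
      simp only [Preadditive.comp_sum, Preadditive.sum_comp, Category.assoc])

theorem finrank_end_pow {L : X.Modules} (hL : ¬ IsZero L) (h : ∀ φ : L ⟶ L, ∃ c : k, φ = c • 𝟙 L) (q : ℕ) :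
    Module.finrank k ((∐ fun _ : Fin q => L) ⟶ ∐ fun _ : Fin q => L) = q * q := by
  have h1 : Module.finrank k (End L) = 1 :=
    finrank_eq_one (v := (1 : End L)) (fun h0 => hL ((IsZero.iff_id_eq_zero L).2 h0))
      (fun φ => ⟨(h φ).choose, (h φ).choose_spec.symm⟩)
  show Module.finrank k (End (∐ fun _ : Fin q => L)) = q * q
  rw [(endPowEquiv k L q).toLinearEquiv.finrank_eq, Module.finrank_matrix, h1, Fintype.card_fin, mul_one]

end Pow

section Iso

variable (k : Type u) [Field k] {X : Scheme.{u}} [X.Over (Spec (CommRingCat.of k))]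

/-- Isomorphic modules have isomorphic endomorphism algebras. -/
def endCongr {M N : X.Modules} (e : M ≅ N) : End M ≃ₐ[k] End N :=
  AlgEquiv.ofLinearEquiv
    { toFun := fun f => e.inv ≫ f ≫ e.hom
      map_add' := fun f g => by rw [Preadditive.add_comp, Preadditive.comp_add]
      map_smul' := fun c f => by
        show e.inv ≫ (c • f) ≫ e.hom = c • (e.inv ≫ f ≫ e.hom)
        rw [Linear.smul_comp, Linear.comp_smul]
      invFun := fun f => e.hom ≫ f ≫ e.inv
      left_inv := fun f => by
        show e.hom ≫ (e.inv ≫ f ≫ e.hom) ≫ e.inv = f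
        simp
      right_inv := fun f => by
        show e.inv ≫ (e.hom ≫ f ≫ e.inv) ≫ e.hom = f
        simp }
    (by
      show e.inv ≫ 𝟙 M ≫ e.hom = 𝟙 N
      simp)
    (fun f g => by
      show e.inv ≫ ((g : M ⟶ M) ≫ f) ≫ e.hom = (e.inv ≫ g ≫ e.hom) ≫ e.inv ≫ f ≫ e.hom
      simp)

end Iso

section Tensor

variable (k : Type u) [Field k] {X : Scheme.{u}} [X.Over (Spec (CommRingCat.of k))]

/-- The tensor product functor. -/
abbrev TT (M : X.Modules) : X.Modules ⥤ X.Modules := (DCoh.tensorBi (X := X)).obj M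

theorem tensorBi_obj_map_smul_id (a : k) (M N : X.Modules) :
    (TT M).map (a • 𝟙 N) = a • 𝟙 ((TT M).obj N) := by
  have h := ((OX.tensorBraiding (X := X)).hom.app M).naturality (a • 𝟙 N)
  change ((DCoh.tensorBi (X := X)).map (a • 𝟙 N)).app M ≫ _ = _ at h
  rw [OX.tensorBi_map_smul_id, Linear.smul_comp] at h
  rw [← cancel_epi (((OX.tensorBraiding (X := X)).hom.app M).app N), ← h, Linear.comp_smul, Category.comp_id]
  exact congrArg (a • ·) (Category.id_comp _)

/-- Endomorphisms act on a tensor product through the first factor. -/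
def endTensorLeft (M N : X.Modules) : End M →ₐ[k] End ((TT M).obj N) where
  toFun f := ((DCoh.tensorBi (X := X)).map f).app N
  map_one' := congrArg (fun φ => φ.app N) ((DCoh.tensorBi (X := X)).map_id M)
  map_mul' f g := congrArg (fun φ => φ.app N) ((DCoh.tensorBi (X := X)).map_comp g f)
  map_zero' := congrArg (fun φ => φ.app N) ((DCoh.tensorBi (X := X)).map_zero M M)
  map_add' f g := congrArg (fun φ => φ.app N) ((DCoh.tensorBi (X := X)).map_add (f := f) (g := g))
  commutes' a := by
    show ((DCoh.tensorBi (X := X)).map (a • 𝟙 M)).app N = a • 𝟙 _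
    exact OX.tensorBi_map_smul_id k a M N

/-- Endomorphisms act on a tensor product through the second factor. -/
def endTensorRight (M N : X.Modules) : End N →ₐ[k] End ((TT M).obj N) where
  toFun g := (TT M).map g
  map_one' := (TT M).map_id N
  map_mul' f g := (TT M).map_comp g f
  map_zero' := (TT M).map_zero N N
  map_add' f g := (TT M).map_add
  commutes' a := tensorBi_obj_map_smul_id k a M N

theorem commute_endTensor (M N : X.Modules) (f : End M) (g : End N) :
    Commute (endTensorLeft k M N f) (endTensorRight k M N g) :=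
  ((DCoh.tensorBi (X := X)).map f).naturality g

open scoped TensorProduct in
/-- Endomorphisms of the factors act on a tensor product. -/
def endTensor {B C : Type u} [Ring B] [Algebra k B] [Ring C] [Algebra k C] {M N : X.Modules}
    (f : B →ₐ[k] End M) (g : C →ₐ[k] End N) : B ⊗[k] C →ₐ[k] End ((TT M).obj N) :=
  Algebra.TensorProduct.lift ((endTensorLeft k M N).comp f) ((endTensorRight k M N).comp g)
    fun b c => commute_endTensor k M N (f b) (g c)

omit [X.Over (Spec (CommRingCat.of k))] in
theorem nonempty_tensor_pow (L M : X.Modules) (a b : ℕ) :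
    Nonempty ((TT (∐ fun _ : Fin a => L)).obj (∐ fun _ : Fin b => M) ≅
      ∐ fun _ : Fin (a * b) => (TT L).obj M) := by
  let F := (DCoh.tensorBi (X := X)).flip.obj (∐ fun _ : Fin b => M)
  let i : F.obj (∐ fun _ : Fin a => L) ≅ ∐ fun _ : Fin a => (∐ fun _ : Fin b => (TT L).obj M) :=
    PreservesCoproduct.iso F _ ≪≫ Sigma.mapIso fun _ => PreservesCoproduct.iso (TT L) _
  exact ⟨i ≪≫ sigmaSigmaIso (fun _ : Fin a => Fin b) (fun _ _ => (TT L).obj M) ≪≫
    (Sigma.whiskerEquiv ((Equiv.sigmaEquivProd (Fin a) (Fin b)).trans finProdFinEquiv)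
      (g := fun _ : Fin (a * b) => (TT L).obj M) (fun _ => Iso.refl _))⟩

end Tensor

section BaseChange

variable {k : Type u} [Field k] {X : Scheme.{u}} (p : X ⟶ Spec (CommRingCat.of k)) [IsProper p]
  (K : Type u) [Field K] [Algebra k K] {F G : X.Modules}

attribute [local instance] overBC

/-- Homomorphisms of coherent modules commute with extension of the ground field. -/
theorem finrank_hom_bc (hF : Coh.IsCoh F) (hG : Coh.IsCoh G) :
    letI := overX p
    Module.finrank k (F ⟶ G) = Module.finrank K (BrSev.bcMod p K F ⟶ BrSev.bcMod p K G) := by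
  classical
  letI := overX p
  haveI : IsProper (X ↘ Spec (CommRingCat.of k)) := ‹IsProper p›
  haveI := Euler.isNoetherian_of_proper (X := X) k
  haveI := finite_hom k hF hG
  haveI := hF.1
  haveI := hG.1
  haveI : CompactSpace X := QuasiCompact.compactSpace_of_compactSpace p
  let B := Module.finBasis k (F ⟶ G)
  let Φ := Scheme.Modules.pullback (BrSev.proj p K)
  let v : Fin (Module.finrank k (F ⟶ G)) → (BrSev.bcMod p K F ⟶ BrSev.bcMod p K G) := fun l => Φ.map (B l)
  let b := Module.Free.chooseBasis k K
  have hind : LinearIndependent K v := by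
    rw [Fintype.linearIndependent_iff]
    intro c hc l
    let s : Finset (Module.Free.ChooseBasisIndex k K) := Finset.univ.biUnion fun l => (b.repr (c l)).support
    have hexp : ∀ l, ∑ i ∈ s, (b i * algebraMap k K (b.repr (c l) i)) = c l := fun l => by
      conv_rhs => rw [← b.linearCombination_repr (c l)]
      rw [Finsupp.linearCombination_apply, Finsupp.sum_of_support_subset _
        (Finset.subset_biUnion_of_mem (fun l => (b.repr (c l)).support) (Finset.mem_univ l)) _
        fun i _ => zero_smul k (b i)]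
      exact Finset.sum_congr rfl fun i _ => by rw [Algebra.smul_def, mul_comm]
    have h0 := eq_zero_of_sum_eq_zero p K b s (fun i => ∑ l, b.repr (c l) i • B l) (by
      refine Eq.trans ?_ hc
      simp only [Functor.map_sum, map_smul_base, Finset.smul_sum, smul_smul]
      rw [Finset.sum_comm]
      refine Finset.sum_congr rfl fun l _ => ?_
      rw [← Finset.sum_smul, hexp])
    apply b.repr.map_eq_zero_iff.1
    ext i
    by_contra hi
    have hi' : i ∈ s := Finset.mem_biUnion.2 ⟨l, Finset.mem_univ l, Finsupp.mem_support_iff.2 hi⟩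
    exact hi (Fintype.linearIndependent_iff.1 B.linearIndependent _ (h0 i hi') l)
  have hspan : ⊤ ≤ Submodule.span K (Set.range v) := fun ψ _ => by
    obtain ⟨s, φ, rfl⟩ := exists_expansion p K b ψ hF.2
    refine Submodule.sum_mem _ fun i _ => Submodule.smul_mem _ _ ?_
    rw [← B.sum_repr (φ i), Functor.map_sum]
    refine Submodule.sum_mem _ fun l _ => ?_
    rw [map_smul_base]
    exact Submodule.smul_mem _ _ (Submodule.subset_span ⟨l, rfl⟩)
  rw [Module.finrank_eq_card_basis (Module.Basis.mk hind hspan), Fintype.card_fin]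

end BaseChange

/-- A ring all whose elements are units or nilpotent and which is simple is a division ring. -/
theorem isUnit_of_isSimpleRing {R : Type*} [Ring R] [IsSimpleRing R] (h : ∀ f : R, IsUnit f ∨ IsNilpotent f)
    (f : R) (hf : f ≠ 0) : IsUnit f := by
  haveI : Nontrivial R := inferInstance
  by_contra hu
  have hl : ∀ a b : R, IsUnit (a * b) → IsNilpotent b → False := fun a b ⟨u, hu⟩ hb => by
    have h1 : ((↑u⁻¹ : R) * a) * b = 1 := by rw [mul_assoc, ← hu, Units.inv_mul]
    obtain ⟨n, hn⟩ := hb
    induction n with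
    | zero => exact one_ne_zero (α := R) (by simpa using hn)
    | succ n ih => exact ih (by rw [← one_mul (b ^ n), ← h1, mul_assoc, ← pow_succ', hn, mul_zero])
  have hr : ∀ a b : R, IsUnit (b * a) → IsNilpotent b → False := fun a b ⟨u, hu⟩ hb => by
    have h1 : b * (a * (↑u⁻¹ : R)) = 1 := by rw [← mul_assoc, ← hu, Units.mul_inv]
    obtain ⟨n, hn⟩ := hb
    induction n with
    | zero => exact one_ne_zero (α := R) (by simpa using hn)
    | succ n ih => exact ih (by rw [← mul_one (b ^ n), ← h1, ← mul_assoc, ← pow_succ, hn, zero_mul])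
  have hn : ∀ x : R, ¬ IsUnit x → IsNilpotent x := fun x hx => (h x).resolve_left hx
  let I : TwoSidedIdeal R := TwoSidedIdeal.mk' {x | ¬ IsUnit x} not_isUnit_zero
    (fun {x y} hx hy ⟨u, hu⟩ => by
      have e : (↑u⁻¹ : R) * x + ↑u⁻¹ * y = 1 := by rw [← mul_add, ← hu, Units.inv_mul]
      have := (hn _ fun hxu => hl ↑u⁻¹ x hxu (hn x hx)).isUnit_one_sub
      rw [← e, add_sub_cancel_left] at this
      exact hl _ _ this (hn y hy))
    (fun {x} hx hxu => hx (by simpa using hxu.neg)) (fun {x y} hy hxy => hl _ _ hxy (hn y hy))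
    (fun {x y} hx hxy => hr _ _ hxy (hn x hx))
  have hmem : ∀ x, x ∈ I ↔ ¬ IsUnit x := fun x => TwoSidedIdeal.mem_mk' _ _ _ _ _ _ x
  rcases IsSimpleOrder.eq_bot_or_eq_top I with hI | hI
  · have := (hmem f).2 hu
    rw [hI] at this
    exact hf ((TwoSidedIdeal.mem_bot _).1 this)
  · exact (hmem 1).1 (hI ▸ trivial) isUnit_one

theorem isSimpleRing_of_matrix {R : Type*} [Ring R] (ι : Type*) [Fintype ι] [Nonempty ι] [DecidableEq ι]
    [h : IsSimpleRing (Matrix ι ι R)] : IsSimpleRing R :=
  ⟨(TwoSidedIdeal.orderIsoMatrix (R := R) (n := ι)).isSimpleOrder⟩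

end GrothLib.ASBun21
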