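import Groth.Agent.Lib.ASBun21.RatLine
import Groth.Agent.Lib.ASBun21.TautEnd

/-!
# The type of the kernel of a rational left ideal of an algebra
-/

set_option autoImplicit false
set_option linter.style.haveILetI false
set_option backward.isDefEq.respectTransparency false
set_option maxHeartbeats 1000000

universe u

open CategoryTheory CategoryTheory.Limits AlgebraicGeometry TopologicalSpace Opposite Matrix
open GrothLib.Ample (res res_res res_self)
open GrothLib.InvExt (mres)
open scoped TensorProduct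

noncomputable section

namespace GrothLib.ASBun21

open SBAut21 (bcA)

/-- A morphism vanishing on sections over small opens around every point is zero. -/
theorem eq_zero_of_app_zero_on {X : Scheme.{u}} {M N : X.Modules} (f : M ⟶ N)
    (h : ∀ (V : X.Opens) (x : X), x ∈ V → ∃ W : X.Opens, W ≤ V ∧ x ∈ W ∧ ∀ z, f.app W z = 0) : f = 0 := by
  refine Scheme.Modules.hom_ext f 0 fun V => ?_
  ext z
  choose W hWV hxW hW using fun x : V => h V x.1 x.2
  refine Ample.meq_of_cover N W hWV (fun x hx => Opens.mem_iSup.2 ⟨⟨x, hx⟩, hxW _⟩) fun x => ?_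
  rw [← Ample.app_mres, hW]
  exact (map_zero (N.presheaf.map (homOfLE (hWV x)).op).hom).symm

section Ideal

variable {k : Type u} [Field k] {B : Type u} [Ring B] [Algebra k B] [FiniteDimensional k B] {m : ℕ}
  {K : Type u} [Field K] [Algebra k K] (e : K ⊗[k] B ≃ₐ[K] Matrix (Fin (m + 1)) (Fin (m + 1)) K)
  {d : ℕ} (b : Module.Basis (Fin d) k B)

omit [FiniteDimensional k B] in
theorem coord_leftMul {R : Type u} [CommRing R] [Algebra k R] (a : B) (v : Fin d → R) :
    coordEquiv b R ((Algebra.leftMulMatrix b a).map (algebraMap k R) *ᵥ v) =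
      ((1 : R) ⊗ₜ[k] a) * coordEquiv b R v := by
  rw [coordEquiv_apply, coordEquiv_apply, Finset.mul_sum]
  simp only [Matrix.mulVec, dotProduct, Algebra.TensorProduct.tmul_mul_tmul, one_mul, TensorProduct.sum_tmul]
  rw [Finset.sum_comm]
  refine Finset.sum_congr rfl fun t _ => ?_
  have h1 : a * b t = ∑ t', Algebra.leftMulMatrix b a t' t • b t' := by
    conv_lhs => rw [← b.sum_repr (a * b t)]
    exact Finset.sum_congr rfl fun t' _ => by rw [Algebra.leftMulMatrix_eq_repr_mul]
  rw [h1, TensorProduct.tmul_sum]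
  exact Finset.sum_congr rfl fun t' _ => by
    rw [TensorProduct.tmul_smul, TensorProduct.smul_tmul', Matrix.map_apply, Algebra.smul_def]

variable {F : Type u} [Field F] [Algebra k F] [Algebra K F] [IsScalarTower k K F]

/-- A nonzero stable subspace of dimension at most the degree is a line of matrices. -/
theorem exists_line_of_stable (P : Submodule F (Fin d → F))
    (hP : ∀ (a : B), ∀ v ∈ P, (Algebra.leftMulMatrix b a).map (algebraMap k F) *ᵥ v ∈ P)
    (hP0 : P ≠ ⊥) (hPd : Module.finrank F P ≤ m + 1) :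
    ∃ (r : Fin (m + 1) → F) (j : Fin (m + 1)), r j ≠ 0 ∧
      ∀ v, v ∈ P ↔ ∃ u : Fin (m + 1) → F, v = ∑ i, u i • cvec e b (algebraMap K F) i r := by
  classical
  have hstab : ∀ z : F ⊗[k] B, ∀ v ∈ P, (coordEquiv b F).symm (z * coordEquiv b F v) ∈ P := by
    intro z v hv
    induction z using TensorProduct.induction_on with
    | zero => simp
    | add x y hx hy => rw [add_mul, map_add]; exact P.add_mem hx hy
    | tmul c a =>
      rw [show (c ⊗ₜ[k] a : F ⊗[k] B) = c • ((1 : F) ⊗ₜ[k] a) by
        rw [TensorProduct.smul_tmul', smul_eq_mul, mul_one], smul_mul_assoc, map_smul, ← coord_leftMul,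
        LinearEquiv.symm_apply_apply]
      exact P.smul_mem _ (hP a v hv)
  obtain ⟨v₀, hv₀, hv₀0⟩ := Submodule.exists_mem_ne_zero_of_ne_bot hP0
  let N := SBAut21.psi e F (coordEquiv b F v₀)
  have hN : N ≠ 0 := fun h => hv₀0 ((coordEquiv b F).injective ((SBAut21.psi e F).injective (by
    rw [map_zero, map_zero]; exact h)))
  obtain ⟨i₀, j, hij⟩ : ∃ i j, N i j ≠ 0 := by
    by_contra h
    push Not at h
    exact hN (Matrix.ext h)
  refine ⟨N i₀, j, hij, ?_⟩
  let f : (Fin (m + 1) → F) →ₗ[F] (Fin d → F) :=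
    Fintype.linearCombination F fun i => cvec e b (algebraMap K F) i (N i₀)
  have hf : ∀ u, f u = ∑ i, u i • cvec e b (algebraMap K F) i (N i₀) := fun u =>
    Fintype.linearCombination_apply _ _ _
  have hpsi : ∀ u, SBAut21.psi e F (coordEquiv b F (f u)) = Matrix.vecMulVec u (N i₀) := fun u => by
    rw [hf, psi_coord_sum]
  have hfP : ∀ u, f u ∈ P := fun u => by
    have h := hstab ((SBAut21.psi e F).symm (Matrix.vecMulVec u (Pi.single i₀ 1))) v₀ hv₀
    rwa [show (coordEquiv b F).symm ((SBAut21.psi e F).symm (Matrix.vecMulVec u (Pi.single i₀ 1)) *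
        coordEquiv b F v₀) = f u from ?_] at h
    rw [LinearEquiv.symm_apply_eq]
    refine (SBAut21.psi e F).injective ?_
    rw [map_mul, AlgEquiv.apply_symm_apply, hpsi]
    ext x y
    simp [Matrix.mul_apply, Matrix.vecMulVec_apply, Pi.single_apply, N]
  have hfi : Function.Injective f := fun u u' h => by
    funext x
    have h1 := congrFun (congrFun (congrArg (fun z => SBAut21.psi e F (coordEquiv b F z)) h) x) j
    simp only [hpsi, Matrix.vecMulVec_apply] at h1
    exact mul_right_cancel₀ hij h1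
  have heq : LinearMap.range f = P := by
    refine Submodule.eq_of_le_of_finrank_le (fun _ ⟨u, hu⟩ => hu ▸ hfP u) ?_
    rw [LinearMap.finrank_range_of_inj hfi, Module.finrank_fin_fun]
    exact hPd
  intro v
  rw [← heq, LinearMap.mem_range]
  exact exists_congr fun u => by rw [hf, eq_comm]

end Ideal

section BaseChange

/-- The kernel of a matrix after a field extension. -/
theorem ker_map_field {F F' : Type u} [Field F] [Field F'] (φ : F →+* F') {d d' : ℕ}
    (M : Matrix (Fin d') (Fin d) F) :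
    LinearMap.ker (M.map φ).mulVecLin = Submodule.span F' ((φ ∘ ·) '' {v : Fin d → F | M *ᵥ v = 0}) := by
  letI := φ.toAlgebra
  refine le_antisymm (fun v hv => mem_span_of_mulVec_eq_zero M v hv) (Submodule.span_le.2 ?_)
  rintro _ ⟨v, hv, rfl⟩
  show M.map φ *ᵥ (φ ∘ v) = 0
  funext i
  rw [← RingHom.map_mulVec, show M *ᵥ v = 0 from hv]
  simp

theorem finrank_ker_map_le {F F' : Type u} [Field F] [Field F'] (φ : F →+* F') {d d' : ℕ}
    (M : Matrix (Fin d') (Fin d) F) :
    Module.finrank F' (LinearMap.ker (M.map φ).mulVecLin) ≤ Module.finrank F (LinearMap.ker M.mulVecLin) := by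
  classical
  let bs := Module.finBasis F (LinearMap.ker M.mulVecLin)
  have h : LinearMap.ker (M.map φ).mulVecLin ≤ Submodule.span F' (Set.range fun i => φ ∘ (bs i : Fin d → F)) := by
    rw [ker_map_field φ M, Submodule.span_le]
    rintro _ ⟨v, hv, rfl⟩
    have hsum := congrArg (Subtype.val) (bs.sum_repr ⟨v, hv⟩)
    rw [AddSubmonoidClass.coe_finset_sum] at hsum
    show φ ∘ v ∈ _
    rw [← show ∑ i, ((bs.repr ⟨v, hv⟩ i • bs i : LinearMap.ker M.mulVecLin) : Fin d → F) = v from hsum]
    have : φ ∘ (∑ i, ((bs.repr ⟨v, hv⟩ i • bs i : LinearMap.ker M.mulVecLin) : Fin d → F)) =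
        ∑ i, φ (bs.repr ⟨v, hv⟩ i) • (φ ∘ (bs i : Fin d → F)) := by
      funext t
      simp [Finset.sum_apply]
    show φ ∘ _ ∈ _
    rw [this]
    exact Submodule.sum_mem _ fun i _ => Submodule.smul_mem _ _ (Submodule.subset_span ⟨i, rfl⟩)
  refine (Submodule.finrank_mono h).trans ?_
  exact (finrank_range_le_card _).trans (le_of_eq (Fintype.card_fin _))

end BaseChange

section Compare

variable {k : Type u} [Field k] {B : Type u} [Ring B] [Algebra k B] [FiniteDimensional k B] {m : ℕ}
  {K : Type u} [Field K] [Algebra k K] (e : K ⊗[k] B ≃ₐ[K] Matrix (Fin (m + 1)) (Fin (m + 1)) K)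
  {d : ℕ} (b : Module.Basis (Fin d) k B) {X : Scheme.{u}} {Y : Scheme.{u}} (π : Y ⟶ X)
  (w : Y ⟶ Spec (CommRingCat.of K))

/-- The maps from free modules into the pullback. -/
def rowHom (i : Fin (m + 1)) : FlatMod.freeMod Y (m + 1) ⟶ pullFree π d :=
  Sigma.desc fun l => FinCov.homOfSection (∑ t, kc w ⊤ (kap e b i l t) • psec π t ⊤)

omit [FiniteDimensional k B] in
theorem rowHom_app (i : Fin (m + 1)) (W : Y.Opens) (v : Fin (m + 1) → Γ(Y, W)) :
    (rowHom e b π w i).app W (∑ l, v l • std Y l W) = fcomb π W (cvec e b (kc w W) i v) := by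
  rw [map_sum, fcomb_apply]
  simp only [cvec, Finset.sum_smul]
  rw [Finset.sum_comm]
  refine Finset.sum_congr rfl fun l _ => ?_
  rw [Scheme.Modules.Hom.app_smul, std, rowHom]
  show _ • (Sigma.ι (fun _ : Fin (m + 1) => Coh.structureModule Y) l ≫ Sigma.desc _).app W (FinCov.one Y W) = _
  rw [Sigma.ι_desc, FinCov.homOfSection_one]
  refine (congrArg (v l • ·) (map_sum ((pullFree π d).presheaf.map (homOfLE (le_top : W ≤ ⊤)).op).hom _ _)).trans ?_
  rw [Finset.smul_sum]
  refine Finset.sum_congr rfl fun t _ => ?_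
  refine (congrArg (v l • ·) ((Ample.mres_smul' _ _ _ _).trans (by rw [mres_psec]))).trans ?_
  rw [smul_smul, mul_comm]
  congr 2
  exact res_kc w (le_top : W ≤ ⊤) _

variable [IsIntegral Y] (r : Fin (m + 1) → Y.functionField) (j : Fin (m + 1))

/-- The comparison map from the lines. -/
def rowSum : (∐ fun _ : Fin (m + 1) => line' r j) ⟶ pullFree π d :=
  Sigma.desc fun i => rkerι (lineMat r j) ≫ rowHom e b π w i

omit [FiniteDimensional k B] in
theorem exists_rows {r : Fin (m + 1) → Y.functionField} {j : Fin (m + 1)} (hj : r j ≠ 0) {W : Y.Opens}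
    (hW : genericPoint Y ∈ W) (z : Γ(∐ fun _ : Fin (m + 1) => line' r j, W)) :
    ∃ (v : Fin (m + 1) → Fin (m + 1) → Γ(Y, W)) (x : Fin (m + 1) → Γ(line' r j, W)),
      z = ∑ i, (Sigma.ι (fun _ : Fin (m + 1) => line' r j) i).app W (x i) ∧
      (∀ i, (rkerι (lineMat r j)).app W (x i) = ∑ l, v i l • std Y l W) ∧
      (∀ i, ∃ a : Y.functionField, (fun l => Y.presheaf.germ W (genericPoint Y) hW (v i l)) = a • r) ∧
      (rowSum e b π w r j).app W z = fcomb π W (∑ i, cvec e b (kc w W) i (v i)) := by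
  choose v hv hv0 using fun i => exists_rkerι_coord hW ((powProj (line' r j) (m + 1) i).app W z)
  have hz : z = ∑ i, (Sigma.ι (fun _ : Fin (m + 1) => line' r j) i).app W
      ((powProj (line' r j) (m + 1) i).app W z) := by
    conv_lhs => rw [show z = (∑ i, powProj (line' r j) (m + 1) i ≫
      Sigma.ι (fun _ : Fin (m + 1) => line' r j) i).app W z by rw [powProj_total]; rfl]
    rw [FinCov.sum_app]
    rfl
  refine ⟨v, _, hz, hv, fun i => (lineMat_mulVec_eq_zero_iff hj _).1 (hv0 i), ?_⟩
  conv_lhs => rw [hz]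
  rw [map_sum, map_sum]
  refine Finset.sum_congr rfl fun i _ => ?_
  show (Sigma.ι (fun _ : Fin (m + 1) => line' r j) i ≫ rowSum e b π w r j).app W _ = _
  rw [rowSum, Sigma.ι_desc]
  show (rowHom e b π w i).app W ((rkerι (lineMat r j)).app W _) = _
  rw [hv i, rowHom_app]

variable [IsIntegral X] [Surjective π] [Flat π]

attribute [local instance] Curv2.stalkAlgebra

include e in
/-- **The kernel of a rational left ideal becomes a sum of copies of a line.** -/
theorem exists_iso_line [X.Over (Spec (CommRingCat.of k))]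
    (hw : π ≫ (X ↘ Spec (CommRingCat.of k)) = w ≫ Spec.map (CommRingCat.ofHom (algebraMap k K)))
    (M : Matrix (Fin d) (Fin d) X.functionField)
    (hM : ∀ (a : B) (v : Fin d → X.functionField), M *ᵥ v = 0 →
      M *ᵥ ((Algebra.leftMulMatrix b a).map (algebraMap k X.functionField) *ᵥ v) = 0)
    (hMd : Module.finrank X.functionField (LinearMap.ker M.mulVecLin) = m + 1) :
    ∃ (r : Fin (m + 1) → Y.functionField) (j : Fin (m + 1)), r j ≠ 0 ∧
      Nonempty ((Scheme.Modules.pullback π).obj (rker M) ≅ ∐ fun _ : Fin (m + 1) => line' r j) := by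
  classical
  letI : Y.Over (Spec (CommRingCat.of K)) := ⟨w⟩
  letI : Algebra k Y.functionField := ((algebraMap K Y.functionField).comp (algebraMap k K)).toAlgebra
  haveI : IsScalarTower k K Y.functionField := IsScalarTower.of_algebraMap_eq fun _ => rfl
  let φ := ffMap π
  have hsec : ∀ {U : X.Opens} {W : Y.Opens} (le : W ≤ π ⁻¹ᵁ U) (c : k),
      (π.appLE U W le).hom (kc (X ↘ Spec (CommRingCat.of k)) U c) = kc w W (algebraMap k K c) := fun le c => by
    rw [appLE_kc π _ hw le, kc_comp]
    rfl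
  have hφk : ∀ c : k, φ (algebraMap k X.functionField c) = algebraMap k Y.functionField c := fun c => by
    rw [← germ_kc (V := (⊤ : X.Opens)) (genericPoint X) trivial c,
      ffMap_germ π (show (⊤ : Y.Opens) ≤ π ⁻¹ᵁ (⊤ : X.Opens) from le_top) trivial trivial, hsec]
    exact germ_kc (X := Y) (k := K) (V := (⊤ : Y.Opens)) (genericPoint Y) trivial _
  let P := LinearMap.ker (M.map φ).mulVecLin
  have hP : ∀ (a : B), ∀ v ∈ P, (Algebra.leftMulMatrix b a).map (algebraMap k Y.functionField) *ᵥ v ∈ P := by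
    intro a v hv
    have hv' : v ∈ Submodule.span Y.functionField ((φ ∘ ·) '' {u : Fin d → X.functionField | M *ᵥ u = 0}) := by
      rwa [← ker_map_field φ M]
    let T := ((Algebra.leftMulMatrix b a).map (algebraMap k Y.functionField)).mulVecLin
    refine (Submodule.span_le (p := P.comap T)).2 ?_ hv'
    rintro _ ⟨u, hu, rfl⟩
    show T (φ ∘ u) ∈ P
    show _ ∈ LinearMap.ker (M.map φ).mulVecLin
    rw [ker_map_field φ M]
    refine Submodule.subset_span ⟨_, hM a u hu, ?_⟩
    funext i
    simp [T, Matrix.mulVec, dotProduct, hφk]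
  have hP0 : P ≠ ⊥ := fun h => by
    obtain ⟨v, hv, hv0⟩ := Submodule.exists_mem_ne_zero_of_ne_bot
      (p := LinearMap.ker M.mulVecLin) fun h0 => by rw [h0, finrank_bot] at hMd; omega
    have : φ ∘ v ∈ P := by
      show _ ∈ LinearMap.ker (M.map φ).mulVecLin
      rw [ker_map_field φ M]
      exact Submodule.subset_span ⟨v, hv, rfl⟩
    rw [h, Submodule.mem_bot] at this
    exact hv0 (funext fun t => φ.injective ((congrFun this t).trans (map_zero _).symm))
  obtain ⟨r, j, hj, hr⟩ := exists_line_of_stable e b P hP hP0 ((finrank_ker_map_le φ M).trans hMd.le)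
  refine ⟨r, j, hj, ?_⟩
  -- small opens
  have small : ∀ (V : Y.Opens) (y : Y), y ∈ V → ∃ (W : Y.Opens) (U : X.Opens), W ≤ V ∧ y ∈ W ∧
      IsAffineOpen W ∧ IsAffineOpen U ∧ W ≤ π ⁻¹ᵁ U ∧ genericPoint Y ∈ W ∧ genericPoint X ∈ U := by
    intro V y hy
    obtain ⟨U, hU, hyU, -⟩ := exists_isAffineOpen_mem_and_subset (U := ⊤) (x := π y) trivial
    obtain ⟨W, hW, hyW, hle⟩ := exists_isAffineOpen_mem_and_subset (U := V ⊓ π ⁻¹ᵁ U) (x := y) ⟨hy, hyU⟩
    exact ⟨W, U, fun z hz => (hle hz).1, hyW, hW, hU, fun z hz => (hle hz).2,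
      ((genericPoint_spec Y).specializes trivial).mem_open W.2 hyW,
      ((genericPoint_spec X).specializes trivial).mem_open U.2 hyU⟩
  -- membership in the kernel on opens
  have hcoord : ∀ {W : Y.Opens} (hW : genericPoint Y ∈ W) (c : Fin d → Γ(Y, W)),
      M.map φ *ᵥ (fun t => Y.presheaf.germ W (genericPoint Y) hW (c t)) = 0 ↔
        ∃ v : Fin (m + 1) → Fin (m + 1) → Γ(Y, W),
          (∀ i, ∃ a : Y.functionField, (fun l => Y.presheaf.germ W (genericPoint Y) hW (v i l)) = a • r) ∧
          c = ∑ i, cvec e b (kc w W) i (v i) := by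
    intro W hW c
    letI := secAlg w W
    letI : Algebra k Γ(Y, W) := ((algebraMap K Γ(Y, W)).comp (algebraMap k K)).toAlgebra
    haveI : IsScalarTower k K Γ(Y, W) := IsScalarTower.of_algebraMap_eq fun _ => rfl
    let g : Γ(Y, W) →ₐ[k] Y.functionField :=
      { (Y.presheaf.germ W (genericPoint Y) hW).hom with
        commutes' := fun x => germ_kc (X := Y) (k := K) (genericPoint Y) hW (algebraMap k K x) }
    have hgK : ∀ x : K, g (algebraMap K Γ(Y, W) x) = algebraMap K Y.functionField x :=
      fun x => germ_kc (X := Y) (k := K) (genericPoint Y) hW x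
    have hsum : ∀ v : Fin (m + 1) → Fin (m + 1) → Γ(Y, W),
        SBAut21.psi e Γ(Y, W) (coordEquiv b Γ(Y, W) (∑ i, cvec e b (kc w W) i (v i))) = Matrix.of v := fun v => by
      rw [map_sum, map_sum]
      refine (Finset.sum_congr rfl fun i _ => psi_coord_cvec e b i (v i)).trans ?_
      ext a c
      simp [Matrix.sum_apply, Matrix.vecMulVec_apply, Pi.single_apply]
    have hgerm : SBAut21.psi e Y.functionField
        (coordEquiv b Y.functionField fun t => Y.presheaf.germ W (genericPoint Y) hW (c t)) =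
        (SBAut21.psi e Γ(Y, W) (coordEquiv b Γ(Y, W) c)).map g := by
      rw [← SBAut21.psi_bcA e g hgK, bcA_coordEquiv]
      rfl
    refine (hr _).trans ⟨?_, ?_⟩
    · rintro ⟨u, hu⟩
      let N := SBAut21.psi e Γ(Y, W) (coordEquiv b Γ(Y, W) c)
      refine ⟨fun i l => N i l, fun i => ⟨u i, ?_⟩, ?_⟩
      · funext l
        have h1 := congrFun (congrFun hgerm i) l
        rw [hu, psi_coord_sum] at h1
        simp only [Matrix.vecMulVec_apply, Matrix.map_apply] at h1
        exact h1.symm
      · exact (coordEquiv b Γ(Y, W)).injective ((SBAut21.psi e Γ(Y, W)).injective (hsum _).symm)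
    · rintro ⟨v, hv, rfl⟩
      choose a ha using hv
      refine ⟨a, (coordEquiv b Y.functionField).injective ((SBAut21.psi e Y.functionField).injective ?_)⟩
      rw [psi_coord_sum, hgerm, hsum]
      ext i l
      exact congrFun (ha i) l
  let Ψ := rowSum e b π w r j
  have hΨinj : ∀ {U : X.Opens} {W : Y.Opens}, IsAffineOpen U → IsAffineOpen W → W ≤ π ⁻¹ᵁ U →
      genericPoint Y ∈ W → ∀ z, Ψ.app W z = 0 → z = 0 := by
    intro U W hU hW le hη z hz
    obtain ⟨v, x, hzx, hxv, -, hΨ⟩ := exists_rows e b π w hj hη z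
    have h0 := (fcomb_bijective π hU hW le).1 ((hΨ.symm.trans hz).trans (map_zero _).symm)
    letI := secAlg w W
    letI : Algebra k Γ(Y, W) := ((algebraMap K Γ(Y, W)).comp (algebraMap k K)).toAlgebra
    haveI : IsScalarTower k K Γ(Y, W) := IsScalarTower.of_algebraMap_eq fun _ => rfl
    have h1 := congrArg (fun c => SBAut21.psi e Γ(Y, W) (coordEquiv b Γ(Y, W) c)) h0
    simp only [map_zero] at h1
    rw [show SBAut21.psi e Γ(Y, W) (coordEquiv b Γ(Y, W) (∑ i, cvec e b (kc w W) i (v i))) = Matrix.of v by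
      rw [map_sum, map_sum]
      refine (Finset.sum_congr rfl fun i _ => psi_coord_cvec e b i (v i)).trans ?_
      ext a c
      simp [Matrix.sum_apply, Matrix.vecMulVec_apply, Pi.single_apply]] at h1
    rw [hzx]
    refine Finset.sum_eq_zero fun i _ => ?_
    have : x i = 0 := rkerι_injective W (by
      rw [hxv i, map_zero]
      exact Finset.sum_eq_zero fun l _ => by
        rw [show v i l = 0 from congrFun (congrFun h1 i) l, zero_smul])
    rw [this, map_zero]
  haveI : Mono Ψ := mono_of_injective_on Ψ fun V y hy => by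
    obtain ⟨W, U, hWV, hyW, hW, hU, le, hηW, -⟩ := small V y hy
    exact ⟨W, hWV, hyW, hΨinj hU hW le hηW⟩
  have hsurj : ∀ {W : Y.Opens} (hW : genericPoint Y ∈ W) (c : Fin d → Γ(Y, W)),
      M.map φ *ᵥ (fun t => Y.presheaf.germ W (genericPoint Y) hW (c t)) = 0 →
        ∃ z, Ψ.app W z = fcomb π W c := by
    intro W hW c hc
    obtain ⟨v, hv, rfl⟩ := (hcoord hW c).1 hc
    choose x hx using fun i => exists_rkerι_eq (M := lineMat r j) hW (v i)
      ((lineMat_mulVec_eq_zero_iff hj _).2 (hv i))
    refine ⟨∑ i, (Sigma.ι (fun _ : Fin (m + 1) => line' r j) i).app W (x i), ?_⟩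
    rw [map_sum, map_sum]
    refine Finset.sum_congr rfl fun i _ => ?_
    show (Sigma.ι (fun _ : Fin (m + 1) => line' r j) i ≫ Ψ).app W _ = _
    rw [show Ψ = rowSum e b π w r j from rfl, rowSum, Sigma.ι_desc]
    show (rowHom e b π w i).app W ((rkerι (lineMat r j)).app W _) = _
    rw [hx i, rowHom_app]
  let ι' := (Scheme.Modules.pullback π).map (rkerι M)
  haveI := isQuasicoherent_rker M
  have hgermc : ∀ {U : X.Opens} {W : Y.Opens} (le : W ≤ π ⁻¹ᵁ U) (hU : genericPoint X ∈ U)
      (hW : genericPoint Y ∈ W) (c : Fin d → Γ(X, U)),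
      (fun t => Y.presheaf.germ W (genericPoint Y) hW ((π.appLE U W le).hom (c t))) =
        φ ∘ fun t => X.presheaf.germ U (genericPoint X) hU (c t) :=
    fun le hU hW c => funext fun t => (ffMap_germ π le hU hW (c t)).symm
  have hcond : ι' ≫ cokernel.π Ψ = 0 := by
    refine eq_zero_of_app_zero_on _ fun V y hy => ?_
    obtain ⟨W, U, hWV, hyW, hW, hU, le, hηW, hηU⟩ := small V y hy
    refine ⟨W, hWV, hyW, fun z => ?_⟩
    letI : Algebra Γ(X, U) Γ(Y, W) := (π.appLE U W le).hom.toAlgebra
    letI : Module Γ(X, U) Γ((Scheme.Modules.pullback π).obj (rker M), W) :=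
      Module.compHom _ (π.appLE U W le).hom
    haveI : IsScalarTower Γ(X, U) Γ(Y, W) Γ((Scheme.Modules.pullback π).obj (rker M), W) :=
      IsScalarTower.of_algebraMap_smul fun _ _ => rfl
    obtain ⟨q, hq, hqs⟩ := BCCoh.isBaseChange_pullRes π (rker M) hU hW le
    induction z using hq.inductionOn with
    | zero => exact map_zero _
    | tmul s =>
      obtain ⟨c, hc, hc0⟩ := exists_rkerι_coord hηU s
      obtain ⟨z', hz'⟩ := hsurj hηW (fun t => (π.appLE U W le).hom (c t)) (by
        funext i
        rw [hgermc le hηU hηW c, ← RingHom.map_mulVec, hc0]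
        simp)
      show (cokernel.π Ψ).app W (ι'.app W (q s)) = 0
      rw [hqs, CohPullLib.pullRes_map, hc, pullRes_stdComb, ← hz']
      exact congrArg (fun f : _ ⟶ cokernel Ψ => f.app W z') (cokernel.condition Ψ)
    | smul s x hx => rw [Scheme.Modules.Hom.app_smul, hx, smul_zero]
    | add x y hx hy => rw [map_add, hx, hy, add_zero]
  let Λ := Abelian.monoLift Ψ ι' hcond
  have hΛ : Λ ≫ Ψ = ι' := Abelian.monoLift_comp _ _ _
  haveI : Mono Λ := by
    haveI := OX.preservesFiniteLimits_pullback_of_flat π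
    haveI : Mono (Λ ≫ Ψ) := by rw [hΛ]; infer_instance
    exact mono_of_mono _ Ψ
  haveI : Epi Λ := epi_of_surjective_on Λ fun V y hy => by
    obtain ⟨W, U, hWV, hyW, hW, hU, le, hηW, hηU⟩ := small V y hy
    refine ⟨W, hWV, hyW, fun z => ?_⟩
    obtain ⟨v, x, -, -, hv, hΨz⟩ := exists_rows e b π w hj hηW z
    let c := ∑ i, cvec e b (kc w W) i (v i)
    have hc : M.map φ *ᵥ (fun t => Y.presheaf.germ W (genericPoint Y) hηW (c t)) = 0 :=
      (hcoord hηW c).2 ⟨v, hv, rfl⟩
    haveI : Nonempty U := ⟨⟨_, hηU⟩⟩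
    haveI := functionField_isFractionRing_of_isAffineOpen X U hU
    obtain ⟨s, hs⟩ := IsLocalization.exist_integer_multiples (nonZeroDivisors Γ(X, U)) Finset.univ
      (fun it : Fin d × Fin d => M it.1 it.2)
    choose N hN using fun i t => hs (i, t) (Finset.mem_univ _)
    letI : Algebra Γ(X, U) Γ(Y, W) := (π.appLE U W le).hom.toAlgebra
    haveI : Module.Flat Γ(X, U) Γ(Y, W) := HasRingHomProperty.appLE @Flat π inferInstance ⟨U, hU⟩ ⟨W, hW⟩ le
    have hNM : ∀ u : Fin d → X.functionField, (Matrix.of N).map (algebraMap Γ(X, U) X.functionField) *ᵥ u =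
        algebraMap Γ(X, U) X.functionField s • (M *ᵥ u) := fun u => by
      funext i
      simp only [Matrix.mulVec, dotProduct, Matrix.map_apply, Matrix.of_apply, Pi.smul_apply, smul_eq_mul,
        Finset.mul_sum]
      exact Finset.sum_congr rfl fun t _ => by rw [hN, Algebra.smul_def, mul_assoc]
    have hker : (Matrix.of N).map (algebraMap Γ(X, U) Γ(Y, W)) *ᵥ c = 0 := by
      funext i
      refine germ_injective_of_isIntegral Y (genericPoint Y) hηW ?_
      rw [Pi.zero_apply, map_zero]
      have h1 : ((Matrix.of N).map (algebraMap Γ(X, U) X.functionField)).map φ *ᵥ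
          (fun t => Y.presheaf.germ W (genericPoint Y) hηW (c t)) = 0 := by
        have : (Matrix.of N).map (algebraMap Γ(X, U) X.functionField) =
            algebraMap Γ(X, U) X.functionField s • M := by
          ext i t
          simp only [Matrix.map_apply, Matrix.of_apply, Matrix.smul_apply, hN, smul_eq_mul]
          exact Algebra.smul_def _ _
        rw [this, show (algebraMap Γ(X, U) X.functionField s • M).map φ =
          φ (algebraMap Γ(X, U) X.functionField s) • M.map φ by
            ext i t; simp only [Matrix.map_apply, Matrix.smul_apply, smul_eq_mul, map_mul], Matrix.smul_mulVec, hc, smul_zero]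
      refine Eq.trans ?_ (congrFun h1 i)
      simp only [Matrix.mulVec, dotProduct, map_sum, map_mul, Matrix.map_apply]
      exact Finset.sum_congr rfl fun t _ => congrArg (· * _) (ffMap_germ π le hηU hηW (N i t)).symm
    have hspan := mem_span_of_mulVec_eq_zero (Matrix.of N) c hker
    suffices H : ∃ y, ι'.app W y = fcomb π W c by
      obtain ⟨y, hy⟩ := H
      refine ⟨y, sub_eq_zero.1 (hΨinj hU hW le hηW _ ?_)⟩
      rw [map_sub, hΨz, sub_eq_zero]
      exact (congrArg (fun f : _ ⟶ pullFree π d => f.app W y) hΛ).trans hy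
    clear hΨz hc hker
    clear_value c
    induction hspan using Submodule.span_induction with
    | mem u hu =>
      obtain ⟨c₀, hc₀, rfl⟩ := hu
      have hM0 : M *ᵥ (fun t => X.presheaf.germ U (genericPoint X) hηU (c₀ t)) = 0 := by
        have h1 := hNM fun t => X.presheaf.germ U (genericPoint X) hηU (c₀ t)
        have h2 : (Matrix.of N).map (algebraMap Γ(X, U) X.functionField) *ᵥ
            (algebraMap Γ(X, U) X.functionField ∘ c₀) = 0 := by
          funext i
          rw [← RingHom.map_mulVec, show Matrix.of N *ᵥ c₀ = 0 from hc₀]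
          simp
        refine (smul_eq_zero.1 (h1.symm.trans h2)).resolve_left ?_
        exact IsFractionRing.to_map_ne_zero_of_mem_nonZeroDivisors s.2
      obtain ⟨x, hx⟩ := exists_rkerι_eq hηU c₀ hM0
      refine ⟨BCCoh.pullRes π (rker M) U W le x, ?_⟩
      rw [CohPullLib.pullRes_map, hx, pullRes_stdComb]
      rfl
    | zero => exact ⟨0, by rw [map_zero, map_zero]⟩
    | add u u' _ _ h h' =>
      obtain ⟨y, hy⟩ := h
      obtain ⟨y', hy'⟩ := h'
      exact ⟨y + y', by rw [map_add, map_add, hy, hy']⟩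
    | smul a u _ h =>
      obtain ⟨y, hy⟩ := h
      exact ⟨a • y, by rw [Scheme.Modules.Hom.app_smul, map_smul, hy]⟩
  haveI : IsIso Λ := isIso_of_mono_of_epi _
  exact ⟨asIso Λ⟩

end Compare

end GrothLib.ASBun21
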