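import Groth.Agent.Lib.ASBun21.Split
import Groth.Agent.Lib.ASBun21.TautEnd
import Groth.Agent.Lib.CurveMult.TwistSplit

/-!
# Indecomposables which split into given types
-/

set_option autoImplicit false
set_option linter.style.haveILetI false
set_option backward.isDefEq.respectTransparency false
set_option maxHeartbeats 1000000

universe u

open CategoryTheory CategoryTheory.Limits AlgebraicGeometry

noncomputable section

namespace GrothLib.ASBun21

attribute [local instance] Abelian.hasFiniteBiproducts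

variable {k : Type u} [Field k] {X : Scheme.{u}} {p : X ⟶ Spec (CommRingCat.of k)} [IsProper p]
  {K : Type u} [Field K] [Algebra k K] [Algebra.IsAlgebraic k K]

/-- An indecomposable module which splits into given types is one of the isotypical modules of these types. -/
theorem exists_iso_of_split {E : X.Modules} (hE : FlatMod.IsFinLocFree E) (hEi : Indec E) {s : ℕ}
    (T : Fin s → (BrSev.bc p K).Modules) (hsplit : BrSev.bcMod p K E ≅ ∐ T)
    (W : Fin s → X.Modules) (r : Fin s → ℕ) (hWf : ∀ i, FlatMod.IsFinLocFree (W i)) (hWi : ∀ i, Indec (W i))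
    (hr : ∀ i, 0 < r i) (hWt : ∀ i, Nonempty (BrSev.bcMod p K (W i) ≅ ∐ fun _ : Fin (r i) => T i)) :
    ∃ i, Nonempty (E ≅ W i) := by
  classical
  letI : X.Over (Spec (CommRingCat.of k)) := ⟨p⟩
  haveI : IsProper (X ↘ Spec (CommRingCat.of k)) := ‹IsProper p›
  haveI := Euler.isNoetherian_of_proper (X := X) k
  let N := ∏ i, r i
  have hN : 0 < N := Finset.prod_pos fun i _ => hr i
  choose m hm using fun i => (Finset.dvd_prod_of_mem r (Finset.mem_univ i) : r i ∣ N)
  let J := Σ i : Fin s, Fin (m i)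
  let σ : Fin (Fintype.card J) ≃ J := (Fintype.equivFin J).symm
  haveI := finite_hom k (Euler.isCoh_of_isFinLocFree hE) (Euler.isCoh_of_isFinLocFree hE)
  let E₂ : X.Modules := ∐ fun x : Fin (Fintype.card J) => W (σ x).1
  let E₁ : X.Modules := ∐ fun _ : Fin N => E
  have h₁ : FlatMod.IsFinLocFree E₁ := OX.isFinLocFree_sigma _ fun _ => hE
  have h₂ : FlatMod.IsFinLocFree E₂ := OX.isFinLocFree_sigma _ fun _ => hWf _
  let Φ := Scheme.Modules.pullback (BrSev.proj p K)
  haveI : PreservesColimitsOfSize.{0, 0} Φ := preservesColimitsOfSize_shrink.{0, u, 0, u} _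
  let c₁ : BrSev.bcMod p K E₁ ≅ ∐ fun x : Σ _ : Fin N, Fin s => T x.2 :=
    PreservesCoproduct.iso Φ _ ≪≫ Sigma.mapIso (fun _ => hsplit) ≪≫
      sigmaSigmaIso (fun _ : Fin N => Fin s) (fun _ i => T i)
  let c₂ : BrSev.bcMod p K E₂ ≅ ∐ fun x : Σ y : Fin (Fintype.card J), Fin (r (σ y).1) => T (σ x.1).1 :=
    PreservesCoproduct.iso Φ _ ≪≫ Sigma.mapIso (fun y => (hWt (σ y).1).some) ≪≫
      sigmaSigmaIso (fun y : Fin (Fintype.card J) => Fin (r (σ y).1)) (fun y _ => T (σ y).1)
  let q : (Σ y : Fin (Fintype.card J), Fin (r (σ y).1)) ≃ Σ _ : Fin N, Fin s :=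
    (Equiv.sigmaCongrLeft (β := fun x : J => Fin (r x.1)) σ).trans <|
      (Equiv.sigmaAssoc fun i (_ : Fin (m i)) => Fin (r i)).trans <|
        (Equiv.sigmaCongrRight fun i => (Equiv.sigmaEquivProd _ _).trans
          (finProdFinEquiv.trans (finCongr (show m i * r i = N from (mul_comm _ _).trans (hm i).symm)))).trans <|
        (Equiv.sigmaEquivProd (Fin s) (Fin N)).trans <| (Equiv.prodComm _ _).trans (Equiv.sigmaEquivProd _ _).symm
  have hq : ∀ x, (q x).2 = (σ x.1).1 := fun x => rfl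
  obtain ⟨i₁₂⟩ := nonempty_iso_of_bc p K (Euler.isCoh_of_isFinLocFree h₁) (Euler.isCoh_of_isFinLocFree h₂)
    (c₁ ≪≫ (Sigma.whiskerEquiv q fun x => eqToIso (by rw [hq x])).symm ≪≫ c₂.symm)
  obtain ⟨n₁⟩ := nonempty_pow_npow E N
  obtain ⟨n₃⟩ := nonempty_coprod_lsum fun x : Fin (Fintype.card J) => W (σ x).1
  have hp := map_cls_perm k (List.replicate N E) (List.ofFn fun x : Fin (Fintype.card J) => W (σ x).1)
    (fun b hb => mem_replicate_of_mem hb ▸ hEi)
    (fun b hb => mem_replicate_of_mem hb ▸ ‹Module.Finite k (E ⟶ E)›)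
    (fun b hb => by
      obtain ⟨x, rfl⟩ := List.mem_ofFn.1 hb
      exact hWi _)
    ⟨n₁.symm ≪≫ i₁₂ ≪≫ n₃⟩
  obtain ⟨b, hb, hba⟩ := List.mem_map.1
    (hp.mem_iff.1 (List.mem_map.2 ⟨E, List.mem_replicate.2 ⟨hN.ne', rfl⟩, rfl⟩))
  obtain ⟨x, rfl⟩ := List.mem_ofFn.1 hb
  exact ⟨_, cls_eq.1 hba.symm⟩

omit [Algebra.IsAlgebraic k K] [IsProper p] in
/-- Twisting by an invertible module keeps indecomposability. -/
theorem indec_tensor {M A B : X.Modules} (hM : Indec M) (e : CohB1.tensorMod A B ≅ Coh.structureModule X)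
    (e' : CohB1.tensorMod B A ≅ Coh.structureModule X) : Indec (CohB1.tensorMod M A) := by
  let F := Euler.tF A
  let G := Euler.tF B
  let η : ∀ N, G.obj (F.obj N) ≅ N := fun N => (CurveMult.twistInverseIso e).app N
  let η' : ∀ N, F.obj (G.obj N) ≅ N := fun N => (CurveMult.twistInverseIso e').app N
  refine ⟨fun h => hM.1 ((G.map_isZero h).of_iso (η M).symm), fun P Q ⟨f⟩ => ?_⟩
  haveI := preservesBinaryBiproducts_of_preservesBiproducts G
  rcases hM.2 (G.obj P) (G.obj Q) ⟨(η M).symm ≪≫ G.mapIso f ≪≫ G.mapBiprod P Q⟩ with h | h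
  · exact Or.inl ((F.map_isZero h).of_iso (η' P).symm)
  · exact Or.inr ((F.map_isZero h).of_iso (η' Q).symm)

end GrothLib.ASBun21
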