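import Groth.Agent.Lib.FinCov.Frame
import Groth.Agent.Lib.BCCoh.PullSec
import Groth.Agent.Lib.Euler.Coh
import Groth.Agent.Lib.Ample.Cocycle
import Groth.Agent.Lib.QCoh.Extension
import Mathlib.CategoryTheory.Limits.Preserves.Shapes.Kernels

/-!
# Combinations of the standard sections of pullbacks of free modules; sections of kernels
-/

set_option autoImplicit false
set_option linter.style.haveILetI false
set_option backward.isDefEq.respectTransparency false
set_option maxHeartbeats 1000000

universe u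

open CategoryTheory CategoryTheory.Limits AlgebraicGeometry TopologicalSpace Opposite TensorProduct
open GrothLib.Ample (res res_res res_self)
open GrothLib.InvExt (mres)

noncomputable section

namespace GrothLib.ASBun21

section Std

variable (X : Scheme.{u}) {d : ℕ}

/-- The standard sections of a free module. -/
def std (t : Fin d) (V : X.Opens) : Γ(FlatMod.freeMod X d, V) :=
  (Sigma.ι (fun _ : Fin d => Coh.structureModule X) t).app V (FinCov.one X V)

theorem proj_app_std (t t' : Fin d) (V : X.Opens) :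
    (FinCov.proj X d t').app V (std X t V) = if t = t' then FinCov.one X V else 0 := by
  show (Sigma.ι (fun _ : Fin d => Coh.structureModule X) t ≫ FinCov.proj X d t').app V _ = _
  rw [FinCov.ι_proj]
  split <;> rfl

theorem mres_std (t : Fin d) {V W : X.Opens} (h : W ≤ V) :
    mres (FlatMod.freeMod X d) h (std X t V) = std X t W := by
  refine (Ample.app_mres (Sigma.ι (fun _ : Fin d => Coh.structureModule X) t) h (FinCov.one X V)).symm.trans ?_
  refine congrArg _ ?_
  exact map_one (X.presheaf.map (homOfLE h).op).hom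

theorem eq_sum_std (V : X.Opens) (x : Γ(FlatMod.freeMod X d, V)) :
    x = ∑ t, (show Γ(X, V) from (FinCov.proj X d t).app V x) • std X t V := by
  have hx : x = ∑ t, (FinCov.proj X d t ≫ Sigma.ι (fun _ : Fin d => Coh.structureModule X) t).app V x := by
    rw [← FinCov.sum_app, FinCov.sum_proj_ι]; rfl
  conv_lhs => rw [hx]
  refine Finset.sum_congr rfl fun t _ => ?_
  rw [std, ← Scheme.Modules.Hom.app_smul, FinCov.smul_one]
  rfl

theorem std_bijective (V : X.Opens) :
    Function.Bijective fun c : Fin d → Γ(X, V) => ∑ t, c t • std X t V := by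
  refine Function.bijective_iff_has_inverse.2
    ⟨fun x t => (FinCov.proj X d t).app V x, fun c => funext fun t => ?_, fun x => (eq_sum_std X V x).symm⟩
  show (FinCov.proj X d t).app V (∑ t', c t' • std X t' V) = c t
  rw [map_sum, Finset.sum_eq_single t]
  · rw [Scheme.Modules.Hom.app_smul, proj_app_std, if_pos rfl]
    exact FinCov.smul_one V (c t)
  · intro t' _ ht
    rw [Scheme.Modules.Hom.app_smul, proj_app_std, if_neg ht, smul_zero]
  · simp

/-- The basis of the standard sections. -/
def stdBasis (V : X.Opens) : Module.Basis (Fin d) Γ(X, V) Γ(FlatMod.freeMod X d, V) :=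
  Module.Basis.ofEquivFun (LinearEquiv.ofBijective
    ({ toFun := fun c => ∑ t, c t • std X t V
       map_add' := fun c c' => by simp [add_smul, Finset.sum_add_distrib]
       map_smul' := fun r c => by simp [Finset.smul_sum, smul_smul] } :
      (Fin d → Γ(X, V)) →ₗ[Γ(X, V)] Γ(FlatMod.freeMod X d, V)) (std_bijective X V)).symm

theorem stdBasis_apply (V : X.Opens) (t : Fin d) : stdBasis X V t = std X t V := by
  classical
  rw [stdBasis, Module.Basis.coe_ofEquivFun]
  simp [Pi.single_apply]

theorem hom_ext_std {N : X.Modules} {f g : FlatMod.freeMod X d ⟶ N}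
    (h : ∀ (t : Fin d) (V : X.Opens), f.app V (std X t V) = g.app V (std X t V)) : f = g := by
  refine Scheme.Modules.hom_ext f g fun V => ?_
  ext x
  rw [eq_sum_std X V x, map_sum, map_sum]
  exact Finset.sum_congr rfl fun t _ => by rw [Scheme.Modules.Hom.app_smul, Scheme.Modules.Hom.app_smul, h]

end Std

section Pull

variable {X Y : Scheme.{u}} (q : Y ⟶ X) {d : ℕ}

/-- The pullback of a free module. -/
abbrev pullFree (d : ℕ) : Y.Modules := (Scheme.Modules.pullback q).obj (FlatMod.freeMod X d)

/-- The pullbacks of the standard sections. -/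
def psec (t : Fin d) (V : Y.Opens) : Γ(pullFree q d, V) :=
  BCCoh.pullRes q (FlatMod.freeMod X d) ⊤ V le_top (std X t ⊤)

theorem pullRes_std (t : Fin d) {U : X.Opens} {V : Y.Opens} (e : V ≤ q ⁻¹ᵁ U) :
    BCCoh.pullRes q (FlatMod.freeMod X d) U V e (std X t U) = psec q t V := by
  rw [← mres_std X t (le_top : U ≤ ⊤)]
  refine (BCCoh.pullRes_res q (FlatMod.freeMod X d) le_top (le_top : V ≤ q ⁻¹ᵁ ⊤) e le_rfl (std X t ⊤)).symm.trans ?_
  exact InvExt.mres_self _ _

theorem mres_psec (t : Fin d) {V W : Y.Opens} (h : W ≤ V) : mres (pullFree q d) h (psec q t V) = psec q t W := by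
  refine (BCCoh.pullRes_res q (FlatMod.freeMod X d) (le_refl ⊤) (le_top : V ≤ q ⁻¹ᵁ ⊤) le_top h (std X t ⊤)).trans ?_
  exact congrArg (BCCoh.pullRes q (FlatMod.freeMod X d) ⊤ W le_top) (InvExt.mres_self _ _)

/-- Combinations of the pullbacks of the standard sections. -/
def fcomb (V : Y.Opens) : (Fin d → Γ(Y, V)) →ₗ[Γ(Y, V)] Γ(pullFree q d, V) where
  toFun c := ∑ t, c t • psec q t V
  map_add' c c' := by simp [add_smul, Finset.sum_add_distrib]
  map_smul' r c := by simp [Finset.smul_sum, smul_smul]

theorem fcomb_apply (V : Y.Opens) (c : Fin d → Γ(Y, V)) : fcomb q V c = ∑ t, c t • psec q t V := rfl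

theorem mres_fcomb {V W : Y.Opens} (h : W ≤ V) (c : Fin d → Γ(Y, V)) :
    mres (pullFree q d) h (fcomb q V c) = fcomb q W fun t => res h (c t) := by
  rw [fcomb_apply, fcomb_apply]
  refine (map_sum ((pullFree q d).presheaf.map (homOfLE h).op).hom _ _).trans ?_
  exact Finset.sum_congr rfl fun t _ => (Ample.mres_smul' _ h _ _).trans (by rw [mres_psec])

theorem pullRes_stdComb {U : X.Opens} {V : Y.Opens} (e : V ≤ q ⁻¹ᵁ U) (c : Fin d → Γ(X, U)) :
    BCCoh.pullRes q (FlatMod.freeMod X d) U V e (∑ t, c t • std X t U) =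
      fcomb q V fun t => (q.appLE U V e).hom (c t) := by
  let f : Γ(FlatMod.freeMod X d, U) →+ Γ(pullFree q d, V) :=
    AddMonoidHom.mk' (BCCoh.pullRes q (FlatMod.freeMod X d) U V e) (BCCoh.pullRes_add q _ U V e)
  show f _ = _
  rw [map_sum, fcomb_apply]
  refine Finset.sum_congr rfl fun t _ => ?_
  show BCCoh.pullRes q (FlatMod.freeMod X d) U V e (c t • std X t U) = _
  rw [BCCoh.pullRes_smul, pullRes_std]

theorem fcomb_bijective {U : X.Opens} {V : Y.Opens} (hU : IsAffineOpen U) (hV : IsAffineOpen V)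
    (e : V ≤ q ⁻¹ᵁ U) : Function.Bijective (fcomb q (d := d) V) := by
  haveI := Euler.isQuasicoherent_freeMod X d
  letI : Algebra Γ(X, U) Γ(Y, V) := (q.appLE U V e).hom.toAlgebra
  letI : Module Γ(X, U) Γ(pullFree q d, V) := Module.compHom _ (q.appLE U V e).hom
  haveI : IsScalarTower Γ(X, U) Γ(Y, V) Γ(pullFree q d, V) :=
    IsScalarTower.of_algebraMap_smul fun _ _ => rfl
  obtain ⟨f, hf, hfs⟩ := BCCoh.isBaseChange_pullRes q (FlatMod.freeMod X d) hU hV e
  let B := ((stdBasis X (d := d) U).baseChange Γ(Y, V)).map hf.equiv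
  have hB : ∀ c, fcomb q V c = B.equivFun.symm c := fun c => by
    rw [Module.Basis.equivFun_symm_apply, fcomb_apply]
    refine Finset.sum_congr rfl fun t _ => ?_
    congr 1
    rw [Module.Basis.map_apply, Module.Basis.baseChange_apply, hf.equiv_tmul, one_smul, hfs, stdBasis_apply,
      pullRes_std]
  rw [show ⇑(fcomb q (d := d) V) = B.equivFun.symm from funext hB]
  exact B.equivFun.symm.bijective

end Pull

section Kernel

variable {X : Scheme.{u}}

/-- The sections of a kernel. -/
theorem exists_kernel_app_eq {M N : X.Modules} (g : M ⟶ N) {V : X.Opens} (t : Γ(M, V)) (ht : g.app V t = 0) :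
    ∃ w : Γ(kernel g, V), (kernel.ι g).app V w = t := by
  let E : X.Modules ⥤ AddCommGrpCat.{u} :=
    QCoh.toAbFun X ⋙ sheafToPresheaf _ _ ⋙ (evaluation _ _).obj (op V)
  have : PreservesFiniteColimits (QCoh.toAbFun X) :=
    QCoh.toSheaf_preservesFiniteColimits (R := X.ringCatSheaf)
  have : PreservesFiniteLimits (QCoh.toAbFun X) :=
    (((QCoh.toAbFun X).exact_tfae.out 0 3
      (a := ∀ (T : ShortComplex X.Modules), T.ShortExact → (T.map (QCoh.toAbFun X)).ShortExact)
      (b := PreservesFiniteLimits (QCoh.toAbFun X) ∧ PreservesFiniteColimits (QCoh.toAbFun X))).1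
        QCoh.toAbFun_map_shortExact).1
  have h := ShortComplex.exact_of_f_is_kernel
    (ShortComplex.mk (E.map (kernel.ι g)) (E.map g) (by rw [← E.map_comp, kernel.condition, E.map_zero]))
    (isLimitForkMapOfIsLimit' E (kernel.condition g) (kernelIsKernel g))
  rw [ShortComplex.ab_exact_iff] at h
  exact h t ht

/-- A morphism injective on sections over small opens around every point is mono. -/
theorem mono_of_injective_on {M N : X.Modules} (f : M ⟶ N)
    (h : ∀ (V : X.Opens) (x : X), x ∈ V → ∃ W : X.Opens, W ≤ V ∧ x ∈ W ∧ ∀ y, f.app W y = 0 → y = 0) :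
    Mono f := by
  refine Preadditive.mono_of_cancel_zero f fun {Z} g hg => Scheme.Modules.hom_ext g 0 fun V => ?_
  ext z
  choose W hWV hxW hW using fun x : V => h V x.1 x.2
  refine Ample.meq_of_cover M W hWV (fun x hx => Opens.mem_iSup.2 ⟨⟨x, hx⟩, hxW _⟩) fun x => ?_
  rw [← Ample.app_mres]
  refine Eq.trans (hW x _ ?_) ?_
  · exact congrArg (fun l : Z ⟶ N => l.app (W x) (mres Z (hWV x) z)) hg
  · exact (map_zero (M.presheaf.map (homOfLE (hWV x)).op).hom).symm

/-- A morphism surjective on sections over small opens around every point is epi. -/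
theorem epi_of_surjective_on {M N : X.Modules} (f : M ⟶ N)
    (h : ∀ (V : X.Opens) (x : X), x ∈ V → ∃ W : X.Opens, W ≤ V ∧ x ∈ W ∧ Function.Surjective (f.app W)) :
    Epi f := by
  refine Preadditive.epi_of_cancel_zero f fun {Z} g hg => Scheme.Modules.hom_ext g 0 fun V => ?_
  ext z
  choose W hWV hxW hW using fun x : V => h V x.1 x.2
  refine Ample.meq_of_cover Z W hWV (fun x hx => Opens.mem_iSup.2 ⟨⟨x, hx⟩, hxW _⟩) fun x => ?_
  rw [← Ample.app_mres]
  obtain ⟨y, hy⟩ := hW x (mres N (hWV x) z)
  rw [← hy]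
  refine (congrArg (fun l : M ⟶ Z => l.app (W x) y) hg).trans ?_
  exact (map_zero (Z.presheaf.map (homOfLE (hWV x)).op).hom).symm

end Kernel

end GrothLib.ASBun21
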