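import Groth.Agent.Lib.ASBun21.TautPts
import Groth.Agent.Lib.ASBun21.TautFree
import Groth.Agent.Lib.SBAut21.SplitBC
import Groth.Agent.Lib.GrTilde.NegTwist
import Groth.Agent.Lib.Ample.ProjSections
import Groth.Agent.Lib.CohPullLib.SecPull
import Groth.Agent.Lib.CohPullLib.SectCmp
import Groth.Agent.Lib.OX.PullbackFlat
import Groth.Agent.Lib.AlgSp.FieldBase
import Mathlib.AlgebraicGeometry.Morphisms.Affine

/-!
# The tautological module of a Severi-Brauer scheme
-/

set_option autoImplicit false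
set_option linter.style.haveILetI false
set_option backward.isDefEq.respectTransparency false
set_option maxHeartbeats 1000000

universe u

open CategoryTheory CategoryTheory.Limits AlgebraicGeometry TopologicalSpace Opposite
open scoped TensorProduct
open GrothLib.Ample (res res_res res_self appLE_res res_appLE)
open GrothLib.InvExt (mres)

noncomputable section

namespace GrothLib.ASBun21

open GrothLib.Ample GrothLib.Ample.ProjMap

section Vec

variable {k : Type u} [Field k] {A : Type u} [Ring A] [Algebra k A] {m : ℕ} {K : Type u} [Field K] [Algebra k K]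
  (e : K ⊗[k] A ≃ₐ[K] Matrix (Fin (m + 1)) (Fin (m + 1)) K) {d : ℕ} (b : Module.Basis (Fin d) k A)

/-- The coordinates of the matrix units. -/
def kap (i l : Fin (m + 1)) (t : Fin d) : K := (coordEquiv b K).symm (e.symm (Matrix.single i l 1)) t

/-- The coordinates of the element whose matrix has the row `r` at the place `i`. -/
def cvec {R : Type u} [CommRing R] (f : K →+* R) (i : Fin (m + 1)) (r : Fin (m + 1) → R) : Fin d → R :=
  fun t => ∑ l, f (kap e b i l t) * r l

theorem map_cvec {R S : Type u} [CommRing R] [CommRing S] (f : K →+* R) (g : K →+* S) (φ : R →+* S)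
    (hφ : ∀ c, φ (f c) = g c) (i : Fin (m + 1)) (r : Fin (m + 1) → R) (t : Fin d) :
    φ (cvec e b f i r t) = cvec e b g i (φ ∘ r) t := by
  simp [cvec, hφ]

theorem cvec_smul {R : Type u} [CommRing R] (f : K →+* R) (i : Fin (m + 1)) (c : R) (r : Fin (m + 1) → R) :
    cvec e b f i (c • r) = c • cvec e b f i r := by
  funext t
  simp only [cvec, Pi.smul_apply, smul_eq_mul, Finset.mul_sum]
  exact Finset.sum_congr rfl fun l _ => by ring

variable [FiniteDimensional k A] {R : Type u} [CommRing R] [Algebra k R] [Algebra K R] [IsScalarTower k K R]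

theorem psi_coord_cvec (i : Fin (m + 1)) (r : Fin (m + 1) → R) :
    SBAut21.psi e R (coordEquiv b R (cvec e b (algebraMap K R) i r)) =
      Matrix.vecMulVec (Pi.single i 1) r := by
  have key : ∀ l, ∑ t, kap e b i l t • e ((1 : K) ⊗ₜ[k] b t) = Matrix.single i l 1 := fun l => by
    conv_rhs => rw [← e.apply_symm_apply (Matrix.single i l 1),
      ← (coordEquiv b K).apply_symm_apply (e.symm (Matrix.single i l 1))]
    rw [coordEquiv_apply, map_sum]
    refine Finset.sum_congr rfl fun t _ => ?_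
    rw [← map_smul, TensorProduct.smul_tmul', smul_eq_mul, mul_one]
    rfl
  rw [coordEquiv_apply, map_sum]
  ext a c
  rw [Matrix.sum_apply, Matrix.vecMulVec_apply]
  have h1 : ∀ t, SBAut21.psi e R (cvec e b (algebraMap K R) i r t ⊗ₜ[k] b t) a c =
      ∑ l, r l * algebraMap K R (kap e b i l t * e ((1 : K) ⊗ₜ[k] b t) a c) := fun t => by
    show SBAut21.psiHom e R (_ ⊗ₜ[k] b t) a c = _
    rw [SBAut21.psiHom_tmul, Matrix.smul_apply, Matrix.map_apply, cvec, smul_eq_mul, Finset.sum_mul]
    refine Finset.sum_congr rfl fun l _ => ?_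
    rw [map_mul]
    ring
  rw [Finset.sum_congr rfl fun t _ => h1 t, Finset.sum_comm]
  have h2 : ∀ l, ∑ t, r l * algebraMap K R (kap e b i l t * e ((1 : K) ⊗ₜ[k] b t) a c) =
      r l * algebraMap K R (Matrix.single i l 1 a c) := fun l => by
    rw [← Finset.mul_sum, ← map_sum, ← key l, Matrix.sum_apply]
    rfl
  rw [Finset.sum_congr rfl fun l _ => h2 l, Finset.sum_eq_single c]
  · by_cases ha : i = a
    · subst ha; simp
    · simp [ha, Ne.symm ha]
  · intro l _ hl
    simp [hl]
  · simp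

theorem psi_coord_sum (u r : Fin (m + 1) → R) :
    SBAut21.psi e R (coordEquiv b R (∑ i, u i • cvec e b (algebraMap K R) i r)) = Matrix.vecMulVec u r := by
  rw [map_sum, map_sum]
  simp only [map_smul, psi_coord_cvec]
  ext a c
  rw [Matrix.sum_apply, Finset.sum_eq_single a]
  · simp [Matrix.vecMulVec_apply]
  · intro i _ hi; simp [Matrix.vecMulVec_apply, Ne.symm hi]
  · simp

theorem coord_mem_line_iff (r : Fin (m + 1) → R) (v : Fin d → R) :
    coordEquiv b R v ∈ SBAut21.line e r ↔ ∃ u : Fin (m + 1) → R, v = ∑ i, u i • cvec e b (algebraMap K R) i r := by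
  rw [SBAut21.mem_line]
  refine exists_congr fun u => ?_
  rw [← psi_coord_sum e b u r, (SBAut21.psi e R).injective.eq_iff, (coordEquiv b R).injective.eq_iff]

end Vec

section Chart

variable {m : ℕ} (K : Type u) [Field K]

/-- The constants of projective space on an open. -/
abbrev kK (V : (CohB1.ProjSpace m K).Opens) : K →+* Γ(CohB1.ProjSpace m K, V) :=
  kc (CohB1.ProjSpace.toSpec m K) V

/-- The ratios on an open of a chart. -/
def rvec (j : (pcoc m K).ι) {V : (CohB1.ProjSpace m K).Opens} (h : V ≤ (pcoc m K).D j) (l : Fin (m + 1)) :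
    Γ(CohB1.ProjSpace m K, V) :=
  res h (Proj.awayToSection (CohB1.polyGrading m K) (MvPolynomial.X j.down) (ratio j.down l))

theorem res_rvec (j : (pcoc m K).ι) {V W : (CohB1.ProjSpace m K).Opens} (h : V ≤ (pcoc m K).D j) (h' : W ≤ V) :
    res h' ∘ rvec K j h = rvec K j (h'.trans h) := funext fun _ => res_res _ _ _

theorem rvec_self (j : (pcoc m K).ι) {V : (CohB1.ProjSpace m K).Opens} (h : V ≤ (pcoc m K).D j) :
    rvec K j h j.down = 1 := by
  rw [rvec, ProjMap.ratio_self]
  exact (congrArg (res h) (map_one _)).trans (map_one _)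

theorem rvec_change (i j : (pcoc m K).ι) {W : (CohB1.ProjSpace m K).Opens} (hi : W ≤ (pcoc m K).D i)
    (hj : W ≤ (pcoc m K).D j) : rvec K j hj = (show Γ(CohB1.ProjSpace m K, W) from (pcoc m K).G j i hj hi) • rvec K i hi := by
  funext l
  refine ProjTwist.ev_ext fun y => ?_
  rw [Pi.smul_apply, smul_eq_mul, g_pcoc]
  erw [ProjTwist.ev_mul]
  simp only [rvec]
  refine (ev_awayToSection_ratio j.down l ⟨y.1, hj y.2⟩).trans (Eq.trans ?_ (congrArg₂ (· * ·)
    (ev_awayToSection_ratio j.down i.down ⟨y.1, hj y.2⟩) (ev_awayToSection_ratio i.down l ⟨y.1, hi y.2⟩)).symm)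
  rw [Localization.mk_mul, Localization.mk_eq_mk_iff, Localization.r_iff_exists]
  exact ⟨1, by simp only [OneMemClass.coe_one, one_mul, Submonoid.coe_mul]; ring⟩

theorem map_endo {Y : Scheme.{u}} {U : Y.Opens} (f : op U ⟶ op U) (z : Γ(Y, U)) : Y.presheaf.map f z = z := by
  rw [Subsingleton.elim f (𝟙 _), CategoryTheory.Functor.map_id]
  rfl

/-- An affine open in a chart is the point of its ratios. -/
theorem fromSpec_eq_vPt (j : (pcoc m K).ι) {V : (CohB1.ProjSpace m K).Opens} (hV : IsAffineOpen V)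
    (h : V ≤ (pcoc m K).D j) :
    letI := secAlg (CohB1.ProjSpace.toSpec m K) V
    hV.fromSpec = SBAut21.vPt K (rvec K j h) j.down (by rw [rvec_self]; exact isUnit_one) := by
  letI := secAlg (CohB1.ProjSpace.toSpec m K) V
  have hpre : hV.fromSpec ⁻¹ᵁ Proj.basicOpen (CohB1.polyGrading m K) (MvPolynomial.X j.down) = ⊤ :=
    top_le_iff.1 fun y _ => h (hV.range_fromSpec.le ⟨y, rfl⟩)
  obtain ⟨v, hv, hr⟩ := SBAut21.exists_eq_vPt (R := Γ(CohB1.ProjSpace m K, V)) hV.fromSpec
    (fromSpec_comp (CohB1.ProjSpace.toSpec m K) hV) j.down hpre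
  have hvr : v = rvec K j h := by
    funext l
    have key : ∀ (r : Spec (CommRingCat.of Γ(CohB1.ProjSpace m K, V)) ⟶ CohB1.ProjSpace m K)
        (e : ⊤ ≤ r ⁻¹ᵁ Proj.basicOpen (CohB1.polyGrading m K) (MvPolynomial.X j.down)),
        r = SBAut21.vPt K v j.down (hv ▸ isUnit_one) →
        (r.appLE _ ⊤ e).hom (Proj.awayToSection _ _ (ratio j.down l)) =
          (Scheme.ΓSpecIso (CommRingCat.of Γ(CohB1.ProjSpace m K, V))).inv (v l) := by
      rintro _ e rfl
      unfold SBAut21.vPt at e ⊢
      erw [pt_appLE_awayToSection]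
      have h1 := evalAway_ratio (SBAut21.ev (K := K) v) j.down l (SBAut21.isUnit_ev (hv ▸ isUnit_one))
      rw [SBAut21.ev_X, SBAut21.ev_X] at h1
      have h3 : (Scheme.ΓSpecIso (CommRingCat.of Γ(CohB1.ProjSpace m K, V))).inv (v j.down) = 1 := by
        simp [hv]
      simp only [h3, mul_one] at h1
      exact h1
    have h2 := key hV.fromSpec hpre.ge hr
    refine (ConcreteCategory.bijective_of_isIso
      (Scheme.ΓSpecIso (CommRingCat.of Γ(CohB1.ProjSpace m K, V))).inv).1 (h2.symm.trans ?_)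
    rw [Scheme.Hom.appLE, hV.fromSpec_app_of_le (Proj.basicOpen (CohB1.polyGrading m K) (MvPolynomial.X j.down)) h]
    simp only [Category.assoc, CommRingCat.comp_apply]
    erw [← CommRingCat.comp_apply, ← Functor.map_comp]
  subst hvr
  exact hr

end Chart

variable {k : Type u} [Field k] {A : Type u} [Ring A] [Algebra k A] [FiniteDimensional k A] {m : ℕ}
  {K : Type u} [Field K] [Algebra k K] (e : K ⊗[k] A ≃ₐ[K] Matrix (Fin (m + 1)) (Fin (m + 1)) K)
  {X : Scheme.{u}} {p : X ⟶ Spec (CommRingCat.of k)}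
  (s : BrSev.SBStr k A ((m + 1) * (m + 1) - (m + 1)) p) {d : ℕ} (b : Module.Basis (Fin d) k A)

/-- Projective space over the scheme. -/
def tautMap : CohB1.ProjSpace m K ⟶ X := SBAut21.phi e s ≫ BrSev.proj p K

theorem tautMap_comp :
    tautMap e s ≫ p = CohB1.ProjSpace.toSpec m K ≫ Spec.map (CommRingCat.ofHom (algebraMap k K)) := by
  rw [tautMap, Category.assoc, pullback.condition, ← Category.assoc, SBAut21.phi_bcTo]

include e s in
theorem isIso_phi : IsIso (SBAut21.phi e s) := by
  have := SBAut21.mono_phi e s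
  choose S j σ hj hx hσ using SBAut21.exists_lift e s
  let 𝒰 : (BrSev.bc p K).OpenCover :=
    Scheme.Cover.mkOfCovers (BrSev.bc p K) (fun x => Spec (S x)) j (fun x => ⟨x, hx x⟩) hj
  let ψ : BrSev.bc p K ⟶ CohB1.ProjSpace m K := 𝒰.glueMorphisms σ fun x y => by
    rw [← cancel_mono (SBAut21.phi e s), Category.assoc, Category.assoc]
    exact (congrArg (_ ≫ ·) (hσ x)).trans (pullback.condition.trans (congrArg (_ ≫ ·) (hσ y)).symm)
  have h1 : ψ ≫ SBAut21.phi e s = 𝟙 _ := 𝒰.hom_ext _ _ fun x => by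
    rw [← Category.assoc, Category.comp_id]
    exact (congrArg (· ≫ SBAut21.phi e s) (𝒰.ι_glueMorphisms _ _ x)).trans (hσ x)
  exact ⟨ψ, by rw [← cancel_mono (SBAut21.phi e s), Category.assoc, h1, Category.comp_id, Category.id_comp], h1⟩

instance : Flat (tautMap e s) := by
  haveI := isIso_phi e s
  haveI : Flat (Spec.map (CommRingCat.ofHom (algebraMap k K))) := AlgSp.flat_to_field (k := k) _
  haveI : Flat (BrSev.proj p K) := MorphismProperty.pullback_fst p _ inferInstance
  exact inferInstanceAs (Flat (_ ≫ _))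

instance : Surjective (tautMap e s) := by
  haveI := isIso_phi e s
  haveI : Surjective (Spec.map (CommRingCat.ofHom (algebraMap k K))) := ⟨fun y => by
    haveI : Subsingleton (Spec (CommRingCat.of k)) := inferInstanceAs (Subsingleton (PrimeSpectrum k))
    exact ⟨Classical.arbitrary _, Subsingleton.elim _ _⟩⟩
  haveI : Surjective (BrSev.proj p K) := MorphismProperty.pullback_fst p _ inferInstance
  exact inferInstanceAs (Surjective (_ ≫ _))

instance : IsAffineHom (tautMap e s) := by
  haveI := isIso_phi e s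
  haveI : IsAffineHom (BrSev.proj p K) := MorphismProperty.pullback_fst p _ inferInstance
  exact inferInstanceAs (IsAffineHom (_ ≫ _))

theorem exists_small (x : CohB1.ProjSpace m K) (V : (CohB1.ProjSpace m K).Opens) (hx : x ∈ V) :
    ∃ (W : (CohB1.ProjSpace m K).Opens) (j : (pcoc m K).ι) (U : X.Opens), IsAffineOpen W ∧ x ∈ W ∧ W ≤ V ∧
      W ≤ (pcoc m K).D j ∧ IsAffineOpen U ∧ W ≤ tautMap e s ⁻¹ᵁ U := by
  obtain ⟨j, hj⟩ := (pcoc m K).exists_mem x
  obtain ⟨U, hU, hxU, -⟩ := exists_isAffineOpen_mem_and_subset (U := ⊤) (x := tautMap e s x) trivial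
  obtain ⟨W, hW, hxW, hle⟩ := exists_isAffineOpen_mem_and_subset
    (U := V ⊓ (pcoc m K).D j ⊓ tautMap e s ⁻¹ᵁ U) (x := x) ⟨⟨hx, hj⟩, hxU⟩
  exact ⟨W, j, U, hW, hxW, fun y hy => (hle hy).1.1, fun y hy => (hle hy).1.2, hU, fun y hy => (hle hy).2⟩

/-- The left ideal of an affine open of a chart is the one of its ratios. -/
theorem mem_idealOn_tautMap (j : (pcoc m K).ι) {V : (CohB1.ProjSpace m K).Opens} (hV : IsAffineOpen V)
    (h : V ≤ (pcoc m K).D j) (v : Fin d → Γ(CohB1.ProjSpace m K, V)) :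
    v ∈ idealOn b s (tautMap e s) hV ↔
      ∃ u : Fin (m + 1) → Γ(CohB1.ProjSpace m K, V), v = ∑ i, u i • cvec e b (kK K V) i (rvec K j h) := by
  letI := secAlg (tautMap e s ≫ p) V
  letI := secAlg (CohB1.ProjSpace.toSpec m K) V
  haveI : IsScalarTower k K Γ(CohB1.ProjSpace m K, V) := IsScalarTower.of_algebraMap_eq fun a => by
    show kc (tautMap e s ≫ p) V a = kc (CohB1.ProjSpace.toSpec m K) V (algebraMap k K a)
    rw [tautMap_comp, kc_comp]
    rfl
  have hu : IsUnit (rvec K j h j.down) := by rw [rvec_self]; exact isUnit_one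
  have hpt : s.bij Γ(CohB1.ProjSpace m K, V) (ptOn (p := p) (tautMap e s) hV) =
      SBAut21.linePt e (rvec K j h) j.down hu := by
    rw [← Equiv.apply_symm_apply (s.bij Γ(CohB1.ProjSpace m K, V)) (SBAut21.linePt e (rvec K j h) j.down hu)]
    refine congrArg _ (Subtype.ext ?_)
    show hV.fromSpec ≫ SBAut21.phi e s ≫ BrSev.proj p K = _
    rw [fromSpec_eq_vPt K j hV h, ← Category.assoc]
    refine (congrArg (· ≫ BrSev.proj p K) (SBAut21.vPt_phi e s (rvec K j h) j.down hu)).trans ?_
    exact SBAut21.toBC_proj _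
  rw [mem_idealOn, hpt, SBAut21.linePt_toSubmodule]
  exact coord_mem_line_iff e b (rvec K j h) v

/-- The negative twist. -/
abbrev tautL : (CohB1.ProjSpace m K).Modules := (pcoc m K).inv.twist 1

/-- The local values of the maps into the pullback of the free module. -/
def mFam (i : Fin (m + 1)) (j : (pcoc m K).ι) :
    Γ(pullFree (tautMap e s) d, (pcoc m K).inv.D j) :=
  fcomb (tautMap e s) ((pcoc m K).D j) (cvec e b (kK K _) i (rvec K j le_rfl))

theorem mres_mFam (i : Fin (m + 1)) (j : (pcoc m K).ι) {W : (CohB1.ProjSpace m K).Opens} (h : W ≤ (pcoc m K).D j) :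
    mres (pullFree (tautMap e s) d) h (mFam e s b i j) =
      fcomb (tautMap e s) W (cvec e b (kK K W) i (rvec K j h)) := by
  refine (mres_fcomb (tautMap e s) h _).trans (congrArg _ (funext fun t => ?_))
  rw [map_cvec e b _ (kK K W) (res h) (res_kc _ h), res_rvec]

theorem isFamily_mFam (i : Fin (m + 1)) : (pcoc m K).inv.IsFamily 1 (mFam (d := d) e s b i) := by
  intro i' j' W hi hj
  refine (mres_mFam e s b i j' hj).trans ?_
  rw [rvec_change K i' j' hi hj, cvec_smul, map_smul, pow_one, Cocycle.inv_G]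
  exact congrArg (fun z => _ • z) (mres_mFam e s b i i' hi).symm

/-- The maps into the pullback of the free module. -/
def tautMu (i : Fin (m + 1)) : tautL ⟶ pullFree (tautMap e s) d :=
  (pcoc m K).inv.homOfFamily (isFamily_mFam e s b i)

theorem tautMu_base (i : Fin (m + 1)) (j : (pcoc m K).ι) {W : (CohB1.ProjSpace m K).Opens}
    (h : W ≤ (pcoc m K).D j) :
    (tautMu e s b i).app W ((pcoc m K).inv.base 1 j h) =
      fcomb (tautMap e s) W (cvec e b (kK K W) i (rvec K j h)) :=
  ((pcoc m K).inv.homOfFamily_base (isFamily_mFam e s b i) j h).trans (mres_mFam e s b i j h)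

/-- The sum of the maps. -/
def tautSum : (∐ fun _ : Fin (m + 1) => tautL (m := m) (K := K)) ⟶ pullFree (tautMap e s) d :=
  Sigma.desc (tautMu e s b)

theorem ι_tautSum (i : Fin (m + 1)) : Sigma.ι (fun _ : Fin (m + 1) => tautL) i ≫ tautSum e s b = tautMu e s b i :=
  Sigma.ι_desc _ _

/-- The sum of the standard sections with given coefficients. -/
def baseSum (j : (pcoc m K).ι) {W : (CohB1.ProjSpace m K).Opens} (h : W ≤ (pcoc m K).D j)
    (u : Fin (m + 1) → Γ(CohB1.ProjSpace m K, W)) : Γ(∐ fun _ : Fin (m + 1) => tautL (m := m) (K := K), W) :=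
  ∑ i, (Sigma.ι (fun _ : Fin (m + 1) => tautL (m := m) (K := K)) i).app W
    (u i • (show Γ(tautL, W) from (pcoc m K).inv.base 1 j h))

theorem tautSum_baseSum (j : (pcoc m K).ι) {W : (CohB1.ProjSpace m K).Opens} (h : W ≤ (pcoc m K).D j)
    (u : Fin (m + 1) → Γ(CohB1.ProjSpace m K, W)) :
    (tautSum e s b).app W (baseSum j h u) =
      fcomb (tautMap e s) W (∑ i, u i • cvec e b (kK K W) i (rvec K j h)) := by
  rw [baseSum, map_sum, map_sum]
  refine Finset.sum_congr rfl fun i _ => ?_
  refine (congrArg (fun φ : tautL ⟶ _ => φ.app W (u i • (show Γ(tautL, W) from (pcoc m K).inv.base 1 j h)))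
    (ι_tautSum e s b i)).trans ?_
  rw [Scheme.Modules.Hom.app_smul, map_smul]
  exact congrArg _ (tautMu_base e s b i j h)

theorem exists_baseSum (j : (pcoc m K).ι) {W : (CohB1.ProjSpace m K).Opens} (h : W ≤ (pcoc m K).D j)
    (y : Γ(∐ fun _ : Fin (m + 1) => tautL (m := m) (K := K), W)) : ∃ u, y = baseSum j h u := by
  classical
  let L := tautL (m := m) (K := K)
  let pr : ∀ i : Fin (m + 1), (∐ fun _ : Fin (m + 1) => L) ⟶ L := fun i => Sigma.desc fun k => if k = i then 𝟙 _ else 0
  have htot : ∑ i, pr i ≫ Sigma.ι (fun _ : Fin (m + 1) => L) i = 𝟙 _ := by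
    refine Sigma.hom_ext _ _ fun k => ?_
    rw [Preadditive.comp_sum, Finset.sum_eq_single k]
    · simp [pr]
    · intro i _ hi; simp [pr, Ne.symm hi]
    · simp
  refine ⟨fun i => res (le_inf le_rfl h) (((pr i).app W y : (pcoc m K).inv.sect 1 W).1 j), ?_⟩
  have hy : y = ∑ i, (pr i ≫ Sigma.ι (fun _ : Fin (m + 1) => L) i).app W y := by
    rw [← FinCov.sum_app, htot]; rfl
  refine hy.trans (Finset.sum_congr rfl fun i _ => ?_)
  exact congrArg ((Sigma.ι (fun _ : Fin (m + 1) => L) i).app W) ((pcoc m K).inv.eq_smul_base j h _)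

theorem eq_zero_of_tautSum_eq_zero (j : (pcoc m K).ι) {U : X.Opens} (hU : IsAffineOpen U)
    {W : (CohB1.ProjSpace m K).Opens} (hW : IsAffineOpen W) (h : W ≤ (pcoc m K).D j)
    (hWU : W ≤ tautMap e s ⁻¹ᵁ U) (y : Γ(∐ fun _ : Fin (m + 1) => tautL (m := m) (K := K), W))
    (hy : (tautSum e s b).app W y = 0) : y = 0 := by
  obtain ⟨u, rfl⟩ := exists_baseSum j h y
  rw [tautSum_baseSum] at hy
  have h0 := (fcomb_bijective (tautMap e s) hU hW hWU).1 (hy.trans (map_zero _).symm)
  letI := secAlg (tautMap e s ≫ p) W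
  letI := secAlg (CohB1.ProjSpace.toSpec m K) W
  haveI : IsScalarTower k K Γ(CohB1.ProjSpace m K, W) := IsScalarTower.of_algebraMap_eq fun a => by
    show kc (tautMap e s ≫ p) W a = kc (CohB1.ProjSpace.toSpec m K) W (algebraMap k K a)
    rw [tautMap_comp, kc_comp]
    rfl
  have h1 := psi_coord_sum e b u (rvec K j h)
  rw [show (∑ i, u i • cvec e b (algebraMap K Γ(CohB1.ProjSpace m K, W)) i (rvec K j h)) = 0 from h0,
    map_zero, map_zero] at h1
  have hu : u = 0 := funext fun a => by
    have h2 := congrFun (congrFun h1 a) j.down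
    rw [Matrix.vecMulVec_apply, rvec_self, mul_one] at h2
    exact h2.symm
  subst hu
  exact Finset.sum_eq_zero fun i _ => by rw [Pi.zero_apply, zero_smul, map_zero]

instance mono_tautSum : Mono (tautSum e s b) :=
  mono_of_injective_on _ fun V x hx => by
    obtain ⟨W, j, U, hW, hxW, hWV, hWj, hU, hWU⟩ := exists_small e s x V hx
    exact ⟨W, hWV, hxW, eq_zero_of_tautSum_eq_zero e s b j hU hW hWj hWU⟩

theorem id_appLE_apply {Y : Scheme.{u}} {V W : Y.Opens} (e : W ≤ 𝟙 Y ⁻¹ᵁ V) (r : Γ(Y, V)) :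
    (Scheme.Hom.appLE (𝟙 Y) V W e).hom r = res (show W ≤ V from e) r := by
  simp [Scheme.Hom.appLE]
  try rfl

/-- The kernel of the projection to the cokernel, on sections over small affine opens. -/
theorem coker_fcomb_eq_zero_iff {U : X.Opens} (hU : IsAffineOpen U) {W : (CohB1.ProjSpace m K).Opens}
    (hW : IsAffineOpen W) (hWU : W ≤ tautMap e s ⁻¹ᵁ U) (v : Fin d → Γ(CohB1.ProjSpace m K, W)) :
    (cokernel.π (tautSum e s b)).app W (fcomb (tautMap e s) W v) = 0 ↔ v ∈ idealOn b s (tautMap e s) hW := by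
  constructor
  · intro hv
    refine mem_idealOn_of_locally b s (tautMap e s) hW fun x hx => ?_
    obtain ⟨W', hW'W, hxW', w, hw⟩ := CohPullLib.exists_local_lift
      (ShortComplex.exact_cokernel (tautSum e s b)) (fcomb (tautMap e s) W v) hv x hx
    obtain ⟨W'', j, -, hW'', hxW'', hle, hj, -, -⟩ := exists_small e s x W' hxW'
    refine ⟨W'', hW'', hle.trans hW'W, hxW'', (mem_idealOn_tautMap e s b j hW'' hj _).2 ?_⟩
    obtain ⟨u, hu⟩ := exists_baseSum j hj (mres _ hle w)
    refine ⟨u, (fcomb_bijective (tautMap e s) hU hW'' ((hle.trans hW'W).trans hWU)).1 ?_⟩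
    rw [← tautSum_baseSum e s b j hj u, ← hu, Ample.app_mres]
    refine Eq.trans ?_ (congrArg (mres _ hle) hw).symm
    exact (mres_fcomb (tautMap e s) (hle.trans hW'W) v).symm.trans (InvExt.mres_mres _ hW'W hle _).symm
  · intro hv
    choose W' j U' hW' hxW' hle hj hU' hWU' using fun x : W => exists_small e s x.1 W x.2
    refine Ample.meq_of_cover _ W' hle (fun x hx => Opens.mem_iSup.2 ⟨⟨x, hx⟩, hxW' _⟩) fun x => ?_
    rw [← Ample.app_mres, mres_fcomb]
    have h1 := mem_idealOn_map b s (tautMap e s) (𝟙 _) (Category.id_comp _) hW (hW' x) (hle x) hv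
    simp only [id_appLE_apply] at h1
    obtain ⟨u, hu⟩ := (mem_idealOn_tautMap e s b (j x) (hW' x) (hj x) _).1 h1
    rw [hu, ← tautSum_baseSum]
    refine (congrArg (fun φ : _ ⟶ cokernel (tautSum e s b) => φ.app (W' x) (baseSum (j x) (hj x) u))
      (cokernel.condition (tautSum e s b))).trans ?_
    exact (map_zero ((cokernel (tautSum e s b)).presheaf.map (homOfLE (hle x)).op).hom).symm

/-- The map whose kernel is the tautological module. -/
def tautBeta : FlatMod.freeMod X d ⟶
    (Scheme.Modules.pushforward (tautMap e s)).obj (cokernel (tautSum e s b)) :=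
  (Scheme.Modules.pullbackPushforwardAdjunction (tautMap e s)).homEquiv _ _ (cokernel.π (tautSum e s b))

theorem tautBeta_app (U : X.Opens) (x : Γ(FlatMod.freeMod X d, U)) :
    (tautBeta e s b).app U x =
      (cokernel.π (tautSum e s b)).app (tautMap e s ⁻¹ᵁ U)
        (BCCoh.pullRes (tautMap e s) _ U (tautMap e s ⁻¹ᵁ U) le_rfl x) := by
  refine Eq.trans (congrArg (fun φ : FlatMod.freeMod X d ⟶ _ => φ.app U x)
    ((Scheme.Modules.pullbackPushforwardAdjunction (tautMap e s)).homEquiv_unit (f := cokernel.π (tautSum e s b)))) ?_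
  refine congrArg ((cokernel.π (tautSum e s b)).app (tautMap e s ⁻¹ᵁ U)) ?_
  exact (InvExt.mres_self ((Scheme.Modules.pullback (tautMap e s)).obj (FlatMod.freeMod X d)) _).symm

/-- The tautological module. -/
def taut : X.Modules := kernel (tautBeta e s b)

/-- The inclusion of the tautological module. -/
def tautι : taut e s b ⟶ FlatMod.freeMod X d := kernel.ι _

theorem tautι_condition : tautι e s b ≫ tautBeta e s b = 0 := kernel.condition _

instance : Mono (tautι e s b) := inferInstanceAs (Mono (kernel.ι _))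

theorem tautBeta_eq_zero_iff {U : X.Opens} (hU : IsAffineOpen U) (v : Fin d → Γ(X, U)) :
    (tautBeta e s b).app U (∑ t, v t • std X t U) = 0 ↔ v ∈ idealOn b s (𝟙 X) hU := by
  have hW := hU.preimage (tautMap e s)
  rw [tautBeta_app, pullRes_stdComb]
  refine (coker_fcomb_eq_zero_iff e s b hU hW le_rfl _).trans ⟨fun h => ?_, fun h => ?_⟩
  · refine mem_idealOn_of_injective b s (𝟙 X) (tautMap e s) (Category.comp_id _) hU hW le_rfl ?_ h
    rw [← Scheme.Hom.app_eq_appLE]
    exact appLE_injective_of_flat_surjective (tautMap e s) U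
  · exact mem_idealOn_map b s (𝟙 X) (tautMap e s) (Category.comp_id _) hU hW le_rfl h

theorem exists_tautι_eq {U : X.Opens} (hU : IsAffineOpen U) {v : Fin d → Γ(X, U)}
    (hv : v ∈ idealOn b s (𝟙 X) hU) : ∃ w, (tautι e s b).app U w = ∑ t, v t • std X t U :=
  exists_kernel_app_eq _ _ ((tautBeta_eq_zero_iff e s b hU v).2 hv)

theorem pullback_tautι_condition :
    (Scheme.Modules.pullback (tautMap e s)).map (tautι e s b) ≫ cokernel.π (tautSum e s b) = 0 := by
  let adj := Scheme.Modules.pullbackPushforwardAdjunction (tautMap e s)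
  apply (adj.homEquiv _ _).injective
  rw [adj.homEquiv_naturality_left]
  refine (tautι_condition e s b).trans ?_
  rw [adj.homEquiv_unit, Functor.map_zero, comp_zero]

/-- The comparison with the sum of the negative twists. -/
def tautLam : (Scheme.Modules.pullback (tautMap e s)).obj (taut e s b) ⟶
    ∐ fun _ : Fin (m + 1) => tautL (m := m) (K := K) :=
  Abelian.monoLift (tautSum e s b) _ (pullback_tautι_condition e s b)

theorem tautLam_tautSum :
    tautLam e s b ≫ tautSum e s b = (Scheme.Modules.pullback (tautMap e s)).map (tautι e s b) :=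
  Abelian.monoLift_comp _ _ _

instance mono_tautLam : Mono (tautLam e s b) := by
  haveI := OX.preservesFiniteLimits_pullback_of_flat (tautMap e s)
  haveI : Mono (tautLam e s b ≫ tautSum e s b) := by
    rw [tautLam_tautSum]; infer_instance
  exact mono_of_mono _ (tautSum e s b)

theorem tautLam_surjective {U : X.Opens} (hU : IsAffineOpen U) {W : (CohB1.ProjSpace m K).Opens}
    (hW : IsAffineOpen W) (hWU : W ≤ tautMap e s ⁻¹ᵁ U) (j : (pcoc m K).ι) (hj : W ≤ (pcoc m K).D j) :
    Function.Surjective ((tautLam e s b).app W) := by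
  intro y
  obtain ⟨u, rfl⟩ := exists_baseSum j hj y
  let ι' := (Scheme.Modules.pullback (tautMap e s)).map (tautι e s b)
  suffices H : ∀ v ∈ idealOn b s (tautMap e s) hW, ∃ z, ι'.app W z = fcomb (tautMap e s) W v by
    obtain ⟨z, hz⟩ := H _ ((mem_idealOn_tautMap e s b j hW hj _).2 ⟨u, rfl⟩)
    refine ⟨z, sub_eq_zero.1 (eq_zero_of_tautSum_eq_zero e s b j hU hW hj hWU _ ?_)⟩
    rw [map_sub, tautSum_baseSum, ← hz, sub_eq_zero]
    exact congrArg (fun φ => φ.app W z) (tautLam_tautSum e s b)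
  intro v hv
  rw [idealOn_map b s (𝟙 X) (tautMap e s) (Category.comp_id _) hU hW hWU] at hv
  induction hv using Submodule.span_induction with
  | mem v hv =>
    obtain ⟨c, hc, rfl⟩ := hv
    obtain ⟨w, hw⟩ := exists_tautι_eq e s b hU hc
    refine ⟨BCCoh.pullRes (tautMap e s) (taut e s b) U W hWU w, ?_⟩
    rw [CohPullLib.pullRes_map, hw, pullRes_stdComb]
  | zero => exact ⟨0, by rw [map_zero, map_zero]⟩
  | add v v' _ _ hv hv' =>
    obtain ⟨z, hz⟩ := hv
    obtain ⟨z', hz'⟩ := hv'
    exact ⟨z + z', by rw [map_add, map_add, hz, hz']⟩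
  | smul c v _ hv =>
    obtain ⟨z, hz⟩ := hv
    exact ⟨c • z, by rw [Scheme.Modules.Hom.app_smul, map_smul, hz]⟩

/-- **The tautological module becomes the sum of the negative twists.** -/
instance isIso_tautLam : IsIso (tautLam e s b) := by
  haveI : Epi (tautLam e s b) := epi_of_surjective_on _ fun V x hx => by
    obtain ⟨W, j, U, hW, hxW, hWV, hWj, hU, hWU⟩ := exists_small e s x V hx
    exact ⟨W, hWV, hxW, tautLam_surjective e s b hU hW hWU j hWj⟩
  exact isIso_of_mono_of_epi _

end GrothLib.ASBun21
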