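import Groth.Agent.Lib.ASBun21.Taut
import Groth.Agent.Lib.ASBun21.Split
import Groth.Agent.Lib.FTDesc.LocFree
import Groth.Agent.Lib.AffHom.Basic
import Groth.Agent.Lib.CSA.Splitting
import Mathlib.RingTheory.LittleWedderburn

/-!
# The action of the algebra on the tautological module, and its type
-/

set_option autoImplicit false
set_option linter.style.haveILetI false
set_option backward.isDefEq.respectTransparency false
set_option maxHeartbeats 1000000

universe u

open CategoryTheory CategoryTheory.Limits AlgebraicGeometry TopologicalSpace Opposite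
open scoped TensorProduct

noncomputable section

namespace GrothLib.ASBun21

open GrothLib.Ample GrothLib.Ample.ProjMap

section MatEnd

variable (k : Type u) [Field k] (X : Scheme.{u}) [X.Over (Spec (CommRingCat.of k))] (d : ℕ)

/-- The endomorphism of a free module given by a matrix. -/
def matHom (M : Matrix (Fin d) (Fin d) k) : FlatMod.freeMod X d ⟶ FlatMod.freeMod X d :=
  ∑ t', ∑ t, M t' t • (FinCov.proj X d t ≫ Sigma.ι (fun _ : Fin d => Coh.structureModule X) t')

theorem matHom_std (M : Matrix (Fin d) (Fin d) k) (t : Fin d) (V : X.Opens) :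
    (matHom k X d M).app V (std X t V) =
      ∑ t', kc (X ↘ Spec (CommRingCat.of k)) V (M t' t) • std X t' V := by
  rw [matHom, FinCov.sum_app]
  refine Finset.sum_congr rfl fun t' _ => ?_
  rw [FinCov.sum_app, Finset.sum_eq_single t]
  · rw [KLin.smul_app_apply]
    show _ • (Sigma.ι (fun _ : Fin d => Coh.structureModule X) t').app V ((FinCov.proj X d t).app V (std X t V)) = _
    rw [proj_app_std, if_pos rfl]
    rfl
  · intro t'' _ ht
    rw [KLin.smul_app_apply]
    show _ • (Sigma.ι (fun _ : Fin d => Coh.structureModule X) t').app V ((FinCov.proj X d t'').app V (std X t V)) = _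
    rw [proj_app_std, if_neg (Ne.symm ht), map_zero, smul_zero]
  · simp

theorem matHom_app (M : Matrix (Fin d) (Fin d) k) (V : X.Opens) (c : Fin d → Γ(X, V)) :
    (matHom k X d M).app V (∑ t, c t • std X t V) =
      ∑ t', (∑ t, kc (X ↘ Spec (CommRingCat.of k)) V (M t' t) * c t) • std X t' V := by
  rw [map_sum]
  simp only [Scheme.Modules.Hom.app_smul, matHom_std, Finset.smul_sum, smul_smul, Finset.sum_smul]
  rw [Finset.sum_comm]
  exact Finset.sum_congr rfl fun t' _ => Finset.sum_congr rfl fun t _ => by rw [mul_comm]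

theorem matHom_mul (M N : Matrix (Fin d) (Fin d) k) :
    matHom k X d (M * N) = matHom k X d N ≫ matHom k X d M := by
  refine hom_ext_std X fun t V => ?_
  show _ = (matHom k X d M).app V ((matHom k X d N).app V (std X t V))
  rw [matHom_std, matHom_std, matHom_app]
  refine Finset.sum_congr rfl fun t' _ => ?_
  rw [Matrix.mul_apply, map_sum]
  simp only [map_mul]

theorem matHom_algebraMap (r : k) :
    matHom k X d (algebraMap k (Matrix (Fin d) (Fin d) k) r) = r • 𝟙 (FlatMod.freeMod X d) := by
  refine hom_ext_std X fun t V => ?_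
  rw [matHom_std, KLin.smul_app_apply, Finset.sum_eq_single t]
  · rw [Matrix.algebraMap_matrix_apply, if_pos rfl]
    rfl
  · intro t' _ ht
    rw [Matrix.algebraMap_matrix_apply, if_neg ht, map_zero, zero_smul]
  · simp

theorem matHom_add (M N : Matrix (Fin d) (Fin d) k) :
    matHom k X d (M + N) = matHom k X d M + matHom k X d N := by
  simp [matHom, add_smul, Finset.sum_add_distrib]

theorem matHom_one : matHom k X d 1 = 𝟙 (FlatMod.freeMod X d) := by
  rw [← map_one (algebraMap k (Matrix (Fin d) (Fin d) k)), matHom_algebraMap, one_smul]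

theorem matHom_zero : matHom k X d 0 = 0 := by
  simp [matHom]

end MatEnd

section Action

variable {k : Type u} [Field k] {A : Type u} [Ring A] [Algebra k A] [FiniteDimensional k A] {m : ℕ}
  {K : Type u} [Field K] [Algebra k K] (e : K ⊗[k] A ≃ₐ[K] Matrix (Fin (m + 1)) (Fin (m + 1)) K)
  {X : Scheme.{u}} [X.Over (Spec (CommRingCat.of k))]
  (s : BrSev.SBStr k A ((m + 1) * (m + 1) - (m + 1)) (X ↘ Spec (CommRingCat.of k))) {d : ℕ}
  (b : Module.Basis (Fin d) k A)

/-- Left multiplication on the free module. -/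
def lmulHom (a : A) : FlatMod.freeMod X d ⟶ FlatMod.freeMod X d :=
  matHom k X d (Algebra.leftMulMatrix b a)

theorem lmulHom_comp (a : A) : tautι e s b ≫ lmulHom b a ≫ tautBeta e s b = 0 := by
  refine AffHom.hom_ext fun U w => ?_
  show (tautBeta e s b).app U.1 ((lmulHom b a).app U.1 ((tautι e s b).app U.1 w)) = _
  obtain ⟨c, hc⟩ := (std_bijective X (d := d) U.1).2 ((tautι e s b).app U.1 w)
  change ∑ t, c t • std X t U.1 = _ at hc
  have hmem : c ∈ idealOn b s (𝟙 X) U.2 := (tautBeta_eq_zero_iff e s b U.2 c).1 (by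
    rw [hc]
    exact congrArg (fun φ : taut e s b ⟶ _ => φ.app U.1 w) (tautι_condition e s b))
  rw [← hc, lmulHom, matHom_app]
  refine ((tautBeta_eq_zero_iff e s b U.2 _).2 ?_)
  refine mul_mem_idealOn b s (𝟙 X) U.2 a hmem ?_
  letI := secAlg (𝟙 X ≫ (X ↘ Spec (CommRingCat.of k))) U.1
  have hk : ∀ r : k, kc (X ↘ Spec (CommRingCat.of k)) U.1 r = algebraMap k Γ(X, U.1) r := fun r => by
    show _ = kc (𝟙 X ≫ (X ↘ Spec (CommRingCat.of k))) U.1 r
    rw [Category.id_comp]
  rw [coordEquiv_apply, coordEquiv_apply, Finset.mul_sum]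
  simp only [hk, Algebra.TensorProduct.tmul_mul_tmul, one_mul, TensorProduct.sum_tmul]
  rw [Finset.sum_comm]
  refine Finset.sum_congr rfl fun t _ => ?_
  have h1 : a * b t = ∑ t', Algebra.leftMulMatrix b a t' t • b t' := by
    conv_lhs => rw [← b.sum_repr (a * b t)]
    exact Finset.sum_congr rfl fun t' _ => by rw [Algebra.leftMulMatrix_eq_repr_mul]
  rw [h1, TensorProduct.tmul_sum]
  exact Finset.sum_congr rfl fun t' _ => by
    rw [TensorProduct.tmul_smul, TensorProduct.smul_tmul', Algebra.smul_def]

/-- Left multiplication on the tautological module. -/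
def actHom (a : A) : taut e s b ⟶ taut e s b :=
  kernel.lift (tautBeta e s b) (tautι e s b ≫ lmulHom b a) (by rw [Category.assoc, lmulHom_comp])

theorem actHom_ι (a : A) : actHom e s b a ≫ tautι e s b = tautι e s b ≫ lmulHom b a :=
  kernel.lift_ι _ _ _

/-- **The algebra acts on the tautological module.** -/
def tautAct : A →ₐ[k] End (taut e s b) where
  toFun := actHom e s b
  map_one' := (cancel_mono (tautι e s b)).1 (by
    rw [actHom_ι, lmulHom, map_one, matHom_one, Category.comp_id]
    exact (Category.id_comp _).symm)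
  map_mul' a a' := (cancel_mono (tautι e s b)).1 (by
    show _ = (actHom e s b a' ≫ actHom e s b a) ≫ tautι e s b
    rw [actHom_ι, Category.assoc, actHom_ι, ← Category.assoc, actHom_ι, Category.assoc, lmulHom, map_mul,
      matHom_mul]
    rfl)
  map_zero' := (cancel_mono (tautι e s b)).1 (by
    rw [actHom_ι, lmulHom, map_zero, matHom_zero, comp_zero]
    exact zero_comp.symm)
  map_add' a a' := (cancel_mono (tautι e s b)).1 (by
    rw [actHom_ι, Preadditive.add_comp, actHom_ι, actHom_ι, lmulHom, map_add, matHom_add, Preadditive.comp_add]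
    rfl)
  commutes' r := (cancel_mono (tautι e s b)).1 (by
    rw [actHom_ι, lmulHom, AlgHom.commutes, matHom_algebraMap, Linear.comp_smul, Category.comp_id]
    show _ = (r • 𝟙 (taut e s b)) ≫ tautι e s b
    rw [Linear.smul_comp, Category.id_comp])

end Action

section Type'

variable {k : Type u} [Field k] {A : Type u} [Ring A] [Algebra k A] [FiniteDimensional k A] {m : ℕ}
  {K : Type u} [Field K] [Algebra k K] (e : K ⊗[k] A ≃ₐ[K] Matrix (Fin (m + 1)) (Fin (m + 1)) K)
  {X : Scheme.{u}} {p : X ⟶ Spec (CommRingCat.of k)}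
  (s : BrSev.SBStr k A ((m + 1) * (m + 1) - (m + 1)) p) {d : ℕ} (b : Module.Basis (Fin d) k A)

theorem isInvertible_tautL : PicF.IsInvertible (tautL (m := m) (K := K)) := Cocycle.isInvertible_twist _ 1

theorem isQuasicoherent_taut : (taut e s b).IsQuasicoherent := by
  haveI := Euler.isQuasicoherent_freeMod X d
  haveI : QuasiCompact (tautMap e s) := inferInstance
  haveI : (∐ fun _ : Fin (m + 1) => tautL (m := m) (K := K)).IsQuasicoherent :=
    (Euler.isCoh_of_isFinLocFree (OX.isFinLocFree_sigma _ fun _ =>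
      Euler.isFinLocFree_of_isInvertible isInvertible_tautL)).1
  haveI : (pullFree (tautMap e s) d).IsQuasicoherent :=
    FittSheaf.isQuasicoherent_pullback (tautMap e s) (FlatMod.freeMod X d)
  haveI : (cokernel (tautSum e s b)).IsQuasicoherent := QCoh.isQuasicoherent_cokernel _
  haveI : ((Scheme.Modules.pushforward (tautMap e s)).obj (cokernel (tautSum e s b))).IsQuasicoherent :=
    QCoh.isQuasicoherent_pushforward (tautMap e s) _
  exact QCoh.isQuasicoherent_kernel _

theorem isFinLocFree_taut [IsProper p] : FlatMod.IsFinLocFree (taut e s b) := by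
  haveI := isQuasicoherent_taut e s b
  haveI : QuasiCompact (tautMap e s) := inferInstance
  have h : FlatMod.IsFinLocFree ((Scheme.Modules.pullback (tautMap e s)).obj (taut e s b)) :=
    DCoh.isFinLocFree_of_iso (asIso (tautLam e s b)).symm
      (OX.isFinLocFree_sigma _ fun _ => Euler.isFinLocFree_of_isInvertible isInvertible_tautL)
  exact FTDesc.isFinLocFree_of_pullback (tautMap e s) (taut e s b) h (Euler.isCoh_of_isFinLocFree h).2

/-- **The tautological module is isotypical of type `O(-1)`.** -/
theorem isTwPow_taut [IsAlgClosed K] (ε : BrSev.Splitting p K m) :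
    BrSev.IsTwPow ε (-1) (m + 1) (taut e s b) := by
  haveI := isIso_phi e s
  let φ : CohB1.ProjSpace m K ≅ BrSev.bc p K := asIso (SBAut21.phi e s)
  let Φ := Scheme.Modules.pullback φ.inv
  haveI : PreservesColimitsOfSize.{0, 0} Φ := preservesColimitsOfSize_shrink.{0, u, 0, u} _
  obtain ⟨l⟩ : Nonempty (tautL (m := m) (K := K) ≅ tw K m (-1)) := by
    have h := GrTilde.nonempty_inv_twist_iso (CohB1.polyGrading m K)
      (fun i : ULift.{u} (Fin (m + 1)) => (MvPolynomial.X i.down : MvPolynomial (Fin (m + 1)) K))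
      (fun i => X_mem i.down) (pcoc m K).cover 1
    simp only [Nat.cast_one] at h
    exact h
  obtain ⟨t⟩ := nonempty_pullback_tw_congr φ.symm ε.iso (-1)
  exact ⟨((Scheme.Modules.pullbackCongr (show φ.inv ≫ tautMap e s = BrSev.proj p K by
      simp [φ, tautMap])).app _).symm ≪≫ ((Scheme.Modules.pullbackComp φ.inv (tautMap e s)).app _).symm ≪≫
    Φ.mapIso (asIso (tautLam e s b)) ≪≫ PreservesCoproduct.iso Φ _ ≪≫
    Sigma.mapIso fun _ => Φ.mapIso l ≪≫ t⟩

end Type'

/-- A module with an action of the algebra which becomes the sum of copies of `O(-1)`. -/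
theorem exists_taut {k : Type u} [Field k] {A : Type u} [Ring A] [Algebra k A] [Algebra.IsCentral k A]
    [IsSimpleRing A] {n : ℕ} (hn : 0 < n) (hA : Module.finrank k A = n * n) {X : Scheme.{u}}
    [X.Over (Spec (CommRingCat.of k))] [IsProper (X ↘ Spec (CommRingCat.of k))]
    (hX : BrSev.IsSBOf k A (n * n - n) (X ↘ Spec (CommRingCat.of k))) (K : Type u) [Field K] [Algebra k K]
    [IsAlgClosed K] (ε : BrSev.Splitting (X ↘ Spec (CommRingCat.of k)) K (n - 1)) :
    ∃ I : X.Modules, FlatMod.IsFinLocFree I ∧ BrSev.IsTwPow ε (-1) n I ∧ Nonempty (A →ₐ[k] End I) := by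
  have : FiniteDimensional k A := Module.finite_of_finrank_pos (hA ▸ Nat.mul_pos hn hn)
  obtain ⟨s⟩ := hX
  obtain ⟨n', hn', ⟨e⟩⟩ := CSA.splits_algClosed (k := k) (A := A) K
  have hnn : n' = n := by
    have h := e.toLinearEquiv.finrank_eq
    rw [Module.finrank_baseChange, hA, Module.finrank_matrix, Fintype.card_fin,
      Module.finrank_self, mul_one] at h
    exact Nat.mul_self_inj.mp h.symm
  subst hnn
  obtain _ | m := n'
  · exact absurd hn (lt_irrefl 0)
  exact ⟨taut e s (Module.finBasisOfFinrankEq k A hA), isFinLocFree_taut e s _, isTwPow_taut e s _ ε,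
    ⟨tautAct e s _⟩⟩

end GrothLib.ASBun21
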