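import Groth.Agent.Lib.ASBun21.TautAct
import Groth.Agent.Lib.ASBun21.TautEnd
import Groth.Agent.Lib.BrauerEquiv.Period
import Groth.Agent.Lib.OX.PullbackTensor

/-!
# The multiplicities of the twisting types are the indices of the tensor powers
-/

set_option autoImplicit false
set_option linter.style.haveILetI false
set_option backward.isDefEq.respectTransparency false
set_option maxHeartbeats 2000000

universe u

open CategoryTheory CategoryTheory.Limits AlgebraicGeometry

noncomputable section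

namespace GrothLib.ASBun21

variable {k : Type u} [Field k] {A : Type u} [Ring A] [Algebra k A] [Algebra.IsCentral k A] [IsSimpleRing A]
  {n : ℕ} {X : Scheme.{u}} [X.Over (Spec (CommRingCat.of k))] [IsProper (X ↘ Spec (CommRingCat.of k))]
  {K : Type u} [Field K] [Algebra k K] [IsAlgClosure k K]

omit [IsProper (X ↘ Spec (CommRingCat.of k))] in
theorem isTwPow_unit {m : ℕ} (ε : BrSev.Splitting (X ↘ Spec (CommRingCat.of k)) K m) :
    BrSev.IsTwPow ε 0 1 (Coh.structureModule X) := by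
  obtain ⟨z⟩ := nonempty_tw_zero (K := K) (n := m)
  exact ⟨OX.pullUnitIso _ ≪≫ (OX.pullUnitIso ε.iso.hom).symm ≪≫
    (Scheme.Modules.pullback ε.iso.hom).mapIso z ≪≫ (coproductUniqueIso fun _ : Fin 1 => ε.twist 0).symm⟩

omit [IsProper (X ↘ Spec (CommRingCat.of k))] [IsAlgClosure k K] in
theorem isTwPow_tensor {m : ℕ} (ε : BrSev.Splitting (X ↘ Spec (CommRingCat.of k)) K m) {M N : X.Modules}
    {a b : ℤ} {r s : ℕ} (hM : BrSev.IsTwPow ε a r M) (hN : BrSev.IsTwPow ε b s N) :
    BrSev.IsTwPow ε (a + b) (r * s) ((TT M).obj N) := by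
  obtain ⟨iM⟩ := hM
  obtain ⟨iN⟩ := hN
  obtain ⟨t⟩ := nonempty_tw_add (K := K) (n := m) a b
  let P := Scheme.Modules.pullback ε.iso.hom
  let c : (TT (ε.twist a)).obj (ε.twist b) ≅ ε.twist (a + b) :=
    (OX.pullTensorIso ε.iso.hom _ _).symm ≪≫ P.mapIso t
  exact ⟨OX.pullTensorIso _ M N ≪≫ ((DCoh.tensorBi (X := BrSev.bc (X ↘ Spec (CommRingCat.of k)) K)).mapIso iM).app _ ≪≫
    (TT _).mapIso iN ≪≫ (nonempty_tensor_pow (ε.twist a) (ε.twist b) r s).some ≪≫ Sigma.mapIso fun _ => c⟩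

/-- The tensor powers of the algebra act on isotypical modules of negative type. -/
theorem exists_tpow_taut (hn : 0 < n) (hA : Module.finrank k A = n * n)
    (hX : BrSev.IsSBOf k A (n * n - n) (X ↘ Spec (CommRingCat.of k)))
    (ε : BrSev.Splitting (X ↘ Spec (CommRingCat.of k)) K (n - 1)) (i : ℕ) :
    ∃ T : X.Modules, FlatMod.IsFinLocFree T ∧ BrSev.IsTwPow ε (-(i : ℤ)) (n ^ i) T ∧
      Nonempty (CSAGal.tpow k A i →ₐ[k] End T) := by
  haveI : IsAlgClosed K := IsAlgClosure.isAlgClosed k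
  obtain ⟨I, hI, hIt, ⟨ρ⟩⟩ := exists_taut hn hA hX K ε
  induction i with
  | zero =>
    refine ⟨Coh.structureModule X, OX.isFinLocFree_structureModule X, ?_, ⟨(Algebra.ofId k _).comp
      (BrauerEquiv.tpowZero k A).toAlgHom⟩⟩
    rw [Nat.cast_zero, neg_zero, pow_zero]
    exact isTwPow_unit ε
  | succ i ih =>
    obtain ⟨T, hT, hTt, ⟨σ⟩⟩ := ih
    refine ⟨(TT T).obj I, OX.isFinLocFree_tensor hT hI, ?_,
      ⟨(endTensor k σ ρ).comp (CyclicAlg.tpowSucc k A i).toAlgHom⟩⟩
    rw [pow_succ, Nat.cast_succ, neg_add]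
    exact isTwPow_tensor ε hTt hIt

/-- **The multiplicity of a negative type is the index of the tensor power.** -/
theorem isIndex_of_isTwPow_neg (hn : 0 < n) (hA : Module.finrank k A = n * n)
    (hX : BrSev.IsSBOf k A (n * n - n) (X ↘ Spec (CommRingCat.of k)))
    (ε : BrSev.Splitting (X ↘ Spec (CommRingCat.of k)) K (n - 1)) (i : ℕ)
    {W : X.Modules} (hW : FlatMod.IsFinLocFree W) (hWi : Indec W) {r : ℕ} (hr : 0 < r)
    (hWt : BrSev.IsTwPow ε (-(i : ℤ)) r W) : CSAGal.IsIndex k (CSAGal.tpow k A i) r := by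
  classical
  haveI : Algebra.IsAlgebraic k K := IsAlgClosure.isAlgebraic
  haveI : IsAlgClosed K := IsAlgClosure.isAlgClosed k
  have : FiniteDimensional k A := Module.finite_of_finrank_pos (hA ▸ Nat.mul_pos hn hn)
  let p := X ↘ Spec (CommRingCat.of k)
  haveI := Euler.isNoetherian_of_proper (X := X) k
  obtain ⟨T, hT, ⟨iT⟩, ⟨σ⟩⟩ := exists_tpow_taut hn hA hX ε i
  obtain ⟨iW⟩ := hWt
  let L := ε.twist (-(i : ℤ))
  letI := overBC p K
  haveI : IsProper ((BrSev.bc p K) ↘ Spec (CommRingCat.of K)) :=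
    MorphismProperty.pullback_snd p _ (inferInstance : IsProper p)
  haveI := Euler.isNoetherian_of_proper (X := BrSev.bc p K) K
  haveI : IsIntegral (CohB1.ProjSpace (n - 1) K) := ProjDim.isIntegral_proj K (n - 1)
  haveI : Nonempty (BrSev.bc p K) := ⟨ε.iso.inv (Classical.arbitrary _)⟩
  haveI : IsIntegral (BrSev.bc p K) := isIntegral_of_isOpenImmersion ε.iso.hom
  have hL := isInvertible_twist ε (-(i : ℤ))
  have hL0 : ¬ IsZero L := not_isZero_of_isInvertible hL
  have hLs : ∀ φ : L ⟶ L, ∃ c : K, φ = c • 𝟙 L := exists_eq_smul (K := K) hL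
  have hLi : Indec L := indec_of_scalar hL0 hLs
  have hWc := Euler.isCoh_of_isFinLocFree hW
  have hTc := Euler.isCoh_of_isFinLocFree hT
  have hLc := Euler.isCoh_of_isFinLocFree (Euler.isFinLocFree_of_isInvertible hL)
  haveI := finite_hom k hWc hWc
  haveI := finite_hom k hTc hTc
  -- dimensions
  have hdim : ∀ {M : X.Modules} {N : ℕ}, Coh.IsCoh M → (BrSev.bcMod p K M ≅ ∐ fun _ : Fin N => L) →
      Module.finrank k (M ⟶ M) = N * N := fun {M N} hM e => by
    rw [finrank_hom_bc p K hM hM, ← finrank_end_pow K hL0 hLs N]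
    exact (endCongr K e).toLinearEquiv.finrank_eq
  -- the decomposition
  obtain ⟨mT⟩ := nonempty_pow_npow L (n ^ i)
  obtain ⟨mW⟩ := nonempty_pow_npow L r
  obtain ⟨l, ⟨el⟩, hl⟩ := exists_isotypical_decomp p K hT hLi hLc (iT ≪≫ mT)
  have hall : l.map cls = (List.replicate l.length W).map cls := by
    rw [List.map_replicate]
    refine List.eq_replicate_iff.2 ⟨by simp, fun q hq => ?_⟩
    obtain ⟨a, ha, rfl⟩ := List.mem_map.1 hq
    obtain ⟨hai, -, hac, t, -, -, ⟨et⟩⟩ := hl a ha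
    exact cls_eq.2 (nonempty_iso_of_isotypical p K hac hWc hai hWi et (iW ≪≫ mW))
  obtain ⟨el'⟩ := nonempty_lsum_of_map_cls l (List.replicate l.length W) hall
  obtain ⟨mq⟩ := nonempty_pow_npow W l.length
  let eT : T ≅ ∐ fun _ : Fin l.length => W := el ≪≫ el' ≪≫ mq.symm
  -- the algebras
  obtain ⟨_, _, _⟩ := BrauerEquiv.csa_tpow (k := k) A i
  have hdT : Module.finrank k (T ⟶ T) = n ^ i * n ^ i := hdim hTc iT
  haveI : Nontrivial (End T) :=
    Module.nontrivial_of_finrank_pos (R := k) (show 0 < Module.finrank k (T ⟶ T) by rw [hdT]; positivity)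
  have hinj : Function.Injective σ := σ.toRingHom.injective
  haveI : FiniteDimensional k (End T) := inferInstanceAs (FiniteDimensional k (T ⟶ T))
  have hsurj : Function.Surjective σ :=
    (LinearMap.injective_iff_surjective_of_finrank_eq_finrank (f := σ.toLinearMap) (by
      rw [BrauerEquiv.finrank_tpow, hA, mul_pow]
      exact hdT.symm)).1 hinj
  let eM : CSAGal.tpow k A i ≃ₐ[k] Matrix (Fin l.length) (Fin l.length) (End W) :=
    (AlgEquiv.ofBijective σ ⟨hinj, hsurj⟩).trans ((endCongr k eT).trans (endPowEquiv k W l.length))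
  have hq : 0 < l.length := Nat.pos_of_ne_zero fun h => by
    have h2 := eM.toLinearEquiv.finrank_eq
    rw [BrauerEquiv.finrank_tpow, Module.finrank_matrix, Fintype.card_fin, h, zero_mul, zero_mul, hA] at h2
    have : 0 < (n * n) ^ i := by positivity
    omega
  haveI : Nonempty (Fin l.length) := ⟨⟨0, hq⟩⟩
  haveI : IsSimpleRing (Matrix (Fin l.length) (Fin l.length) (End W)) :=
    IsSimpleRing.of_ringEquiv eM.toRingEquiv inferInstance
  haveI : IsSimpleRing (End W) := isSimpleRing_of_matrix (Fin l.length)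
  have hun : ∀ f : End W, IsUnit f ∨ f = 0 := fun f => or_iff_not_imp_right.2
    (isUnit_of_isSimpleRing (fun g => hWi.isUnit_or_isNilpotent k g) f)
  letI : DivisionRing (End W) := DivisionRing.ofIsUnitOrEqZero hun
  exact ⟨hr, l.length, End W, inferInstance, inferInstance, hq, (hdim hWc iW).trans (sq r).symm, ⟨eM⟩⟩

/-- **The multiplicity of a twisting type is the index of the tensor power.** -/
theorem isIndex_of_isTwPow (hn : 0 < n) (hA : Module.finrank k A = n * n)
    (hX : BrSev.IsSBOf k A (n * n - n) (X ↘ Spec (CommRingCat.of k)))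
    (ε : BrSev.Splitting (X ↘ Spec (CommRingCat.of k)) K (n - 1)) (j : ℤ)
    {W : X.Modules} (hW : FlatMod.IsFinLocFree W) (hWi : Indec W) {r : ℕ} (hr : 0 < r)
    (hWt : BrSev.IsTwPow ε j r W) : CSAGal.IsIndex k (CSAGal.tpow k A j.natAbs) r := by
  rcases Int.natAbs_eq j with h | h
  · haveI : Algebra.IsAlgebraic k K := IsAlgClosure.isAlgebraic
    haveI : IsAlgClosed K := IsAlgClosure.isAlgClosed k
    let p := X ↘ Spec (CommRingCat.of k)
    obtain ⟨W', r', hW', hW'i, hr', hW't⟩ := exists_indec_twPow ε (-j)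
    have hW't' : BrSev.IsTwPow ε (-(j.natAbs : ℤ)) r' W' := by rw [← h]; exact hW't
    have hidx := isIndex_of_isTwPow_neg hn hA hX ε j.natAbs hW' hW'i hr' hW't'
    suffices r' = r by rwa [← this]
    letI := overBC p K
    haveI : IsProper ((BrSev.bc p K) ↘ Spec (CommRingCat.of K)) :=
      MorphismProperty.pullback_snd p _ (inferInstance : IsProper p)
    obtain ⟨t⟩ := nonempty_tw_add (K := K) (n := n - 1) j (-j)
    obtain ⟨t'⟩ := nonempty_tw_add (K := K) (n := n - 1) (-j) j
    obtain ⟨z⟩ := nonempty_tw_zero (K := K) (n := n - 1)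
    let P := Scheme.Modules.pullback ε.iso.hom
    have hφ : ∀ a b : ℤ, a + b = 0 → Nonempty ((TT (ε.twist a)).obj (ε.twist b) ≅
        Coh.structureModule (BrSev.bc p K)) := fun a b hab => by
      obtain ⟨t⟩ := nonempty_tw_add (K := K) (n := n - 1) a b
      exact ⟨(OX.pullTensorIso ε.iso.hom _ _).symm ≪≫ P.mapIso (t ≪≫ eqToIso (by rw [hab]) ≪≫ z.symm) ≪≫
        OX.pullUnitIso ε.iso.hom⟩
    obtain ⟨φ⟩ := hφ j (-j) (add_neg_cancel j)
    obtain ⟨φ'⟩ := hφ (-j) j (neg_add_cancel j)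
    obtain ⟨a⟩ := hWt
    obtain ⟨b⟩ := hW't
    exact le_antisymm
      (le_of_inverse_types p K hW hWi.1 hW' hW'i (isInvertible_twist ε j) (isInvertible_twist ε (-j))
        (indec_twist ε (-j)) φ hr a b)
      (le_of_inverse_types p K hW' hW'i.1 hW hWi (isInvertible_twist ε (-j)) (isInvertible_twist ε j)
        (indec_twist ε j) φ' hr' b a)
  · refine isIndex_of_isTwPow_neg hn hA hX ε j.natAbs hW hWi hr ?_
    rw [← h]
    exact hWt

end GrothLib.ASBun21
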