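import Groth.Agent.Lib.SBAut21.Aut
import Groth.Agent.Lib.Ample.Comap
import Groth.Prelude.Def_ProjUP
import Mathlib.AlgebraicGeometry.Morphisms.Flat
import Mathlib.RingTheory.TensorProduct.Free
import Mathlib.LinearAlgebra.Dual.Lemmas

/-!
# The left ideals of the points of a Severi-Brauer scheme on affine opens
-/

set_option autoImplicit false
set_option linter.style.haveILetI false
set_option backward.isDefEq.respectTransparency false
set_option maxHeartbeats 1000000

universe u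

open CategoryTheory CategoryTheory.Limits AlgebraicGeometry TopologicalSpace Opposite
open scoped TensorProduct
open GrothLib.Ample (res res_res res_self appLE_res res_appLE)

noncomputable section

namespace GrothLib.ASBun21

open SBAut21 (bcA Pt sbMap)

section Coord

variable {k : Type u} [Field k] {A : Type u} [Ring A] [Algebra k A] {d : ℕ} (b : Module.Basis (Fin d) k A)

/-- Coordinates in the base change of an algebra. -/
def coordEquiv (R : Type u) [CommRing R] [Algebra k R] : (Fin d → R) ≃ₗ[R] R ⊗[k] A :=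
  (Algebra.TensorProduct.basis R b).equivFun.symm

theorem coordEquiv_apply (R : Type u) [CommRing R] [Algebra k R] (c : Fin d → R) :
    coordEquiv b R c = ∑ t, c t ⊗ₜ[k] b t := by
  rw [coordEquiv, Module.Basis.equivFun_symm_apply]
  refine Finset.sum_congr rfl fun t _ => ?_
  rw [Algebra.TensorProduct.basis_apply, TensorProduct.smul_tmul', smul_eq_mul, mul_one]

theorem bcA_coordEquiv {R S : Type u} [CommRing R] [Algebra k R] [CommRing S] [Algebra k S] (φ : R →ₐ[k] S)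
    (c : Fin d → R) : bcA φ (coordEquiv b R c) = coordEquiv b S (φ ∘ c) := by
  rw [coordEquiv_apply, coordEquiv_apply, map_sum]
  rfl

end Coord

section Alg

variable {k : Type u} [CommRing k] {Y Z : Scheme.{u}}

/-- The constants on an open. -/
def kc (w : Y ⟶ Spec (CommRingCat.of k)) (V : Y.Opens) : k →+* Γ(Y, V) :=
  (res (le_top : V ≤ ⊤)).comp (ProjUP.toGlobal w)

theorem res_kc (w : Y ⟶ Spec (CommRingCat.of k)) {V W : Y.Opens} (h : W ≤ V) (a : k) :
    res h (kc w V a) = kc w W a := res_res _ _ _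

theorem appLE_kc (h : Z ⟶ Y) (w : Y ⟶ Spec (CommRingCat.of k)) {w' : Z ⟶ Spec (CommRingCat.of k)}
    (hw : h ≫ w = w') {V : Y.Opens} {W : Z.Opens} (e : W ≤ h ⁻¹ᵁ V) (a : k) :
    h.appLE V W e (kc w V a) = kc w' W a := by
  subst hw
  show h.appLE V W e (res le_top (ProjUP.toGlobal w a)) = _
  rw [appLE_res]
  rfl

theorem kc_comp {K : Type u} [CommRing K] (φ : k →+* K) (w : Y ⟶ Spec (CommRingCat.of K)) (V : Y.Opens) :
    kc (w ≫ Spec.map (CommRingCat.ofHom φ)) V = (kc w V).comp φ := by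
  refine RingHom.ext fun a => congrArg (res (le_top : V ≤ ⊤)) ?_
  show (w ≫ Spec.map (CommRingCat.ofHom φ)).appTop ((Scheme.ΓSpecIso (CommRingCat.of k)).inv a) =
    w.appTop ((Scheme.ΓSpecIso (CommRingCat.of K)).inv (φ a))
  rw [Scheme.Hom.comp_appTop, CommRingCat.comp_apply]
  exact congrArg w.appTop (congr($(Scheme.ΓSpecIso_inv_naturality (CommRingCat.ofHom φ)) a)).symm

/-- The algebra of functions on an open. -/
@[reducible] def secAlg (w : Y ⟶ Spec (CommRingCat.of k)) (V : Y.Opens) : Algebra k Γ(Y, V) :=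
  (kc w V).toAlgebra

theorem fromSpec_comp (w : Y ⟶ Spec (CommRingCat.of k)) {V : Y.Opens} (hV : IsAffineOpen V) :
    hV.fromSpec ≫ w = Spec.map (CommRingCat.ofHom (kc w V)) := by
  rw [← IsAffineOpen.SpecMap_appLE_fromSpec w (isAffineOpen_top _) hV (le_top : V ≤ ⊤),
    IsAffineOpen.fromSpec_top, Scheme.isoSpec_Spec_inv, ← Spec.map_comp]
  refine congrArg Spec.map (CommRingCat.hom_ext (RingHom.ext fun a => ?_))
  rfl

theorem appLE_injective_of_flat_surjective (q : Z ⟶ Y) [Flat q] [Surjective q] (U : Y.Opens) :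
    Function.Injective (q.app U) := by
  rw [injective_iff_map_eq_zero]
  intro r hr
  refine TopCat.Presheaf.section_ext Y.sheaf U r 0 fun y hy => ?_
  obtain ⟨x, rfl⟩ := q.surjective y
  have hinj : Function.Injective (q.stalkMap x) := by
    algebraize [(q.stalkMap x).hom]
    have : Module.FaithfullyFlat (Y.presheaf.stalk (q x)) (Z.presheaf.stalk x) :=
      @Module.FaithfullyFlat.of_flat_of_isLocalHom _ _ _ _ _ _ _
        (Flat.stalkMap q x) (q.toLRSHom.prop x)
    exact ‹RingHom.FaithfullyFlat _›.injective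
  refine hinj ?_
  show q.stalkMap x (Y.presheaf.germ U (q x) hy r) = q.stalkMap x (Y.presheaf.germ U (q x) hy 0)
  rw [Scheme.Hom.germ_stalkMap_apply, Scheme.Hom.germ_stalkMap_apply, hr]
  simp

end Alg

section Ideal

variable {k : Type u} [Field k] {A : Type u} [Ring A] [Algebra k A] {c : ℕ} {d : ℕ}
  (b : Module.Basis (Fin d) k A) {X : Scheme.{u}} {p : X ⟶ Spec (CommRingCat.of k)}
  (s : BrSev.SBStr k A c p) {Y Z : Scheme.{u}}

/-- The point of an affine open. -/
def ptOn (q : Y ⟶ X) {V : Y.Opens} (hV : IsAffineOpen V) :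
    letI := secAlg (q ≫ p) V
    BrSev.Pts p Γ(Y, V) :=
  ⟨hV.fromSpec ≫ q, by rw [Category.assoc]; exact fromSpec_comp (q ≫ p) hV⟩

/-- The coordinates of the elements of the left ideal of the point of an affine open. -/
def idealOn (q : Y ⟶ X) {V : Y.Opens} (hV : IsAffineOpen V) : Submodule Γ(Y, V) (Fin d → Γ(Y, V)) :=
  letI := secAlg (q ≫ p) V
  (s.bij Γ(Y, V) (ptOn q hV)).1.toSubmodule.comap (coordEquiv b Γ(Y, V)).toLinearMap

theorem mem_idealOn (q : Y ⟶ X) {V : Y.Opens} (hV : IsAffineOpen V) (v : Fin d → Γ(Y, V)) :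
    letI := secAlg (q ≫ p) V
    v ∈ idealOn b s q hV ↔ coordEquiv b Γ(Y, V) v ∈ (s.bij Γ(Y, V) (ptOn q hV)).1.toSubmodule :=
  Iff.rfl

/-- The comparison of functions on opens, over the base. -/
def secHom (q : Y ⟶ X) (h : Z ⟶ Y) {q' : Z ⟶ X} (hq : h ≫ q = q') {V : Y.Opens} {W : Z.Opens}
    (e : W ≤ h ⁻¹ᵁ V) :
    letI := secAlg (q ≫ p) V
    letI := secAlg (q' ≫ p) W
    Γ(Y, V) →ₐ[k] Γ(Z, W) :=
  letI := secAlg (q ≫ p) V
  letI := secAlg (q' ≫ p) W
  { (h.appLE V W e).hom with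
    commutes' := fun a => appLE_kc h (q ≫ p) (by rw [← Category.assoc, hq]) e a }

variable (q : Y ⟶ X) (h : Z ⟶ Y) {q' : Z ⟶ X} (hq : h ≫ q = q') {V : Y.Opens} (hV : IsAffineOpen V)
  {W : Z.Opens} (hW : IsAffineOpen W) (e : W ≤ h ⁻¹ᵁ V)

theorem bij_ptOn :
    letI := secAlg (q ≫ p) V
    letI := secAlg (q' ≫ p) W
    s.bij Γ(Z, W) (ptOn q' hW) = sbMap (secHom (p := p) q h hq e) (s.bij Γ(Y, V) (ptOn q hV)) := by
  letI := secAlg (q ≫ p) V
  letI := secAlg (q' ≫ p) W
  rw [← SBAut21.bij_natural]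
  refine congrArg _ (Subtype.ext ?_)
  show hW.fromSpec ≫ q' = Spec.map (h.appLE V W e) ≫ hV.fromSpec ≫ q
  rw [← Category.assoc, IsAffineOpen.SpecMap_appLE_fromSpec h hV hW e, Category.assoc, hq]

include hq in
theorem idealOn_map :
    idealOn b s q' hW =
      Submodule.span Γ(Z, W) ((fun v t => (h.appLE V W e).hom (v t)) '' (idealOn b s q hV : Set (Fin d → Γ(Y, V)))) := by
  letI := secAlg (q ≫ p) V
  letI := secAlg (q' ≫ p) W
  let φ := secHom (p := p) q h hq e
  rw [idealOn, bij_ptOn s q h hq hV hW e, SBAut21.sbMap_toSubmodule, SBAut21.map_eq_span,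
    Submodule.comap_equiv_eq_map_symm, Submodule.map_span]
  refine congrArg _ (Set.ext fun v => ?_)
  simp only [Set.mem_image, SetLike.mem_coe]
  constructor
  · rintro ⟨_, ⟨x, hx, rfl⟩, rfl⟩
    obtain ⟨u, rfl⟩ := (coordEquiv b Γ(Y, V)).surjective x
    refine ⟨u, hx, ?_⟩
    simp only [LinearEquiv.coe_coe, bcA_coordEquiv, LinearEquiv.symm_apply_apply]
    rfl
  · rintro ⟨u, hu, rfl⟩
    refine ⟨_, ⟨_, hu, rfl⟩, ?_⟩
    simp only [LinearEquiv.coe_coe, bcA_coordEquiv, LinearEquiv.symm_apply_apply]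
    rfl

include hq in
theorem mem_idealOn_map {v : Fin d → Γ(Y, V)} (hv : v ∈ idealOn b s q hV) :
    (fun t => (h.appLE V W e).hom (v t)) ∈ idealOn b s q' hW := by
  rw [idealOn_map b s q h hq hV hW e]
  exact Submodule.subset_span ⟨v, hv, rfl⟩

include hq hW in
theorem mem_idealOn_of_injective (hinj : Function.Injective (h.appLE V W e)) {v : Fin d → Γ(Y, V)}
    (hv : (fun t => (h.appLE V W e).hom (v t)) ∈ idealOn b s q' hW) : v ∈ idealOn b s q hV := by
  letI := secAlg (q ≫ p) V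
  letI := secAlg (q' ≫ p) W
  rw [mem_idealOn, SBAut21.mem_iff_bcA_mem (secHom (p := p) q h hq e) _ hinj, bcA_coordEquiv,
    ← SBAut21.sbMap_toSubmodule, ← bij_ptOn s q h hq hV hW e]
  exact hv

theorem mul_mem_idealOn (q : Y ⟶ X) {V : Y.Opens} (hV : IsAffineOpen V) (a : A) {v w : Fin d → Γ(Y, V)}
    (hv : v ∈ idealOn b s q hV)
    (hw : letI := secAlg (q ≫ p) V
      coordEquiv b Γ(Y, V) w = (1 ⊗ₜ[k] a) * coordEquiv b Γ(Y, V) v) : w ∈ idealOn b s q hV := by
  letI := secAlg (q ≫ p) V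
  rw [mem_idealOn, hw]
  exact (s.bij Γ(Y, V) (ptOn q hV)).2 _ _ hv

/-- Membership in the ideal of a point is local. -/
theorem mem_idealOn_of_locally (q : Y ⟶ X) {V : Y.Opens} (hV : IsAffineOpen V) {v : Fin d → Γ(Y, V)}
    (hv : ∀ y ∈ V, ∃ (W : Y.Opens) (hW : IsAffineOpen W) (hWV : W ≤ V), y ∈ W ∧
      (fun t => res hWV (v t)) ∈ idealOn b s q hW) : v ∈ idealOn b s q hV := by
  letI := secAlg (q ≫ p) V
  rw [mem_idealOn]
  let N := (s.bij Γ(Y, V) (ptOn q hV)).1
  haveI := N.projective_quotient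
  rw [← Submodule.Quotient.mk_eq_zero, ← Module.forall_dual_apply_eq_zero_iff Γ(Y, V)]
  intro φ
  choose W hWa hWV hyW hWv using hv
  refine GrothLib.Ample.eq_of_cover (fun y : V => W y.1 y.2) (fun y => hWV y.1 y.2)
    (fun y hy => Opens.mem_iSup.2 ⟨⟨y, hy⟩, hyW y hy⟩) fun y => ?_
  rw [map_zero]
  have e : W y.1 y.2 ≤ 𝟙 Y ⁻¹ᵁ V := hWV y.1 y.2
  letI := secAlg (q ≫ p) (W y.1 y.2)
  let g := secHom (p := p) q (𝟙 Y) (Category.id_comp q) e
  have hg : ∀ r, g r = res (hWV y.1 y.2) r := fun r => by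
    show (𝟙 Y : Y ⟶ Y).appLE V (W y.1 y.2) e r = _
    simp [Scheme.Hom.appLE]
    try rfl
  have hm : bcA g (coordEquiv b Γ(Y, V) v) ∈ (Module.Grassmannian.map g N).toSubmodule := by
    rw [← SBAut21.sbMap_toSubmodule, ← bij_ptOn s q (𝟙 Y) (Category.id_comp q) hV (hWa y.1 y.2) e, bcA_coordEquiv]
    have : (g ∘ v : Fin d → Γ(Y, W y.1 y.2)) = fun t => res (hWV y.1 y.2) (v t) := funext fun t => hg (v t)
    rw [this]
    exact hWv y.1 y.2
  let : Algebra Γ(Y, V) Γ(Y, W y.1 y.2) := g.toAlgebra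
  let : IsScalarTower k Γ(Y, V) Γ(Y, W y.1 y.2) := IsScalarTower.of_algebraMap_eq' g.comp_algebraMap.symm
  rw [Module.Grassmannian.map_toSubmodule, LinearMap.mem_ker, SBAut21.baseChangeMkQ_bcA] at hm
  have h1 := congrArg (fun z => TensorProduct.rid Γ(Y, V) Γ(Y, W y.1 y.2) (φ.lTensor Γ(Y, W y.1 y.2) z)) hm
  simp only [LinearMap.lTensor_tmul, TensorProduct.rid_tmul, map_zero, Algebra.smul_def, mul_one] at h1
  exact (hg _).symm.trans h1

end Ideal

end GrothLib.ASBun21
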