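import Groth.Agent.Lib.ASBun21.Quantum
import Groth.Agent.Lib.ASBun21.Exists
import Groth.Agent.Lib.BrauerEquiv.PiTensor
import Groth.Agent.Lib.BrauerEquiv.Primary
import Groth.Agent.S13273
import Groth.Agent.Lib.ASBun21.Generic
import Mathlib.FieldTheory.KummerExtension
import Mathlib.Algebra.Central.Matrix
import Mathlib.RingTheory.SimpleRing.Matrix
import Mathlib.RingTheory.RootsOfUnity.AlgebraicallyClosed
import Mathlib.Data.Nat.Factors

/-!
# Algebras of prescribed period, index and degree
-/

set_option autoImplicit false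
set_option linter.style.haveILetI false
set_option backward.isDefEq.respectTransparency false
set_option maxHeartbeats 400000
set_option synthInstance.maxHeartbeats 100000

universe u v

open scoped TensorProduct

noncomputable section

namespace GrothLib.Quantum

open GrothLib.BrauerEquiv

theorem isSimpleRing_of_domain {K D : Type u} [Field K] [Ring D] [IsDomain D] [Algebra K D]
    [FiniteDimensional K D] : IsSimpleRing D := by
  letI := divisionRingOfFiniteDimensional K D
  exact DivisionRing.isSimpleRing D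

theorem isIndex_of_domain {K D : Type u} [Field K] [Ring D] [IsDomain D] [Algebra K D]
    [FiniteDimensional K D] {d : ℕ} (hd : Module.finrank K D = d ^ 2) : CSAGal.IsIndex K D d := by
  letI := divisionRingOfFiniteDimensional K D
  exact isIndex_of_division D D (CyclicAlg.matrixOne K D).symm hd

/-- A symbol algebra of prime degree with a constant that is a power is split. -/
theorem beq_of_root {F A : Type u} [Field F] [Ring A] [Algebra F A] [Algebra.IsCentral F A] [IsSimpleRing A]
    [FiniteDimensional F A] {n : ℕ} (hn : n.Prime) {ω : F} (hω : IsPrimitiveRoot ω n) {a b : Fˣ}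
    (h : CSAGal.IsSymbolAlg F n ω a b A) {β : F} (hβ : β ^ n = (a : F)) : BEq F A F := by
  obtain ⟨d, hd⟩ := exists_isIndex (k := F) A
  obtain ⟨x, y, hx, hy, hxy, -, -, hdim⟩ := h
  rcases hn.eq_one_or_self_of_dvd d (index_dvd_degree hd hdim) with rfl | hd'
  · exact beq_k_of_isIndex_one hd
  rw [hd'] at hd
  exfalso
  obtain ⟨-, r, D, _, _, hr, hD, ⟨e⟩⟩ := hd
  have hr1 : r = 1 := by
    have h1 := e.toLinearEquiv.finrank_eq
    rw [hdim, Module.finrank_matrix, hD, Fintype.card_fin] at h1
    have h2 : 1 * n ^ 2 = r * r * n ^ 2 := by rw [one_mul]; exact h1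
    exact Nat.eq_one_of_mul_eq_one_left (Nat.eq_of_mul_eq_mul_right (pow_pos hn.pos 2) h2).symm
  subst hr1
  let g := e.trans (CyclicAlg.matrixOne F D)
  have hprod := congrArg (Polynomial.aeval (g x)) (X_pow_sub_C_eq_prod hω hn.pos hβ)
  rw [map_sub, map_pow, Polynomial.aeval_X, Polynomial.aeval_C, ← map_pow, hx, g.commutes, sub_self,
    ← Finset.prod_map_toList, map_list_prod, List.map_map] at hprod
  obtain ⟨i, -, hi⟩ := List.mem_map.1 (List.prod_eq_zero_iff.1 hprod.symm)
  simp only [Function.comp_apply, map_sub, Polynomial.aeval_X, Polynomial.aeval_C, sub_eq_zero] at hi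
  set c := ω ^ i * β
  have hc : c ≠ 0 := mul_ne_zero (pow_ne_zero _ (hω.ne_zero hn.ne_zero)) fun h0 => a.ne_zero (by
    rw [← hβ, h0, zero_pow hn.ne_zero])
  have hy0 : g y ≠ 0 := fun h0 => by
    have := congrArg g hy
    rw [map_pow, h0, zero_pow hn.ne_zero, g.commutes, eq_comm, map_eq_zero] at this
    exact b.ne_zero this
  have h1 := congrArg g hxy
  rw [map_mul, map_smul, map_mul, hi, ← Algebra.commutes, Algebra.smul_def] at h1
  have h2 : (1 - algebraMap F D ω) * (g y * algebraMap F D c) = 0 := by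
    rw [sub_mul, one_mul, ← Algebra.commutes c (g y), sub_eq_zero]
    exact h1
  rw [← map_one (algebraMap F D), ← map_sub] at h2
  exact mul_ne_zero ((map_ne_zero _).2 (sub_ne_zero.2 (hω.ne_one hn.one_lt).symm))
    (mul_ne_zero hy0 ((map_ne_zero _).2 hc)) h2

open MvPolynomial

section Classes

variable {k : Type u} [Field k] {m : ℕ} {ω : Fin m → k} {n : Fin m → ℕ}
  (hn : ∀ j, 0 < n j) (hω : ∀ j, IsPrimitiveRoot (ω j) (n j))
  {K : Type u} [Field K] [Algebra (MvPolynomial (Var m) k) K] [IsFractionRing (MvPolynomial (Var m) k) K]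
  [Algebra k K] [IsScalarTower k (MvPolynomial (Var m) k) K]
  {F : Type u} [Field F] [Algebra (MvPolynomial (Var m) k) F] [IsFractionRing (MvPolynomial (Var m) k) F]
  [Algebra k F] [IsScalarTower k (MvPolynomial (Var m) k) F]
  [Algebra K F] [IsScalarTower k K F]
  (hpow : ∀ w : Var m, algebraMap K F (algebraMap (MvPolynomial (Var m) k) K (X w)) =
    algebraMap (MvPolynomial (Var m) k) F (X w) ^ n w.1)

theorem csa_alg (T : Finset (Fin m)) :
    Algebra.IsCentral K (alg hn hω hpow T) ∧ IsSimpleRing (alg hn hω hpow T) ∧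
      FiniteDimensional K (alg hn hω hpow T) ∧ CSAGal.IsIndex K (alg hn hω hpow T) (∏ j ∈ T, n j) := by
  haveI := finite_alg hn hω hpow T
  haveI := isDomain_alg hn hω hpow T
  exact ⟨isCentral_alg hn hω hpow T, isSimpleRing_of_domain (K := K), inferInstance,
    isIndex_of_domain (by rw [finrank_alg, Finset.prod_pow])⟩

end Classes

section Abstract

variable {k : Type u} [Field k] {m : ℕ} {ω : Fin m → k} {n : Fin m → ℕ}
  (hn : ∀ j, 0 < n j) (hω : ∀ j, IsPrimitiveRoot (ω j) (n j))
  {K : Type u} [Field K] [Algebra (MvPolynomial (Var m) k) K] [IsFractionRing (MvPolynomial (Var m) k) K]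
  [Algebra k K] [IsScalarTower k (MvPolynomial (Var m) k) K]
  {D : Finset (Fin m) → Type u} [∀ T, Ring (D T)] [∀ T, Algebra K (D T)]
  (csa_D : ∀ T, Algebra.IsCentral K (D T) ∧ IsSimpleRing (D T) ∧ FiniteDimensional K (D T) ∧
    CSAGal.IsIndex K (D T) (∏ j ∈ T, n j))
  (dim_D : ∀ T, Module.finrank K (D T) = ∏ j ∈ T, n j ^ 2)
  (tensor_D : ∀ T T', Disjoint T T' → Nonempty (D T ⊗[K] D T' ≃ₐ[K] D (T ∪ T')))
  (sym_D : ∀ (j : Fin m) (a b : Kˣ), (a : K) = algebraMap _ K (X (j, true) : MvPolynomial (Var m) k) →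
    (b : K) = algebraMap _ K (X (j, false) : MvPolynomial (Var m) k) →
      CSAGal.IsSymbolAlg K (n j) (algebraMap k K (ω j)) a b (D {j}))

include csa_D tensor_D in
theorem beq_tpow_D {p : ℕ} (T : Finset (Fin m)) (hT : ∀ j ∈ T, n j ∣ p) :
    GrothLib.BrauerEquiv.BEq K (CSAGal.tpow K (D T) p) K := by
  classical
  induction T using Finset.induction_on with
  | empty =>
    obtain ⟨_, _, _, hi⟩ := csa_D (∅ : Finset (Fin m))
    rw [Finset.prod_empty] at hi
    exact ((beq_k_of_isIndex_one hi).tpow p).trans (beq_tpow_k p)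
  | insert j T hj ih =>
    rw [Finset.insert_eq]
    obtain ⟨e⟩ := tensor_D _ _ (Finset.disjoint_singleton_left.2 hj)
    obtain ⟨_, _, _, hi⟩ := csa_D ({j} : Finset (Fin m))
    rw [Finset.prod_singleton] at hi
    obtain ⟨c, hc⟩ := hT j (Finset.mem_insert_self j T)
    have h1 : GrothLib.BrauerEquiv.BEq K (CSAGal.tpow K (D {j}) p) K := by
      rw [hc]; exact beq_tpow_mul (beq_tpow_index hi) c
    exact ((GrothLib.BrauerEquiv.BEq.of_algEquiv e.symm).tpow p).trans ((beq_tpow_tensor p).trans
      ((h1.tensor (ih fun l hl => hT l (Finset.mem_insert_of_mem hl))).trans GrothLib.BrauerEquiv.BEq.tensor_k))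

include hn hω csa_D tensor_D sym_D in
/-- The exponent is divisible by the exceptional degree, given a field with constant other variables. -/
theorem dvd_core (L : Type u) [Field L] [Algebra K L] (j₀ : Fin m) (hp : ∀ j, j ≠ j₀ → (n j).Prime)
    (hroot : ∀ j, j ≠ j₀ → ∃ β : L, β ^ n j = algebraMap K L (algebraMap (MvPolynomial (Var m) k) K (X (j, true))))
    (hperL : ∀ (A : Type u) [Ring A] [Algebra L A] (a b : Lˣ),
      CSAGal.IsSymbolAlg L (n j₀) (algebraMap K L (algebraMap k K (ω j₀))) a b A →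
      (a : L) = algebraMap K L (algebraMap (MvPolynomial (Var m) k) K (X (j₀, true))) →
      (b : L) = algebraMap K L (algebraMap (MvPolynomial (Var m) k) K (X (j₀, false))) →
      CSAGal.IsPeriod L A (n j₀)) {e : ℕ}
    (he : GrothLib.BrauerEquiv.BEq K (CSAGal.tpow K (D Finset.univ) e) K) : n j₀ ∣ e := by
  classical
  have hX : ∀ w : Var m, algebraMap (MvPolynomial (Var m) k) K (X w) ≠ 0 := fun w =>
    (map_ne_zero_iff _ (IsFractionRing.injective _ _)).2 (X_ne_zero w)
  have hsym := fun j => sym_D j (Units.mk0 _ (hX (j, true))) (Units.mk0 _ (hX (j, false)))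
    rfl rfl
  have htriv : ∀ T : Finset (Fin m), j₀ ∉ T →
      GrothLib.BrauerEquiv.BEq L
        (L ⊗[K] D T)
        L := by
    intro T
    induction T using Finset.induction_on with
    | empty =>
      intro _
      obtain ⟨_, _, _, hi⟩ := csa_D (∅ : Finset (Fin m))
      rw [Finset.prod_empty] at hi
      exact ((beq_k_of_isIndex_one hi).baseChange _).trans (GrothLib.BrauerEquiv.BEq.of_algEquiv (Algebra.TensorProduct.rid K _ _))
    | insert j T hj ih =>
      intro hj₀
      rw [Finset.mem_insert, not_or] at hj₀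
      rw [Finset.insert_eq]
      obtain ⟨eT⟩ := tensor_D _ _ (Finset.disjoint_singleton_left.2 hj)
      obtain ⟨_, _, _, -⟩ := csa_D ({j} : Finset (Fin m))
      have h1 : GrothLib.BrauerEquiv.BEq L
          (L ⊗[K] D {j})
          L := by
        obtain ⟨_, _, _⟩ := CSAExtra.csa_baseChange K L
          (D {j})
        have hs := ASBun21.isSymbolAlg_baseChange (k := K)
          L (hsym j)
        obtain ⟨β, hβ⟩ := hroot j (Ne.symm hj₀.1)
        refine beq_of_root (hp j (Ne.symm hj₀.1)) ?_ hs (β := β) hβ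
        exact ((hω j).map_of_injective (algebraMap k K).injective).map_of_injective (algebraMap K L).injective
      exact ((GrothLib.BrauerEquiv.BEq.of_algEquiv eT.symm).baseChange _).trans ((GrothLib.BrauerEquiv.BEq.of_algEquiv (Azu.distribAlgEquiv K _ _ _)).trans
        ((h1.tensor (ih hj₀.2)).trans GrothLib.BrauerEquiv.BEq.tensor_k))
  obtain ⟨eu⟩ := tensor_D {j₀} (Finset.univ.erase j₀)
    (Finset.disjoint_singleton_left.2 (Finset.notMem_erase j₀ _))
  rw [← Finset.insert_eq, Finset.insert_erase (Finset.mem_univ j₀)] at eu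
  obtain ⟨_, _, _, -⟩ := csa_D ({j₀} : Finset (Fin m))
  obtain ⟨_, _, _⟩ := CSAExtra.csa_baseChange K L
    (D {j₀})
  have hs := ASBun21.isSymbolAlg_baseChange (k := K)
    L (hsym j₀)
  have hper := hperL (L ⊗[K] D {j₀}) _ _ hs rfl rfl
  refine (period_dvd_iff hper e).1 ?_
  have hA : GrothLib.BrauerEquiv.BEq L
      (L ⊗[K] D Finset.univ)
      (L ⊗[K] D {j₀}) :=
    ((GrothLib.BrauerEquiv.BEq.of_algEquiv eu.symm).baseChange _).trans ((GrothLib.BrauerEquiv.BEq.of_algEquiv (Azu.distribAlgEquiv K _ _ _)).trans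
      (((htriv _ (Finset.notMem_erase j₀ _)).tensor_left).trans GrothLib.BrauerEquiv.BEq.tensor_k))
  exact ((hA.tpow e).symm.trans (beq_baseChange_tpow _ _ e).symm).trans
    ((he.baseChange _).trans (GrothLib.BrauerEquiv.BEq.of_algEquiv (Algebra.TensorProduct.rid K _ _)))

include hn hω csa_D tensor_D sym_D in
/-- The exponent of the class is a multiple of the degree of the exceptional factor. -/
theorem dvd_of_beq_tpow (j₀ : Fin m) (hp : ∀ j, j ≠ j₀ → (n j).Prime) {e : ℕ}
    (he : GrothLib.BrauerEquiv.BEq K (CSAGal.tpow K (D Finset.univ) e) K) : n j₀ ∣ e := by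
  classical
  let c : k →+* AlgebraicClosure K := (algebraMap K (AlgebraicClosure K)).comp (algebraMap k K)
  let al : Var m → AlgebraicClosure K := fun w =>
    algebraMap K (AlgebraicClosure K) (algebraMap (MvPolynomial (Var m) k) K (X w))
  let v : Var m → MvPolynomial (Fin 2) (AlgebraicClosure K) := fun w =>
    if w.1 = j₀ then X (if w.2 then 0 else 1) else C (al w)
  let g : MvPolynomial (Var m) k →+* MvPolynomial (Fin 2) (AlgebraicClosure K) := eval₂Hom (C.comp c) v
  let r : MvPolynomial (Fin 2) (AlgebraicClosure K) →+* AlgebraicClosure K :=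
    eval₂Hom (RingHom.id _) ![al (j₀, true), al (j₀, false)]
  have hrg : r.comp g = (algebraMap K (AlgebraicClosure K)).comp (algebraMap (MvPolynomial (Var m) k) K) := by
    refine MvPolynomial.ringHom_ext (fun a => ?_) fun w => ?_
    · simp only [RingHom.comp_apply, g, r, eval₂Hom_C, c, RingHom.id_apply]
      rw [← MvPolynomial.algebraMap_eq, ← IsScalarTower.algebraMap_apply k (MvPolynomial (Var m) k) K]
    · simp only [RingHom.comp_apply, g, r, eval₂Hom_X', v, al]
      obtain ⟨l, _ | _⟩ := w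
      · by_cases h : l = j₀
        · subst h; simp
        · simp [h]
      · by_cases h : l = j₀
        · subst h; simp
        · simp [h]
  let gL : MvPolynomial (Var m) k →+* FractionRing (MvPolynomial (Fin 2) (AlgebraicClosure K)) :=
    (algebraMap (MvPolynomial (Fin 2) (AlgebraicClosure K)) _).comp g
  have hgL : Function.Injective gL := (IsFractionRing.injective _ _).comp fun a b h =>
    (algebraMap K (AlgebraicClosure K)).injective.comp (IsFractionRing.injective (MvPolynomial (Var m) k) K)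
      ((RingHom.congr_fun hrg a).symm.trans ((congrArg r h).trans (RingHom.congr_fun hrg b)))
  letI : Algebra K (FractionRing (MvPolynomial (Fin 2) (AlgebraicClosure K))) :=
    (IsFractionRing.lift (K := K) hgL).toAlgebra
  have hlift : ∀ p, algebraMap K (FractionRing (MvPolynomial (Fin 2) (AlgebraicClosure K)))
      (algebraMap (MvPolynomial (Var m) k) K p) = gL p := fun p => IsFractionRing.lift_algebraMap hgL p
  have hliftC : ∀ a : k, algebraMap K (FractionRing (MvPolynomial (Fin 2) (AlgebraicClosure K))) (algebraMap k K a) =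
      algebraMap (MvPolynomial (Fin 2) (AlgebraicClosure K)) _ (C (c a)) := fun a => by
    rw [IsScalarTower.algebraMap_apply k (MvPolynomial (Var m) k) K, hlift, MvPolynomial.algebraMap_eq]
    simp only [gL, g, RingHom.comp_apply, eval₂Hom_C]
  exact dvd_core hn hω csa_D tensor_D sym_D (FractionRing (MvPolynomial (Fin 2) (AlgebraicClosure K))) j₀ hp
    (fun j hj => by
      obtain ⟨β, hβ⟩ := IsAlgClosed.exists_pow_nat_eq (al (j, true)) (hn j)
      refine ⟨algebraMap (MvPolynomial (Fin 2) (AlgebraicClosure K)) _ (C β), ?_⟩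
      rw [hlift, ← map_pow, ← map_pow, hβ]
      simp only [gL, g, RingHom.comp_apply, eval₂Hom_X', v, if_neg hj])
    (fun A _ _ a b hs ha hb => by
      rw [hliftC] at hs
      refine Groth.Agent.S13273.result (AlgebraicClosure K) (n j₀) (hn j₀) (c (ω j₀))
        ((hω j₀).map_of_injective c.injective) a b ?_ ?_ A hs
      · rw [ha, hlift]
        simp [gL, g, v]
      · rw [hb, hlift]
        simp [gL, g, v]) he

include hn hω csa_D dim_D tensor_D sym_D in
theorem exists_type_abstract {p i d : ℕ} (j₀ : Fin m) (hp0 : n j₀ = p) (hprime : ∀ j, j ≠ j₀ → (n j).Prime)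
    (hdvd : ∀ j, n j ∣ p) (hprod : ∏ j, n j = i) (hd : 0 < d) (hid : i ∣ d) :
    ∃ (A : Type u) (_ : Ring A) (_ : Algebra K A),
      Algebra.IsCentral K A ∧ IsSimpleRing A ∧ Module.finrank K A = d * d ∧
      CSAGal.IsPeriod K A p ∧ CSAGal.IsIndex K A i := by
  obtain ⟨_, _, _, hi⟩ := csa_D (Finset.univ : Finset (Fin m))
  haveI : Nontrivial (D Finset.univ) := IsSimpleRing.instNontrivial
  obtain ⟨r, rfl⟩ := hid
  have hr : r ≠ 0 := fun h => hd.ne' (by rw [h, mul_zero])
  haveI : Nonempty (Fin r) := ⟨⟨0, Nat.pos_of_ne_zero hr⟩⟩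
  have hfr : Module.finrank K (D (Finset.univ : Finset (Fin m))) = i ^ 2 := by
    rw [dim_D, Finset.prod_pow, hprod]
  let A := Matrix (Fin r) (Fin r) (D (Finset.univ : Finset (Fin m)))
  have hAD : GrothLib.BrauerEquiv.BEq K A (D (Finset.univ : Finset (Fin m))) := GrothLib.BrauerEquiv.BEq.matrix r hr
  haveI : FiniteDimensional K A := Module.Finite.matrix
  have hsplit : ∀ e, Curves.Splits K (CSAGal.tpow K A e) K ↔
      GrothLib.BrauerEquiv.BEq K (CSAGal.tpow K (D (Finset.univ : Finset (Fin m))) e) K := fun e => by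
    rw [splits_tpow_iff]
    exact ⟨(hAD.tpow e).symm.trans, (hAD.tpow e).trans⟩
  refine ⟨A, inferInstance, inferInstance, inferInstance, inferInstance, ?_, ⟨hp0 ▸ hn j₀, ?_, fun e he hlt => ?_⟩, ?_⟩
  · rw [Module.finrank_matrix, hfr, Fintype.card_fin]; ring
  · exact (hsplit p).2 (beq_tpow_D csa_D tensor_D _ fun j _ => hdvd j)
  · intro h
    have := dvd_of_beq_tpow hn hω csa_D tensor_D sym_D j₀ hprime ((hsplit e).1 h)
    rw [hp0] at this
    exact absurd (Nat.le_of_dvd he this) (not_le.2 hlt)
  · exact isIndex_congr hAD.symm (hprod ▸ hi)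

end Abstract

section Classes

variable {k : Type u} [Field k] {m : ℕ} {ω : Fin m → k} {n : Fin m → ℕ}
  (hn : ∀ j, 0 < n j) (hω : ∀ j, IsPrimitiveRoot (ω j) (n j))
  {K : Type u} [Field K] [Algebra (MvPolynomial (Var m) k) K] [IsFractionRing (MvPolynomial (Var m) k) K]
  [Algebra k K] [IsScalarTower k (MvPolynomial (Var m) k) K]
  {F : Type u} [Field F] [Algebra (MvPolynomial (Var m) k) F] [IsFractionRing (MvPolynomial (Var m) k) F]
  [Algebra k F] [IsScalarTower k (MvPolynomial (Var m) k) F]
  [Algebra K F] [IsScalarTower k K F]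
  (hpow : ∀ w : Var m, algebraMap K F (algebraMap (MvPolynomial (Var m) k) K (X w)) =
    algebraMap (MvPolynomial (Var m) k) F (X w) ^ n w.1)

include hn hω hpow in
theorem exists_type_of_alg {p i d : ℕ} (j₀ : Fin m) (hp0 : n j₀ = p) (hprime : ∀ j, j ≠ j₀ → (n j).Prime)
    (hdvd : ∀ j, n j ∣ p) (hprod : ∏ j, n j = i) (hd : 0 < d) (hid : i ∣ d) :
    ∃ (A : Type u) (_ : Ring A) (_ : Algebra K A),
      Algebra.IsCentral K A ∧ IsSimpleRing A ∧ Module.finrank K A = d * d ∧
      CSAGal.IsPeriod K A p ∧ CSAGal.IsIndex K A i :=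
  exists_type_abstract hn hω (D := fun T => alg hn hω hpow T) (csa_alg hn hω hpow) (finrank_alg hn hω hpow)
    (fun _ _ h => nonempty_tensor_equiv hn hω hpow h) (alg_singleton_symbol hn hω hpow) j₀ hp0 hprime hdvd hprod hd hid

end Classes

section Model

/-- The upper field of rational functions. -/
def Top (k : Type u) [Field k] (m : ℕ) : Type u := FractionRing (MvPolynomial (Var m) k)

instance (k : Type u) [Field k] (m : ℕ) : Field (Top k m) :=
  inferInstanceAs (Field (FractionRing (MvPolynomial (Var m) k)))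

instance (k : Type u) [Field k] (m : ℕ) : Algebra (MvPolynomial (Var m) k) (Top k m) :=
  inferInstanceAs (Algebra (MvPolynomial (Var m) k) (FractionRing (MvPolynomial (Var m) k)))

instance (k : Type u) [Field k] (m : ℕ) : IsFractionRing (MvPolynomial (Var m) k) (Top k m) :=
  inferInstanceAs (IsFractionRing (MvPolynomial (Var m) k) (FractionRing (MvPolynomial (Var m) k)))

theorem exists_type_model {k : Type u} [Field k] {m : ℕ} {ω : Fin m → k} {n : Fin m → ℕ}
    (hn : ∀ j, 0 < n j) (hω : ∀ j, IsPrimitiveRoot (ω j) (n j)) {p i d : ℕ} (j₀ : Fin m) (hp0 : n j₀ = p)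
    (hprime : ∀ j, j ≠ j₀ → (n j).Prime) (hdvd : ∀ j, n j ∣ p) (hprod : ∏ j, n j = i) (hd : 0 < d) (hid : i ∣ d) :
    ∃ (K : Type u) (_ : Field K) (A : Type u) (_ : Ring A) (_ : Algebra K A),
      Algebra.IsCentral K A ∧ IsSimpleRing A ∧ Module.finrank K A = d * d ∧
      CSAGal.IsPeriod K A p ∧ CSAGal.IsIndex K A i := by
  letI : Algebra k (Top k m) :=
    ((algebraMap (MvPolynomial (Var m) k) (Top k m)).comp (algebraMap k (MvPolynomial (Var m) k))).toAlgebra
  haveI : IsScalarTower k (MvPolynomial (Var m) k) (Top k m) := IsScalarTower.of_algebraMap_eq' rfl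
  have hinj : Function.Injective (expand' (k := k) n) := fun a b h => MvPolynomial.ext _ _ fun g => by
    have hc : ∀ q : MvPolynomial (Var m) k, coeff (nh n g) (expand' n q) = coeff g q := by
      intro q
      induction q using MvPolynomial.induction_on' with
      | monomial g' c =>
        rw [expand'_monomial, coeff_monomial, coeff_monomial]
        refine if_congr ⟨fun h' => Finsupp.ext fun w => ?_, fun h' => h' ▸ rfl⟩ rfl rfl
        exact Nat.eq_of_mul_eq_mul_left (hn w.1) (DFunLike.congr_fun h' w)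
      | add q q' hq hq' => rw [map_add, coeff_add, hq, hq', coeff_add]
    rw [← hc a, h, hc]
  have hgi : Function.Injective ((algebraMap (MvPolynomial (Var m) k) (Top k m)).comp (expand' (k := k) n).toRingHom) :=
    (IsFractionRing.injective _ _).comp hinj
  letI : Algebra (FractionRing (MvPolynomial (Var m) k)) (Top k m) :=
    (IsFractionRing.lift (K := FractionRing (MvPolynomial (Var m) k)) hgi).toAlgebra
  have hlift : ∀ q, algebraMap (FractionRing (MvPolynomial (Var m) k)) (Top k m) (algebraMap _ _ q) =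
      algebraMap _ _ (expand' n q) := fun q => IsFractionRing.lift_algebraMap hgi q
  haveI : IsScalarTower k (FractionRing (MvPolynomial (Var m) k)) (Top k m) := IsScalarTower.of_algebraMap_eq fun a => by
    rw [IsScalarTower.algebraMap_apply k (MvPolynomial (Var m) k) (FractionRing (MvPolynomial (Var m) k)), hlift,
      AlgHom.commutes, ← IsScalarTower.algebraMap_apply k (MvPolynomial (Var m) k) (Top k m)]
  exact ⟨FractionRing (MvPolynomial (Var m) k), inferInstance,
    exists_type_of_alg hn hω (F := Top k m) (fun w => by rw [hlift, ← map_pow]; simp [expand']) j₀ hp0 hprime hdvd hprod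
      hd hid⟩

/-- Severi-Brauer schemes of every type exist. -/
theorem exists_type {p i d : ℕ} (hp : 0 < p) (hi : 0 < i) (hd : 0 < d) (hpi : p ∣ i) (hid : i ∣ d)
    (hprimes : ∀ q : ℕ, q.Prime → q ∣ i → q ∣ p) :
    ∃ (k : Type u) (_ : Field k) (A : Type u) (_ : Ring A) (_ : Algebra k A),
      Algebra.IsCentral k A ∧ IsSimpleRing A ∧ Module.finrank k A = d * d ∧
      CSAGal.IsPeriod k A p ∧ CSAGal.IsIndex k A i := by
  obtain ⟨c, rfl⟩ := hpi
  have hc : c ≠ 0 := fun h => hi.ne' (by rw [h, mul_zero])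
  let l := c.primeFactorsList
  let n : Fin (l.length + 1) → ℕ := Fin.cons p fun j => l[(j : ℕ)]
  have hq : ∀ j : Fin l.length, (l[(j : ℕ)]).Prime ∧ l[(j : ℕ)] ∣ p := fun j => by
    have hmem : l[(j : ℕ)] ∈ c.primeFactorsList := List.getElem_mem _
    exact ⟨Nat.prime_of_mem_primeFactorsList hmem, hprimes _ (Nat.prime_of_mem_primeFactorsList hmem)
      (dvd_mul_of_dvd_right (Nat.dvd_of_mem_primeFactorsList hmem) p)⟩
  have hn : ∀ j, 0 < n j := Fin.cases hp fun j => (hq j).1.pos
  let k := AlgebraicClosure (ULift.{u} ℚ)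
  haveI : CharZero (ULift.{u} ℚ) := ⟨fun a b h => Nat.cast_injective (R := ℚ) (congrArg ULift.down h)⟩
  haveI : CharZero k := charZero_of_injective_algebraMap (algebraMap (ULift.{u} ℚ) k).injective
  have hω : ∀ j, ∃ ω : k, IsPrimitiveRoot ω (n j) := fun j => by
    haveI : NeZero (n j : k) := ⟨Nat.cast_ne_zero.2 (hn j).ne'⟩
    exact HasEnoughRootsOfUnity.exists_primitiveRoot k (n j)
  choose ω hω using hω
  refine exists_type_model hn hω 0 rfl (fun j hj => ?_) (Fin.cases dvd_rfl fun j => (hq j).2) ?_ hd hid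
  · obtain ⟨j, rfl⟩ := Fin.exists_succ_eq.2 hj
    exact (hq j).1
  · rw [Fin.prod_cons]
    congr 1
    rw [← List.prod_ofFn, List.ofFn_getElem]
    exact Nat.prod_primeFactorsList hc

end Model

end GrothLib.Quantum
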