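import Groth.Agent.Lib.VA.ImmLoci
import Groth.Agent.Lib.VA.Local
import Groth.Agent.Lib.VA.AffImm
import Groth.Agent.Lib.RelProjK.ProjProps
import Groth.Agent.Lib.QCoh.Qcqs

/-!
# Sections of a very ample module on a proper scheme over an affine base

Every global section has affine locus, whose functions are generated by the ratios of all global sections.
-/

set_option autoImplicit false
set_option backward.isDefEq.respectTransparency false

universe u

open CategoryTheory CategoryTheory.Limits AlgebraicGeometry TopologicalSpace Opposite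
open GrothLib.InvExt (mres fres IsGen)
open GrothLib.Ample (Cocycle res)

noncomputable section

namespace GrothLib.ASBun21

open GrothLib.VA

variable {X Y : Scheme.{u}} {L : X.Modules} {g : X ⟶ Y}

/-- On a proper scheme the pieces of a lift which is an immersion are affine, with functions generated by ratios. -/
theorem affine_piece [IsProper g] {B : Bdl Y} {ψ : B.E ⟶ (Scheme.Modules.pushforward g).obj L} {r : X ⟶ B.P}
    {θ : B.O ⟶ (Scheme.Modules.pushforward r).obj L} (h : B.IsLift g ψ r θ) [IsImmersion r]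
    (U : Y.AffineZariskiSite) (e : Γ(B.E, U.1)) :
    IsAffineOpen (Tp g ψ U e) ∧ RS g ψ U e = ⊤ := by
  haveI := RelProjK.isSeparated_of_isRelProj B.isProj
  haveI : IsProper (r ≫ B.p) := by rw [h.comp]; infer_instance
  haveI : IsProper r := IsProper.of_comp r B.p
  haveI : IsClosedImmersion r := IsClosedImmersion.of_isPreimmersion _ r.isClosedMap.isClosed_range
  let t := toAff (Bdl.coord (g' := g) (ψ := ψ) U e)
  let j := Proj.awayι (RelProjK.dg B.S U) (ev B.j U e) (B.isSym.2 U.1 U.2 e) one_pos ≫ RelProjK.em B.p B.chart U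
  have htj : t ≫ j = (Tp g ψ U e).ι ≫ r := by
    rw [h.ι_comp, qp, Bdl.qc_eq, Category.assoc]
  haveI : IsImmersion (t ≫ j) := by rw [htj]; infer_instance
  haveI : IsImmersion t := IsImmersion.of_comp t j
  have hjpiece : ∀ z, j z ∈ B.piece U e := fun z => by
    show RelProjK.em B.p B.chart U _ ∈ _
    rw [mem_pc]
    exact (Proj.opensRange_awayι (RelProjK.dg B.S U) (ev B.j U e) (B.isSym.2 U.1 U.2 e) one_pos).le ⟨z, rfl⟩
  have hrange : Set.range t = j ⁻¹' Set.range r := by
    ext z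
    constructor
    · rintro ⟨x, rfl⟩
      exact ⟨(Tp g ψ U e).ι x, by rw [← Scheme.Hom.comp_apply, ← htj, Scheme.Hom.comp_apply]⟩
    · rintro ⟨x, hx⟩
      have hxT : x ∈ Tp g ψ U e := by
        rw [← h.preimage_piece U e]
        show r x ∈ B.piece U e
        rw [hx]; exact hjpiece z
      refine ⟨⟨x, hxT⟩, j.isOpenEmbedding.injective ?_⟩
      rw [← Scheme.Hom.comp_apply, htj, Scheme.Hom.comp_apply]
      exact hx
  haveI : IsClosedImmersion t := IsClosedImmersion.of_isPreimmersion _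
    (hrange ▸ r.isClosedMap.isClosed_range.preimage j.continuous)
  haveI hA : IsAffine (Tp g ψ U e : Scheme.{u}) := isAffine_of_isAffineHom t
  refine ⟨hA, ?_⟩
  have hsurj : Function.Surjective t.appTop := (IsClosedImmersion.isAffine_surjective_of_isAffine t).2
  refine eq_top_iff.2 fun b _ => ?_
  obtain ⟨z, hz⟩ := hsurj ((Tp g ψ U e).topIso.inv b)
  have hb : (Tp g ψ U e).topIso.inv b ∈ (Bdl.coord (g' := g) (ψ := ψ) U e).range := by
    refine ⟨(Scheme.ΓSpecIso _).hom z, ?_⟩
    rw [← toAff_appTop, Iso.hom_inv_id_apply]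
    exact hz
  rw [Bdl.range_coord] at hb
  obtain ⟨⟨b', hb'⟩, hbb⟩ := hb
  have hinj : Function.Injective (Tp g ψ U e).topIso.inv :=
    (ConcreteCategory.bijective_of_isIso (Tp g ψ U e).topIso.inv).1
  have : b' = b := hinj hbb
  exact this ▸ hb'

/-- A very ample module is very ample through all its sections. -/
theorem pieceImm_id {φ₀ : Y.Modules} (φ : φ₀ ⟶ (Scheme.Modules.pushforward g).obj L) (U : Y.AffineZariskiSite)
    (e : Γ(φ₀, U.1)) (hp : PieceImm g φ U e) :
    PieceImm g (𝟙 ((Scheme.Modules.pushforward g).obj L)) U (φ.app U.1 e) := by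
  refine isImmersion_toAff_of_range_le _ _ ?_ hp
  rintro _ ⟨⟨b, hb⟩, rfl⟩
  refine ⟨⟨b, ?_⟩, rfl⟩
  have key : RS g φ U e ≤ RS g (𝟙 ((Scheme.Modules.pushforward g).obj L)) U (φ.app U.1 e) := by
    refine Subring.closure_le.2 ?_
    rintro _ (⟨r, rfl⟩ | ⟨e', rfl⟩)
    · exact base_mem_RS g (𝟙 ((Scheme.Modules.pushforward g).obj L)) U (φ.app U.1 e) r
    · have hr : rat g (𝟙 ((Scheme.Modules.pushforward g).obj L)) U (φ.app U.1 e) (φ.app U.1 e') = rat g φ U e e' :=
        rat_eq (rat_spec g φ U e e')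
      exact hr ▸ rat_mem_RS g (𝟙 ((Scheme.Modules.pushforward g).obj L)) U (φ.app U.1 e) (φ.app U.1 e')
  exact key hb

variable [IsAffine Y] [IsProper g]

/-- The locus of a section of a very ample module on a proper scheme. -/
theorem isAffineOpen_locus_and_gen (c : Cocycle X) (hva : RelProj.IsRelVeryAmple g (c.twist 1)) (s : c.sect 1 ⊤) :
    IsAffineOpen (c.locus s) ∧
      ∀ b : Γ(X, c.locus s), b ∈ Subring.closure
        (Set.range (fun r : Γ(Y, ⊤) => res (le_top : c.locus s ≤ ⊤) (g.appTop r)) ∪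
          {x | ∃ t : c.sect 1 ⊤, x • c.sectRes (le_top : c.locus s ≤ ⊤) s = c.sectRes le_top t}) := by
  haveI : (c.twist 1).IsQuasicoherent :=
    Euler.isQuasicoherent_of_isFinLocFree (Euler.isFinLocFree_of_isInvertible (c.isInvertible_twist 1))
  obtain ⟨E, φ, -, hp⟩ := isRelVeryAmple_iff.mp hva
  have hp' : ∀ x, ∃ (U : Y.AffineZariskiSite) (e : Γ((Scheme.Modules.pushforward g).obj (c.twist 1), U.1)),
      x ∈ Tp g (𝟙 _) U e ∧ PieceImm g (𝟙 _) U e := fun x => by
    obtain ⟨U, e, hx, hpi⟩ := hp x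
    exact ⟨U, φ.app U.1 e, hx, pieceImm_id φ U e hpi⟩
  obtain ⟨B, hB⟩ := exists_bdl _ (QCoh.isQuasicoherent_pushforward g (c.twist 1))
  have key : ∀ (E' : Y.Modules) (ψ : E' ⟶ (Scheme.Modules.pushforward g).obj (c.twist 1)), B.E = E' →
      (∀ x, ∃ (U : Y.AffineZariskiSite) (e : Γ(E', U.1)), x ∈ Tp g ψ U e ∧ PieceImm g ψ U e) →
      ∀ (U : Y.AffineZariskiSite) (e : Γ(E', U.1)), IsAffineOpen (Tp g ψ U e) ∧ RS g ψ U e = ⊤ := by
    intro E' ψ hE' hp'
    subst hE'
    obtain ⟨r, θ, hl⟩ := Bdl.exists_lift (B := B) (g := g) (φ := ψ) fun x => by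
      obtain ⟨U, e, hx, -⟩ := hp' x
      exact ⟨U.1, U.2, e, mem_genOpen.mp hx⟩
    haveI := hl.isImmersion hp'
    exact fun U e => affine_piece hl U e
  let U₀ : Y.AffineZariskiSite := ⟨⊤, isAffineOpen_top Y⟩
  obtain ⟨haff, htop⟩ := key _ (𝟙 _) hB hp' U₀ s
  have hT : Tp g (𝟙 ((Scheme.Modules.pushforward g).obj (c.twist 1))) U₀ s = c.locus s := genOpen_twist c s
  refine ⟨hT ▸ haff, fun b => ?_⟩
  suffices h : ∀ (W : X.Opens) (hW : W = c.locus s) (b : Γ(X, W)), b ∈ Subring.closure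
      (Set.range (fun r : Γ(Y, ⊤) => res (le_top : W ≤ ⊤) (g.appTop r)) ∪
        {x | ∃ t : c.sect 1 ⊤, x • c.sectRes (le_top : W ≤ ⊤) s = c.sectRes le_top t}) from h _ rfl b
  rw [← hT]
  rintro W rfl b
  refine (htop.ge.trans (Subring.closure_le.2 ?_)) (Subring.mem_top b)
  rintro _ (⟨r, rfl⟩ | ⟨t, rfl⟩)
  · exact Subring.subset_closure (Or.inl ⟨r, rfl⟩)
  · refine Subring.subset_closure (Or.inr ⟨t, ?_⟩)
    have h := rat_spec g (𝟙 ((Scheme.Modules.pushforward g).obj (c.twist 1))) U₀ s t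
    exact Eq.trans (congrArg (rat g (𝟙 ((Scheme.Modules.pushforward g).obj (c.twist 1))) U₀ s t • ·)
      (c.mres_twist (n := 1) le_top (show c.sect 1 ⊤ from s)).symm)
      (h.symm.trans (c.mres_twist (n := 1) le_top (show c.sect 1 ⊤ from t)))

end GrothLib.ASBun21
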